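import Mathlib
import Cfsg.Agent.Perm.ZassField

/-! Affine permutation groups whose point stabiliser has an irreducible abelian normal subgroup
are one-dimensional semi-affine. -/

set_option autoImplicit false

open Subgroup MulAction Function

namespace Cfsg.Agent.Perm

/-- An additive bijection normalising an irreducible set of multiplications is semilinear. -/
theorem semilinear_of_normalizes {K : Type*} [Field K] [Finite K] (Λ : Set K)
    (hirr : ∀ X : AddSubgroup K, (∀ l ∈ Λ, ∀ x ∈ X, l * x ∈ X) → X = ⊥ ∨ X = ⊤) (η : K →+ K)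
    (hη : Injective η) (hn : ∀ l ∈ Λ, ∃ l', ∀ x, η (l * x) = l' * η x) :
    ∃ (σ : K ≃+* K) (c : Kˣ), ∀ x, η x = c * σ x := by
  have η1 : η 1 ≠ 0 := fun e => one_ne_zero (hη (e.trans (map_zero η).symm))
  let T : AddSubgroup K :=
    { carrier := {l | ∀ x, η (l * x) * η 1 = η l * η x}
      zero_mem' := fun x => by simp
      add_mem' := fun {l m} hl hm x => by rw [add_mul, map_add, map_add, add_mul, add_mul, hl, hm]
      neg_mem' := fun {l} hl x => by rw [neg_mul, map_neg, map_neg, neg_mul, neg_mul, hl] }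
  have hT : T = ⊤ := (hirr T fun l hl m hm x => by
    obtain ⟨l', hl'⟩ := hn l hl
    rw [mul_assoc, hl', hl', mul_assoc, hm, mul_assoc]).resolve_left fun h =>
      one_ne_zero (h.le (show (1 : K) ∈ T from fun x => by rw [one_mul, mul_comm]))
  have ηmul : ∀ l x, η (l * x) * η 1 = η l * η x := fun l => hT.ge (AddSubgroup.mem_top l)
  let σ : K →+* K :=
    { toFun := fun x => η x / η 1
      map_one' := div_self η1
      map_mul' := fun x y => by field_simp; exact ηmul x y
      map_zero' := by rw [map_zero, zero_div]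
      map_add' := fun x y => by rw [map_add, add_div] }
  exact ⟨RingEquiv.ofBijective σ (Finite.injective_iff_bijective.mp σ.injective), Units.mk0 _ η1,
    fun x => (mul_div_cancel₀ _ η1).symm⟩

variable {G Ω : Type*} [Group G] [MulAction G Ω]

open scoped IsMulCommutative in
theorem exists_semiaffine [Finite G] [Nontrivial Ω] {N A : Subgroup G} [hN : N.Normal] {a : Ω}
    (hNc : ∀ u ∈ N, ∀ v ∈ N, u * v = v * u) (htr : ∀ x, ∃ u ∈ N, u • a = x)
    (hreg : ∀ u ∈ N, u • a = a → u = 1) (hA : A ≤ stabilizer G a)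
    (hAc : ∀ u ∈ A, ∀ v ∈ A, u * v = v * u) (hAn : ∀ g : G, g • a = a → ∀ k ∈ A, g * k * g⁻¹ ∈ A)
    (hirr : ∀ W ≤ N, W ≠ ⊥ → (∀ k ∈ A, ∀ w ∈ W, k * w * k⁻¹ ∈ W) → W = N)
    (K : Type*) [Field K] [Finite K] (hK : Nat.card K = Nat.card Ω) :
    ∃ e : Ω ≃ K, (∀ g : G, ∃ (c : Kˣ) (d : K) (σ : K ≃+* K), ∀ x, e (g • x) = c * σ (e x) + d) ∧
      (∀ c, ∃ u ∈ N, ∀ x, e (u • x) = e x + c) ∧ e a = 0 ∧
        ∀ k ∈ A, ∃ l, ∀ x, e (k • x) = l * e x := by
  have : IsMulCommutative N := Core.isMulCommutative_of_forall hNc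
  let c : G → AddMonoid.End (Additive N) := fun k => MonoidHom.toAdditive
    (((MulAut.conj k).toMonoidHom.comp N.subtype).codRestrict N fun u => hN.conj_mem _ u.2 k)
  have hc : ∀ (k : G) (u : Additive N), ((c k • u).toMul : G) = k * u.toMul * k⁻¹ :=
    fun k u => rfl
  have : Finite (AddMonoid.End (Additive N)) := DFunLike.finite _
  obtain ⟨b, hb⟩ := exists_ne a
  obtain ⟨v₀, hv₀, rfl⟩ := htr b
  have hirr' : ∀ X : AddSubgroup (Additive N), (∀ k ∈ c '' A, ∀ v ∈ X, k • v ∈ X) →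
      X = ⊥ ∨ X = ⊤ := fun X hX => by
    rw [or_iff_not_imp_left]
    intro hX0
    have h1 := hirr (X.toSubgroup'.map N.subtype)
      (map_subtype_le _) (fun e => hX0 (by
        rw [map_eq_bot_iff_of_injective _ N.subtype_injective] at e
        exact AddSubgroup.toSubgroup'.injective (e.trans (BotHomClass.map_bot _).symm))) (by
        rintro k hk _ ⟨w, hw, rfl⟩
        exact ⟨_, hX _ ⟨k, hk, rfl⟩ _ hw, rfl⟩)
    rw [eq_top_iff]
    intro u _
    obtain ⟨w, hw, e⟩ := h1.ge u.toMul.2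
    obtain rfl : w = u.toMul := Subtype.ext e
    exact hw
  obtain ⟨L, _, _, e₀, he₀, -⟩ := exists_field_of_irreducible (R := AddMonoid.End (Additive N))
    (V := Additive N) (c '' A) (by
      rintro _ ⟨k, hk, rfl⟩ _ ⟨l, hl, rfl⟩
      ext u
      change k * (l * (u.toMul : G) * l⁻¹) * k⁻¹ = l * (k * (u.toMul : G) * k⁻¹) * l⁻¹
      calc _ = (k * l) * (u.toMul : G) * (k * l)⁻¹ := by group
        _ = _ := by rw [hAc k hk l hl]; group) hirr' (v₀ := Additive.ofMul ⟨v₀, hv₀⟩)
    fun h => hb (by rw [show v₀ = 1 from congrArg (fun x : Additive N => (x.toMul : G)) h, one_smul])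
  let κ : Additive N ≃ Ω := Equiv.ofBijective (fun u => (u.toMul : G) • a) ⟨fun u v h => by
    have := hreg _ (N.mul_mem (N.inv_mem v.toMul.2) u.toMul.2) (by
      rw [mul_smul, inv_smul_eq_iff]; exact h)
    exact Additive.toMul.injective (Subtype.ext (inv_mul_eq_one.mp this).symm), fun x =>
      let ⟨u, hu, e⟩ := htr x; ⟨Additive.ofMul ⟨u, hu⟩, e⟩⟩
  have hκ : ∀ u, κ u = (u.toMul : G) • a := fun u => rfl
  have := Fintype.ofFinite K
  let φ : K ≃+* L := FiniteField.ringEquivOfCardEq (by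
    rw [← Nat.card_eq_fintype_card, ← Nat.card_eq_fintype_card, hK, Nat.card_congr e₀.toEquiv,
      Nat.card_congr κ])
  let e : K ≃+ Additive N := φ.toAddEquiv.trans e₀
  have he : ∀ k ∈ A, ∃ l : K, ∀ x, c k • e x = e (l * x) := fun k hk =>
    let ⟨l, hl⟩ := he₀ _ ⟨k, hk, rfl⟩
    ⟨φ.symm l, fun x => (hl (φ x)).trans (congrArg e₀ (by simp))⟩
  have h0 : ∀ g : G, g • a = a → ∀ u, g • κ u = κ (c g • u) := fun g hg u => by
    rw [hκ, hκ, hc, mul_smul, mul_smul, inv_fix hg]
  have h1 : ∀ u v : Additive N, (u.toMul : G) • κ v = κ (v + u) := fun u v => by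
    rw [hκ, hκ, add_comm, toMul_add, coe_mul, mul_smul]
  refine ⟨κ.symm.trans e.toEquiv.symm, fun g => ?_, fun d => ⟨_, (e d).toMul.2, fun x => ?_⟩,
    ?_, fun k hk => ?_⟩
  · obtain ⟨u, hu, hu'⟩ := htr (g • a)
    have hg : (u⁻¹ * g) • a = a := by rw [mul_smul, ← hu', inv_smul_smul]
    obtain ⟨σ, d, hd⟩ := semilinear_of_normalizes {l | ∃ k ∈ A, ∀ x, c k • e x = e (l * x)}
      (fun X hX => by
        rcases hirr' (X.map e.toAddMonoidHom) (by
          rintro _ ⟨k, hk, rfl⟩ _ ⟨x, hx, rfl⟩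
          obtain ⟨l, hl⟩ := he k hk
          exact ⟨_, hX l ⟨k, hk, hl⟩ x hx, (hl x).symm⟩) with h | h
        · exact Or.inl ((AddSubgroup.map_eq_bot_iff_of_injective _ e.injective).mp h)
        · exact Or.inr (AddSubgroup.map_injective (f := e.toAddMonoidHom) e.injective
            (h.trans (AddSubgroup.map_top_of_surjective _ e.surjective).symm)))
      (e.symm.toAddMonoidHom.comp ((c (u⁻¹ * g) : Additive N →+ Additive N).comp e.toAddMonoidHom))
      (fun x y h => e.injective (κ.injective (MulAction.injective (u⁻¹ * g) (by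
        change _ • κ _ = _ • κ _
        rw [h0 _ hg, h0 _ hg]
        exact congrArg κ (e.symm.injective h))))) (by
        rintro l ⟨k, hk, hl⟩
        obtain ⟨l', hl'⟩ := he _ (hAn _ hg k hk)
        refine ⟨l', fun x => e.injective ?_⟩
        change e (e.symm (c _ • e _)) = e (l' * e.symm (c _ • e _))
        rw [← hl', ← hl, e.apply_symm_apply, e.apply_symm_apply]
        exact Additive.toMul.injective (Subtype.ext (by simp only [hc]; group)))
    refine ⟨d, e.symm (Additive.ofMul ⟨u, hu⟩), σ, fun x => ?_⟩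
    obtain ⟨y, rfl⟩ := κ.surjective x
    obtain ⟨y, rfl⟩ := e.surjective y
    have h2 : g • κ (e y) = κ (c (u⁻¹ * g) • e y + Additive.ofMul ⟨u, hu⟩) := by
      rw [← h1, ← h0 _ hg, smul_smul]
      exact congrArg (· • κ (e y)) (mul_inv_cancel_left u g).symm
    rw [h2]
    simp only [Equiv.trans_apply, Equiv.symm_apply_apply, AddEquiv.toEquiv_eq_coe,
      AddEquiv.coe_toEquiv_symm, EquivLike.coe_coe, map_add, AddEquiv.symm_apply_apply]
    exact congrArg (· + _) (hd y)
  · obtain ⟨y, rfl⟩ := κ.surjective x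
    rw [h1]
    simp
  · have : κ 0 = a := one_smul G a
    rw [← this]
    simp
  · obtain ⟨l, hl⟩ := he k hk
    refine ⟨l, fun x => ?_⟩
    obtain ⟨y, rfl⟩ := κ.surjective x
    obtain ⟨y, rfl⟩ := e.surjective y
    rw [h0 k (hA hk), hl]
    simp

end Cfsg.Agent.Perm
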