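import Mathlib
import Cfsg.Agent.Perm.Zass7

/-! Zassenhaus groups with abelian Frobenius kernel. -/

set_option autoImplicit false

open Subgroup MulAction Function
open scoped MatrixGroups

namespace Cfsg.Agent.Perm

variable {G Ω : Type*} [Group G] [MulAction G Ω]

theorem zass_le_of_comm [Finite Ω] (hZ : IsZassenhausGroup G Ω) {a b : Ω} (hab : a ≠ b)
    {F : Subgroup G} (hF : ZKer a F) (hFc : ∀ u ∈ F, ∀ v ∈ F, u * v = v * u) :
    Nat.card Ω - 2 ≤ 2 * Nat.card ↥(stabilizer G a ⊓ stabilizer G b) := by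
  rcases Nat.even_or_odd (Nat.card ↥(stabilizer G a ⊓ stabilizer G b)) with he | ho
  · exact (Z3.of_isZ hZ).le_two_mul_card hab he
  · rcases zass_feit _ rfl hZ hab ho hF with h | ⟨-, ⟨u, v, h⟩, -⟩
    · exact h
    · exact absurd (Subtype.ext (hFc u u.2 v v.2)) h

theorem zass_half [Finite Ω] (hZ : IsZassenhausGroup G Ω) {a b : Ω} (hab : a ≠ b)
    (hd : 2 * Nat.card ↥(stabilizer G a ⊓ stabilizer G b) + 2 = Nat.card Ω) :
    ∃ (K : Type) (_ : Field K) (_ : Fintype K), Nat.card Ω = Nat.card K + 1 ∧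
      Nonempty (G ≃* PSL(2, K)) := by
  have h := Z3.of_isZ hZ
  have := h.finite
  rcases Nat.even_or_odd (Nat.card ↥(stabilizer G a ⊓ stabilizer G b)) with he | ho
  · exact (h.even_half hab he (by omega)).2
  obtain ⟨F, hF, hF0, hFc⟩ := h.exists_elem hab (zass_one_lt hZ hab) (by omega)
  have hs : IsSimpleGroup G := by
    obtain ⟨g, hg, -⟩ := hZ.2.2.2.1
    have : Nontrivial G := ⟨g, 1, hg⟩
    refine ⟨fun N hN => or_iff_not_imp_left.mpr fun h0 => zass_eq_top hZ N hab ?_⟩
    have hFN := zass_ker_le hZ N h0 hF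
    have h2 : stabilizer N a ⊓ stabilizer N b = (stabilizer G a ⊓ stabilizer G b).subgroupOf N :=
      rfl
    have h3 := zass_le_of_comm (zass_normal hZ N h0) hab (F := F.subgroupOf N)
      ⟨fun u hu => hF.le u hu, fun g hg u hu => hF.conj g hg u hu, fun y z hy hz =>
        let ⟨u, hu, e⟩ := hF.trans y z hy hz; ⟨⟨u, hFN hu⟩, hu, e⟩,
        fun u hu y hy e => Subtype.ext (hF.free u hu y hy e)⟩
      fun u hu v hv => Subtype.ext (hFc u hu v hv)
    rw [h2, ← card_map_of_injective N.subtype_injective, subgroupOf_map_subtype] at h3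
    exact inf_eq_left.mp (eq_of_le_of_card_ge inf_le_left (by omega))
  obtain ⟨t, ht, ta, tb⟩ := h.exists_swap hab
  exact ident_half h hF hab.symm hF0 hFc hd ht ta tb fun k hk =>
    inverts_of_swap_mul_self (fun s => zass_simple_swap hZ hab) ta tb hk

end Cfsg.Agent.Perm
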