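import Mathlib
import Cfsg.Agent.Perm.Zass8
import Cfsg.Agent.Perm.Sharp4
import Cfsg.Agent.S1545

/-! Doubly transitive groups with trivial three-point stabilisers and a regular normal subgroup. -/

set_option autoImplicit false

open Subgroup MulAction Function

namespace Cfsg.Agent.Perm

variable {G Ω : Type*} [Group G] [MulAction G Ω]

theorem card_of_regular {N : Subgroup G} {a : Ω} (htr : ∀ x, ∃ u ∈ N, u • a = x)
    (hreg : ∀ u ∈ N, u • a = a → u = 1) : Nat.card N = Nat.card Ω :=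
  Nat.card_congr (Equiv.ofBijective (fun u : N => (u : G) • a) ⟨fun u v h => by
    have := hreg _ (N.mul_mem (N.inv_mem v.2) u.2) (by rw [mul_smul, inv_smul_eq_iff]; exact h)
    exact Subtype.ext (inv_mul_eq_one.mp this).symm, fun x =>
      let ⟨u, hu, e⟩ := htr x; ⟨⟨u, hu⟩, e⟩⟩)

theorem Z3.regular_normal [Finite Ω] (h : Z3 G Ω) {a b : Ω} (hab : a ≠ b)
    (h1 : 1 < Nat.card ↥(stabilizer G a ⊓ stabilizer G b)) (N : Subgroup G) [hN : N.Normal]
    (htr : ∀ x, ∃ u ∈ N, u • a = x) (hreg : ∀ u ∈ N, u • a = a → u = 1) :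
    (∀ u ∈ N, ∀ v ∈ N, u * v = v * u) ∧ (Nat.card ↥(stabilizer G a ⊓ stabilizer G b)).Prime ∧
      Nat.card Ω = 2 ^ Nat.card ↥(stabilizer G a ⊓ stabilizer G b) := by
  have := h.finite
  have : Nontrivial Ω := ⟨a, b, hab⟩
  have hfix := h.hfix_of_card hab h1
  obtain ⟨n, hn, na⟩ := htr b
  have hn1 : n ≠ 1 := fun e => hab (by rw [← na, e, one_smul])
  have inj : ∀ u ∈ N, ∀ v ∈ N, u • a = v • a → u = v := fun u hu v hv e =>
    (inv_mul_eq_one.mp (hreg _ (N.mul_mem (N.inv_mem hv) hu) (by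
      rw [mul_smul, e, inv_smul_smul]))).symm
  have c1 : ∀ k ∈ stabilizer G a ⊓ stabilizer G b, k * n = n * k := fun k hk =>
    mul_inv_eq_iff_eq_mul.mp (inj _ (hN.conj_mem n hn k) n hn (by
      rw [mul_smul, mul_smul, inv_fix hk.1, na]; exact hk.2))
  have c2 : ∀ k ∈ stabilizer G a ⊓ stabilizer G b, k ≠ 1 → ∀ u ∈ N, k * u = u * k →
      u = 1 ∨ u = n := fun k hk k1 u hu e =>
    (h.fix_cases (c := u • a) hab k1 hk.1 hk.2 (by rw [← mul_smul, e, mul_smul, hk.1])).imp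
      (hreg u hu) fun e => inj u hu n hn (e.trans na.symm)
  obtain ⟨k, k1, ka, kb⟩ := h.exists_fix_two hfix hab
  have n2 : n * n = 1 := (c2 k ⟨ka, kb⟩ k1 _ (N.mul_mem hn hn) (by
    rw [← mul_assoc, c1 k ⟨ka, kb⟩, mul_assoc, c1 k ⟨ka, kb⟩, mul_assoc])).resolve_right
      (by simpa using hn1)
  have sq : ∀ u ∈ N, u * u = 1 := fun u hu => by
    by_cases u1 : u = 1
    · simp [u1]
    obtain ⟨c, rfl⟩ := isConj_iff.mp (isConj_of_regular_normal h.two N a hreg hn hu hn1 u1)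
    calc _ = c * (n * n) * c⁻¹ := by group
      _ = 1 := by simp [n2]
  have comm : ∀ u ∈ N, ∀ v ∈ N, u * v = v * u := fun u hu v hv => by
    rw [eq_inv_of_mul_eq_one_left (sq _ (N.mul_mem hu hv)), mul_inv_rev,
      ← eq_inv_of_mul_eq_one_left (sq _ hu), ← eq_inv_of_mul_eq_one_left (sq _ hv)]
  have cN := card_of_regular htr hreg
  obtain ⟨c, hca, hcb⟩ := h.exists_third hfix hab
  have h3 : 2 < Nat.card Ω := by
    have := Fintype.ofFinite Ω
    rw [Nat.card_eq_fintype_card]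
    exact Fintype.two_lt_card_iff.mpr ⟨a, b, c, hab, hca.symm, hcb.symm⟩
  have : Fact (Nat.Prime 2) := ⟨Nat.prime_two⟩
  have hp : IsPGroup 2 N := fun u => ⟨1, Subtype.ext (by simpa [pow_two] using sq u u.2)⟩
  obtain ⟨m, hm⟩ := IsPGroup.iff_card.mp hp
  refine ⟨comm, ?_⟩
  rcases Nat.even_or_odd (Nat.card ↥(stabilizer G a ⊓ stabilizer G b)) with he | ho
  · obtain ⟨z, hz⟩ := exists_prime_orderOf_dvd_card' 2 he.two_dvd
    have z2 : (z : G) * z = 1 := by rw [← pow_two, ← coe_pow, ← hz, pow_orderOf_eq_one, coe_one]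
    have z1 : (z : G) ≠ 1 := fun e => by simp [show z = 1 from Subtype.ext e] at hz
    let σ : N →* N := ((MulAut.conj (z : G)).toMonoidHom.comp N.subtype).codRestrict N
      fun u => hN.conj_mem _ u.2 z
    have hfx : ∀ x : N, σ x = x → x = 1 ∨ x = ⟨n, hn⟩ := fun x hx =>
      (c2 z z.2 z1 x x.2 (mul_inv_eq_iff_eq_mul.mp (congrArg Subtype.val hx))).imp Subtype.ext
        Subtype.ext
    have h4 := card_le_two_mul_ncard σ hfx
    have h5 : (Set.range fun x : N => x⁻¹ * σ x) ⊆ {1, ⟨n, hn⟩} := by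
      rintro _ ⟨x, rfl⟩
      refine hfx _ (Subtype.ext ?_)
      change (z : G) * ((x : G)⁻¹ * (z * x * (z : G)⁻¹)) * (z : G)⁻¹ = (x : G)⁻¹ * (z * x * (z : G)⁻¹)
      rw [comm _ (N.inv_mem x.2) _ (hN.conj_mem _ x.2 z), ← eq_inv_of_mul_eq_one_left (sq _ x.2),
        ← eq_inv_of_mul_eq_one_left z2]
      calc _ = ((z : G) * z) * x * z * x * z := by group
        _ = x * (z * x * (z : G)⁻¹) := by rw [z2, ← eq_inv_of_mul_eq_one_left z2]; group
        _ = _ := by rw [comm _ x.2 _ (hN.conj_mem _ x.2 z), ← eq_inv_of_mul_eq_one_left z2]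
    have h6 := (Set.ncard_le_ncard h5).trans (Set.ncard_insert_le _ _)
    rw [Set.ncard_singleton] at h6
    have h7 := Nat.le_of_dvd (by omega) (h.card_two_dvd hab)
    have h8 : Nat.card ↥(stabilizer G a ⊓ stabilizer G b) = 2 := by omega
    rw [h8]
    exact ⟨Nat.prime_two, by omega⟩
  obtain ⟨F, hF, -⟩ := h.exists_zker hfix a
  have hF0 := hF.ne_bot hab.symm hca hcb
  have hG : Odd (Nat.card (stabilizer G a)) := by
    rw [h.card_stabilizer hab]
    refine Odd.mul (Nat.Even.sub_odd (by omega) ?_ odd_one) ho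
    rw [← cN, hm, Nat.even_pow]
    exact ⟨even_two, by rintro rfl; omega⟩
  have key : ∀ E ≤ stabilizer G a ⊓ stabilizer G b, E ≠ ⊥ → Nat.card Ω = 2 ^ Nat.card E := by
    intro E hE hE0
    have hle : F ⊔ E ≤ stabilizer G a := sup_le hF.le' (hE.trans inf_le_left)
    have := hp.isNilpotent
    have h4 := S1545.result F E N hF0 hE0 (eq_bot_iff.mpr fun u hu => hF.free u hu.1 b hab.symm
      (hE hu.2).2) (fun e he u hu => hF.conj e (hE he).1 u hu) (fun e he e1 u hu hc =>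
        hF.eq_one_of_commute h hab.symm e1 (hE he).1 (hE he).2 hu hc)
      (fun x _ u hu => hN.conj_mem u hu x) (eq_bot_iff.mpr fun u hu => hreg u hu.1 (hle hu.2))
      inferInstance (by
        rw [hm]
        exact Nat.Coprime.pow_left _ (Nat.coprime_two_left.mpr (hG.of_dvd_nat (card_dvd_of_le hle))))
    have h5 : N ⊓ centralizer (F : Set G) = ⊥ := eq_bot_iff.mpr fun u hu => hreg u hu.1 (by
      by_contra hc
      obtain ⟨v, hv⟩ := ne_bot_iff_exists_ne_one.mp hF0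
      exact hv (Subtype.ext (hF.free v v.2 _ hc (by
        rw [← mul_smul, hu.2 v v.2, mul_smul, hF.le v v.2]))))
    have h6 : N ⊓ centralizer ((F ⊔ E : Subgroup G) : Set G) = ⊥ :=
      eq_bot_iff.mpr ((inf_le_inf_left N (centralizer_le (le_sup_left : F ≤ F ⊔ E))).trans h5.le)
    have h7 : N ⊓ centralizer (E : Set G) = zpowers n := by
      obtain ⟨v, hv⟩ := ne_bot_iff_exists_ne_one.mp hE0
      refine le_antisymm (fun u hu => ?_) (zpowers_le.mpr ⟨hn, fun k hk => c1 k (hE hk)⟩)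
      rcases c2 v (hE v.2) (fun e => hv (Subtype.ext e)) u hu.1 (hu.2 v v.2) with rfl | rfl
      · exact one_mem _
      · exact mem_zpowers _
    rwa [h5, h6, h7, card_bot, one_pow, one_mul, mul_one, Nat.card_zpowers, cN,
      orderOf_eq_prime (by rwa [pow_two]) hn1] at h4
  have h4 := key _ le_rfl (h.ne_bot hfix hab)
  obtain ⟨r, hr, hrd⟩ := Nat.exists_prime_and_dvd h1.ne'
  have := Fact.mk hr
  obtain ⟨x, hx⟩ := exists_prime_orderOf_dvd_card' r hrd
  rw [← orderOf_coe] at hx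
  have h5 := key (zpowers (x : G)) (zpowers_le.mpr x.2) (fun e => by
    rw [zpowers_eq_bot.mp e, orderOf_one] at hx; exact hr.one_lt.ne hx)
  rw [Nat.card_zpowers, hx, h4] at h5
  exact ⟨Nat.pow_right_injective le_rfl h5 ▸ hr, h4⟩

end Cfsg.Agent.Perm
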