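import Mathlib
import Cfsg.Agent.Perm.Zass9
import Cfsg.Agent.Perm.SemiAff
import Cfsg.Agent.Perm.PrimeDegree
import Cfsg.Agent.Perm.Sharp2
import Cfsg.Agent.Classical.Congr

/-! Transitive groups of degree `p + 1` and order `(p + 1) p d` with `d < p`. -/

set_option autoImplicit false

open Subgroup MulAction Function
open Cfsg.Agent.Classical.Congr
open scoped MatrixGroups

namespace Cfsg.Agent.Perm

variable {G Ω : Type*} [Group G] [MulAction G Ω]

theorem z3_of_succ_prime [FaithfulSMul G Ω] [IsPretransitive G Ω] {p d : ℕ} [hp : Fact p.Prime]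
    (hΩ : Nat.card Ω = p + 1) (hG : Nat.card G = (p + 1) * p * d) (hd : d < p) (a : Ω) :
    Z3 G Ω ∧ ∃ F : Subgroup G, ZKer a F ∧ ∀ u ∈ F, ∀ v ∈ F, u * v = v * u := by
  have : Finite Ω := Nat.finite_of_card_ne_zero (by omega)
  have := finite_of_faithful (G := G) Ω
  have key : ∀ a : Ω, ∃ F : Subgroup G, ZKer a F ∧ ∀ v ∈ F, v ≠ 1 → F = zpowers v := fun a => by
    have h1 : Nat.card (stabilizer G a) = p * d := by
      have := (stabilizer G a).index_mul_card
      rw [index_stabilizer_of_transitive, hΩ, hG, mul_assoc] at this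
      exact Nat.eq_of_mul_eq_mul_left (by omega) this
    have hd0 : 0 < d := Nat.pos_of_mul_pos_left (h1 ▸ Nat.card_pos)
    obtain ⟨τ, hτ⟩ := exists_prime_orderOf_dvd_card' (G := stabilizer G a) p
      (h1 ▸ dvd_mul_right p d)
    have := faithful_ofStabilizer (G := G) a
    obtain ⟨e, he⟩ := exists_coord (α := SubMulAction.ofStabilizer G a)
      (by rw [SubMulAction.nat_card_ofStabilizer_eq, hΩ]; rfl) τ hτ
    have hek : ∀ (k : ℕ) x, e (τ ^ k • x) = e x + k := fun k x => by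
      induction k with
      | zero => simp
      | succ k ih => rw [pow_succ', mul_smul, he, ih, Nat.cast_succ, add_assoc]
    have h2 : Nat.card (zpowers τ) = p := by rw [Nat.card_zpowers, hτ]
    have h3 : (zpowers τ).index = d := by
      have := (zpowers τ).card_mul_index
      rw [h1, h2] at this
      exact Nat.eq_of_mul_eq_mul_left hp.out.pos this
    let P := (IsPGroup.of_card (n := 1) (h2.trans (pow_one p).symm)).toSylow
      (by rw [h3]; exact Nat.not_dvd_of_pos_of_lt hd0 hd)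
    have h4 : Nat.card (Sylow p (stabilizer G a)) = 1 := by
      have h5 := Nat.le_of_dvd hd0 (h3 ▸ P.card_dvd_index)
      exact (card_sylow_modEq_one p _).eq_of_lt_of_lt (by omega) hp.out.one_lt
    have := (Nat.card_eq_one_iff_unique.mp h4).1
    have hn : (zpowers τ).Normal := P.normal_of_subsingleton
    refine ⟨(zpowers τ).map (stabilizer G a).subtype, ⟨?_, ?_, fun y z hy hz => ?_, ?_⟩, ?_⟩
    · rintro _ ⟨u, -, rfl⟩
      exact u.2
    · rintro k hk _ ⟨u, hu, rfl⟩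
      exact ⟨_, hn.conj_mem u hu ⟨k, hk⟩, rfl⟩
    · exact ⟨_, ⟨τ ^ (e ⟨z, hz⟩ - e ⟨y, hy⟩).val, pow_mem (mem_zpowers τ) _, rfl⟩,
        congrArg Subtype.val (e.injective ((hek _ ⟨y, hy⟩).trans
          (by rw [ZMod.natCast_zmod_val, add_sub_cancel])))⟩
    · rintro _ ⟨u, hu, rfl⟩ y hy hu'
      obtain ⟨k, rfl⟩ := (mem_powers_iff_mem_zpowers.mpr hu)
      have h5 := hek k ⟨y, hy⟩
      rw [show τ ^ k • (⟨y, hy⟩ : SubMulAction.ofStabilizer G a) = ⟨y, hy⟩ from Subtype.ext hu',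
        left_eq_add, ZMod.natCast_eq_zero_iff, ← hτ, orderOf_dvd_iff_pow_eq_one] at h5
      exact congrArg Subtype.val h5
    · intro v hv v1
      have h5 := (card_map_of_injective (stabilizer G a).subtype_injective).trans h2
      refine (eq_of_le_of_card_ge (zpowers_le.mpr hv) ?_).symm
      rw [h5, Nat.card_zpowers]
      exact ((Nat.dvd_prime hp.out).mp (h5 ▸ Subgroup.orderOf_dvd_natCard _ hv)).resolve_left
        (mt orderOf_eq_one_iff.mp v1) |>.ge
  refine ⟨⟨inferInstance, is_two_pretransitive_iff.mpr fun {x y z w} hxy hzw => ?_,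
    fun g x y z hxy hyz hxz gx gy gz => ?_⟩, ?_⟩
  · obtain ⟨g, rfl⟩ := exists_smul_eq G x z
    obtain ⟨F, hF, -⟩ := key (g • x)
    obtain ⟨u, hu, e⟩ := hF.trans (g • y) w (fun e => hxy (MulAction.injective g e).symm) hzw.symm
    exact ⟨u * g, by rw [mul_smul, hF.le u hu], by rw [mul_smul, e]⟩
  · obtain ⟨F, hF, hv⟩ := key x
    obtain ⟨v, hv', e⟩ := hF.trans y z hxy.symm hxz.symm
    have h1 := hF.eq_of_smul (hF.conj g gx v hv') hv' hxy.symm (by
      rw [mul_smul, mul_smul, inv_fix gy, e, gz])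
    refine eq_of_smul_eq_smul (α := Ω) fun c => ?_
    rw [one_smul]
    by_cases hc : c = x
    · rwa [hc]
    obtain ⟨u, hu, rfl⟩ := hF.trans y c hxy.symm hc
    rw [hv v hv' (fun h => hyz (by rw [← e, h, one_smul]))] at hu
    obtain ⟨k, rfl⟩ := hu
    rw [← mul_smul, ((Commute.zpow_right (mul_inv_eq_iff_eq_mul.mp h1) k)).eq, mul_smul, gy]
  · obtain ⟨F, hF, hv⟩ := key a
    refine ⟨F, hF, fun u hu v hv' => ?_⟩
    by_cases v1 : v = 1
    · simp [v1]
    rw [hv v hv' v1] at hu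
    obtain ⟨k, rfl⟩ := hu
    exact (Commute.zpow_self v k).eq

theorem classify_succ_prime [FaithfulSMul G Ω] [IsPretransitive G Ω] {p d : ℕ} [hp : Fact p.Prime]
    (hΩ : Nat.card Ω = p + 1) (hG : Nat.card G = (p + 1) * p * d) (hd : d < p) :
    (d = p - 1 ∧ Nonempty (G ≃* PGL(2, ZMod p))) ∨
      (2 * d = p - 1 ∧ Nonempty (G ≃* PSL(2, ZMod p))) ∨
      ∃ q : ℕ, q.Prime ∧ p + 1 = 2 ^ q ∧ (d = 1 ∨ d = q) ∧ (∃ N : Subgroup G, N.Normal ∧
        Nat.card N = 2 ^ q) ∧ ∃ e : Ω ≃ GaloisField 2 q, ∀ g : G,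
          ∃ (c : (GaloisField 2 q)ˣ) (b : GaloisField 2 q) (σ : GaloisField 2 q ≃+* GaloisField 2 q),
            ∀ x, e (g • x) = c * σ (e x) + b := by
  have : Finite Ω := Nat.finite_of_card_ne_zero (by omega)
  have := finite_of_faithful (G := G) Ω
  have h2 := hp.out.two_le
  have : Nontrivial Ω := Finite.one_lt_card_iff_nontrivial.mp (by omega)
  obtain ⟨a, b, hab⟩ := exists_pair_ne Ω
  obtain ⟨h, F, hF, hFc⟩ := z3_of_succ_prime hΩ hG hd a
  have h1 : Nat.card ↥(stabilizer G a ⊓ stabilizer G b) = d := by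
    have := h.card_eq hab
    rw [hG, hΩ] at this
    exact (Nat.eq_of_mul_eq_mul_left (by positivity) this).symm
  by_cases hs : d + 1 = p
  · refine Or.inl ⟨by omega, ?_⟩
    obtain ⟨K, _, _, hK, ⟨e⟩⟩ : ∃ (K : Type) (_ : Field K) (_ : Fintype K),
        Nat.card Ω = Nat.card K + 1 ∧ Nonempty (G ≃* PGL(2, K)) := by
      rcases Nat.even_or_odd (Nat.card Ω) with he | ho
      · obtain ⟨K, _, _, hK, e⟩ := h.sharp_even hab he (by omega)
        refine ⟨K, inferInstance, inferInstance, hK, e.resolve_right ?_⟩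
        rintro ⟨-, m, hm⟩
        exact hp.out.prime.not_isSquare ⟨m, by rw [← pow_two]; omega⟩
      · exact h.sharp_odd hab ho (by omega)
    obtain ⟨φ⟩ := nonempty_ringEquiv_zmod (F := K) p (by omega)
    exact ⟨e.trans (pglCongr φ.symm)⟩
  by_cases hZ : IsZassenhausGroup G Ω
  · have h3 := (h.cases_of_le hab (by omega) (zass_le_of_comm hZ hab hF hFc)).resolve_left
      (by omega)
    obtain ⟨K, _, _, hK, ⟨e⟩⟩ := zass_half hZ hab h3
    obtain ⟨φ⟩ := nonempty_ringEquiv_zmod (F := K) p (by omega)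
    exact Or.inr (Or.inl ⟨by omega, ⟨e.trans (pslCongr φ.symm)⟩⟩)
  obtain ⟨N, hN, hNc, htr, hreg, q, hq, hq'⟩ : ∃ N : Subgroup G, N.Normal ∧
      (∀ u ∈ N, ∀ v ∈ N, u * v = v * u) ∧ (∀ x, ∃ u ∈ N, u • a = x) ∧
      (∀ u ∈ N, u • a = a → u = 1) ∧ ∃ q, p + 1 = 2 ^ q ∧ (d = 1 ∨ d = q) := by
    by_cases h3 : 1 < d
    · have : ¬ ∀ N : Subgroup G, N.Normal → IsPretransitive N Ω → ∃ a : Ω, stabilizer N a ≠ ⊥ :=
        fun hc => hZ ⟨h.faithful, h.two, h.three, h.hfix_of_card hab (h1 ▸ h3), hc⟩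
      push Not at this
      obtain ⟨N, hN, ht, hr⟩ := this
      have htr : ∀ x, ∃ u ∈ N, u • a = x :=
        fun x => let ⟨u, hu⟩ := ht.exists_smul_eq a x; ⟨u, u.2, hu⟩
      have hreg : ∀ u ∈ N, u • a = a → u = 1 := fun u hu e =>
        congrArg Subtype.val ((hr a).le (show (⟨u, hu⟩ : N) ∈ _ from e))
      obtain ⟨h4, -, h5⟩ := h.regular_normal hab (h1 ▸ h3) N htr hreg
      exact ⟨N, hN, h4, htr, hreg, d, by rw [← hΩ, h5, h1], Or.inr rfl⟩
    · have hd0 : 0 < d := h1 ▸ Nat.card_pos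
      obtain ⟨N, hN, h4, h5, h6, -, -, r, hr, -, j, hj, h7⟩ := sharp2_kernel h.two fun x => by
        have h8 := (h.card_two_eq (x.injective.ne zero_ne_one) hab).trans h1
        rw [show d = 1 by omega, card_eq_one] at h8
        exact eq_bot_iff.mpr fun g hg => h8.le ⟨DFunLike.congr_fun hg 0, DFunLike.congr_fun hg 1⟩
      refine ⟨N, hN, h5, h6 a, fun u hu e => ((h4 u).mp hu).resolve_right fun h => h a e, j, ?_,
        Or.inl (by omega)⟩
      have h8 : 2 ∣ r ^ j := by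
        have := hp.out.eq_two_or_odd
        omega
      rw [(Nat.prime_dvd_prime_iff_eq Nat.prime_two hr).mp (Nat.prime_two.dvd_of_dvd_pow h8),
        ← h7, hΩ]
  have h3 : q.Prime := (Nat.prime_of_pow_sub_one_prime (a := 2) (by rintro rfl; omega)
    (by rw [← hq]; exact hp.out)).2
  have : Fact (Nat.Prime 2) := ⟨Nat.prime_two⟩
  obtain ⟨e, he, -⟩ := exists_semiaffine hNc htr hreg hF.le' hFc hF.conj (fun W hW hW0 hc => by
    obtain ⟨w, hw⟩ := ne_bot_iff_exists_ne_one.mp hW0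
    refine le_antisymm hW fun u hu => ?_
    by_cases u1 : u = 1
    · exact u1 ▸ one_mem W
    obtain ⟨k, hk, e⟩ := hF.trans ((w : G) • a) (u • a)
      (fun e => hw (Subtype.ext (hreg _ (hW w.2) e))) fun e => u1 (hreg u hu e)
    rw [inv_mul_eq_one.mp (hreg _ (N.mul_mem (N.inv_mem hu) (hN.conj_mem _ (hW w.2) k)) (by
      rw [mul_smul, mul_smul, mul_smul, inv_fix (hF.le k hk), e, inv_smul_smul]))]
    exact hc k hk w w.2) (GaloisField 2 q) (by rw [GaloisField.card 2 q h3.ne_zero, hΩ, hq])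
  exact Or.inr (Or.inr ⟨q, h3, hq, hq', ⟨N, hN, by rw [card_of_regular htr hreg, hΩ, hq]⟩, e, he⟩)

end Cfsg.Agent.Perm
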