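import Mathlib
import Cfsg.Agent.Block.OrdP
import Cfsg.Agent.Block.Sect
import Cfsg.Agent.Char.Galois
import Cfsg.Agent.Char.Indicator
import Cfsg.Agent.Char.Det
import Cfsg.Agent.Perm.Small3

/-! Character-theoretic tools for excluding orders of simple groups: Schur's bound, and lemmas
of Brauer and Tuan on principal blocks. -/

set_option autoImplicit false

open Subgroup Function Finset
open Cfsg.Agent.Char Cfsg.Agent.Block
open scoped ComplexConjugate

namespace Cfsg.Agent.Perm

variable {G : Type*} [Group G] [Finite G]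

theorem neg_le_of_int {χ : G → ℂ} (hχ : IsCharacter G χ) {N : ℕ} (hN : χ 1 = N) {r k : ℕ}
    (hr : r.Prime) {g : G} (hg : orderOf g = r ^ (k + 1)) {l : ℤ} (hl : χ g = l) :
    0 ≤ (N : ℤ) + (r - 1) * l := by
  obtain ⟨s, h1, -, -, h2⟩ := isChar_eigen_nat hχ g
  have h3 : 0 ≤ (∑ j ∈ range (r ^ (k + 1)), χ (g ^ (j + 1))).re := by
    simp_rw [h2]
    rw [← Multiset.sum_map_sum, ← Complex.reCLM_apply, map_multiset_sum, Multiset.map_map]
    refine Multiset.sum_nonneg fun y hy => ?_
    obtain ⟨z, hz, rfl⟩ := Multiset.mem_map.mp hy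
    by_cases h : z = 1
    · simp only [h, one_pow, sum_const, comp_apply, Complex.reCLM_apply, nsmul_one,
        Complex.natCast_re, Nat.cast_nonneg]
    · rw [comp_apply]
      simp only [pow_succ z, ← sum_mul, geom_sum_eq h, ← hg, h1 z hz]
      simp
  have h4 : ∀ j, (χ (g ^ j)).re ≤ l + if r ∣ j then (N : ℝ) - l else 0 := fun j => by
    split_ifs with h
    · rw [add_sub_cancel]
      exact (Complex.re_le_norm _).trans (isChar_norm_le hχ _ hN)
    · rw [Galois.apply_pow_eq_of_rat (isChar_isGenChar hχ) (q := l) (by simpa using hl)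
        (hg ▸ ((hr.coprime_iff_not_dvd.mpr h).symm.pow_right _)), hl]
      simp
  rw [Complex.re_sum] at h3
  have h5 := h3.trans (sum_le_sum fun j _ => h4 (j + 1))
  rw [sum_add_distrib, ← sum_filter, sum_const, sum_const, card_range, Nat.card_multiples,
    pow_succ, Nat.mul_div_cancel _ hr.pos] at h5
  have h7 : (0 : ℝ) < r ^ k := by have := hr.pos; positivity
  simp only [nsmul_eq_mul, Nat.cast_pow, Nat.cast_mul] at h5
  have : (0 : ℝ) ≤ N + (r - 1) * l := by nlinarith
  exact_mod_cast this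

/-- A generalized character vanishing off the identity has degree divisible by the order. -/
theorem card_dvd_of_vanish {θ : G → ℂ} (hθ : IsGeneralizedCharacter G θ) (h : ∀ g ≠ 1, θ g = 0)
    {m : ℤ} (hm : θ 1 = m) : (Nat.card G : ℤ) ∣ m := by
  have := Fintype.ofFinite G
  obtain ⟨n, hn⟩ := classInner_isGenChar_int hθ isGenChar_one
  rw [classInner_one_right, sum_eq_single 1 (fun g _ => h g) (by simp), hm,
    inv_mul_eq_iff_eq_mul₀ card_ne_zero] at hn
  exact ⟨n, by exact_mod_cast hn⟩

/-- Schur's bound for a faithful character that is rational on an `r`-subgroup. -/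
theorem schur_dvd {χ : G → ℂ} (hχ : IsCharacter G χ) {N : ℕ} (hN : χ 1 = N) {r : ℕ}
    (hr : r.Prime) {R : Subgroup G} (hR : IsPGroup r R) (hf : ∀ g ∈ R, χ g = χ 1 → g = 1)
    (hi : ∀ g ∈ R, ∃ l : ℤ, χ g = l) :
    Nat.card R ∣ r ^ (N / (r - 1)) * (N / (r - 1)).factorial := by
  obtain ⟨M, hM⟩ := exists_isPModular hr
  have h1 := card_dvd_of_vanish (G := R) (θ := ∏ j ∈ range (N / (r - 1)),
    ((fun x : R => χ x) - fun _ => ((N - r * (j + 1) : ℤ) : ℂ))) (isGenChar_prod _ fun j _ =>
      isGenChar_sub (isGenChar_res R (isChar_isGenChar hχ)) (isGenChar_intCast _))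
    (fun g hg => ?_) (m := (r ^ (N / (r - 1)) * (N / (r - 1)).factorial : ℕ)) (by
      simp only [Finset.prod_apply, Pi.sub_apply, OneMemClass.coe_one, hN]
      rw [← prod_range_add_one_eq_factorial, pow_eq_prod_const, ← prod_mul_distrib]
      push_cast
      exact prod_congr rfl fun j _ => by ring)
  · exact_mod_cast h1
  obtain ⟨l, hl⟩ := hi g g.2
  obtain ⟨k, hk⟩ := exists_orderOf_eq_pow_of_mem hr hR g.2
  have g1 : (g : G) ≠ 1 := fun e => hg (Subtype.ext e)
  obtain ⟨j, hj⟩ := (int_modEq_of_val hM hχ ⟨k, hk⟩ hl).symm.dvd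
  rw [charDegree_of_eq hN] at hj
  obtain _ | k := k
  · exact absurd (orderOf_eq_one_iff.mp hk) g1
  have h2 := neg_le_of_int hχ hN hr hk hl
  have h3 : l ≤ N := by
    have := (Complex.re_le_norm _).trans (isChar_norm_le hχ g hN)
    rw [hl] at this
    exact_mod_cast this
  have h4 : l ≠ N := fun e => g1 (hf g g.2 (by rw [hl, hN, e, Int.cast_natCast]))
  have h5 : (2 : ℤ) ≤ r := by exact_mod_cast hr.two_le
  have h6 : 0 < j := by nlinarith [lt_of_le_of_ne h3 h4]
  obtain ⟨i, rfl⟩ : ∃ i : ℕ, j = i + 1 := ⟨(j - 1).toNat, by omega⟩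
  rw [Finset.prod_apply]
  refine prod_eq_zero (i := i) (mem_range.mpr ((Nat.le_div_iff_mul_le (by omega)).mpr ?_)) ?_
  · have : ((i : ℤ) + 1) * (r - 1) ≤ N := by nlinarith
    zify [hr.one_le]
    exact this
  · rw [Pi.sub_apply, hl, ← hj]
    simp

/-- Restriction to `p'`-subgroups of `C(P)` of a character constant on the cosets. -/
theorem exists_eq_smul_add {χ : G → ℂ} (hχ : IsCharacter G χ) {P Y : Subgroup G}
    (hY : Y ≤ centralizer (P : Set G)) (h : ∀ x ∈ P, x ≠ 1 → ∀ u ∈ Y, χ (x * u) = χ x) :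
    ∃ (η : Y → ℂ) (k : ℕ), IsCharacter Y η ∧
      (fun u : Y => χ u) = (Nat.card P : ℂ) • η + (k : ℂ) • fun _ => 1 := by
  classical
  have := Fintype.ofFinite P
  have := Fintype.ofFinite Y
  let φ : Y × P →* G := Y.subtype.noncommCoprod P.subtype fun u x => (hY u.2 x x.2).symm
  let θ : Y → ℂ := fun u => classInner (fun x : P => χ (φ (u, x))) fun _ => 1
  have h1 : ∀ u : Y, χ u = Nat.card P * θ u - ∑ x ∈ univ.erase (1 : P), χ x := fun u => by
    rw [card_mul_classInner, ← add_sum_erase _ _ (mem_univ 1), eq_sub_iff_add_eq]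
    congr 1
    · rw [map_one, mul_one]
      exact congrArg χ (mul_one (u : G)).symm
    · refine sum_congr rfl fun x hx => ?_
      rw [map_one, mul_one, ← h x x.2 (fun e => ne_of_mem_erase hx (Subtype.ext e)) u u.2,
        classFun_mul_comm (isChar_classFun hχ)]
      rfl
  have h2 : (fun u : Y => χ u) = (Nat.card P : ℂ) • θ -
      (∑ x ∈ univ.erase (1 : P), χ x) • fun _ => 1 := funext fun u => by simp [h1 u]
  have hθ : IsCharacter Y θ := isChar_of_inner_nat (fun u v => by
    have := isChar_classFun (isChar_res Y hχ) u v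
    simp only [h1] at this
    exact mul_left_cancel₀ card_ne_zero (sub_left_injective this)) fun ν hν => by
      rw [← classInner_prod_eq (fun x => χ (φ x)) ν fun _ => 1]
      exact classInner_isChar_nat (isChar_comp φ hχ) (isChar_prod_mul (isIrr_isChar hν) isChar_one)
  obtain ⟨k, hk⟩ := classInner_isChar_nat (isChar_res Y hχ) isChar_one
  refine ⟨_, k, isChar_sub_mult_smul hθ isIrr_one, ?_⟩
  rw [← hk, h2, classInner_sub_left, classInner_smul_left, classInner_smul_left, classInner_one_one]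
  ext u
  simp only [Pi.sub_apply, Pi.add_apply, Pi.smul_apply, smul_eq_mul]
  ring

theorem two_mul_le_degree [IsSimpleGroup G] (hG : ¬ IsMulCommutative G) {χ : G → ℂ}
    (hχ : IsIrrCharacter G χ) (h1 : χ ≠ fun _ => 1) {P : Subgroup G} {y : G} (hy : y ≠ 1)
    (hc : y ∈ centralizer (P : Set G)) (ho : (Nat.card P).Coprime (orderOf y))
    (h : ∀ x ∈ P, x ≠ 1 → ∀ u ∈ zpowers y, χ (x * u) = χ x) : 2 * Nat.card P ≤ charDegree χ := by
  have hχ' := isIrr_isChar hχ
  obtain ⟨η, k, hη, e⟩ := exists_eq_smul_add hχ' (zpowers_le.mpr hc) h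
  obtain ⟨m, hm⟩ := isChar_degree hη
  let y' : zpowers y := ⟨y, mem_zpowers y⟩
  have e1 := congrFun e 1
  have e2 := congrFun e y'
  simp only [OneMemClass.coe_one, Pi.add_apply, Pi.smul_apply, smul_eq_mul, hm] at e1 e2
  have h2 : η y' ≠ m := fun h3 => hy ((charKer_eq_bot_of_simple hχ h1).le
    ((mem_charKer_iff hχ').mpr (by rw [e1, ← h3]; exact e2)))
  have h3 : 2 ≤ m := by
    by_contra h4
    obtain rfl | rfl : m = 0 ∨ m = 1 := by omega
    · exact h2 (by simp [isChar_eq_zero_of_degree hη (by simpa using hm)])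
    obtain ⟨lam, rfl⟩ := isChar_linear_of_degree_one hη (by simpa using hm)
    obtain ⟨μ, hμ⟩ := Det.exists_detHom hχ'
    have h5 := Det.detChar_res (zpowers y) hχ' y'
    rw [e, Det.detChar_add (isChar_natCast_smul _ hη) (isChar_natCast_smul _ isChar_one),
      Det.detChar_nsmul hη, Det.detChar_nsmul isChar_one, Det.detChar_const_one,
      Det.detChar_linear, hμ] at h5
    simp only [hom_comm_eq_one hG μ, Pi.mul_apply, Pi.pow_apply, one_pow, mul_one,
      Units.val_one] at h5
    have h6 := linear_pow_orderOf lam y'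
    rw [← orderOf_coe] at h6
    have h7 := pow_gcd_eq_one.mpr ⟨h5, h6⟩
    rw [ho, pow_one] at h7
    exact h2 (h7.trans Nat.cast_one.symm)
  rw [charDegree_of_eq (n := Nat.card P * m + k) (by rw [e1]; simp)]
  nlinarith

variable {r : ℕ} {M : Ideal AlgInt}

theorem eq_one_of_degree_pow [IsSimpleGroup G] (hG : ¬ IsMulCommutative G) (hM : IsPModular r M)
    {χ : IrrCharacter G} (hχ : χ ∈ principalBlock M G) {k : ℕ} (hk : charDegree χ.1 = r ^ k) :
    χ = oneIrr G := by
  have := Fact.mk hM.1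
  by_contra h1
  have h2 := charKer_eq_bot_of_simple χ.2 fun e => h1 (Subtype.ext e)
  have h3 : center G = ⊥ := (IsSimpleGroup.eq_bot_or_eq_top_of_normal _ inferInstance).resolve_right
    fun h => hG (isMulCommutative_of_center_eq_top h)
  have hd := (irr_degree_cast χ).symm
  have hk0 : k ≠ 0 := by
    rintro rfl
    obtain ⟨lam, e⟩ := isChar_linear_of_degree_one (irr_isChar χ) (by rw [hd, hk]; simp)
    exact h1 (Subtype.ext (e.trans (by simp [hom_comm_eq_one hG lam])))
  obtain ⟨R⟩ : Nonempty (Sylow r G) := inferInstance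
  have := (R : Subgroup G).nontrivial_iff_ne_bot.mpr (sylow_ne_bot R
    ((dvd_pow_self r hk0).trans (hk ▸ isIrr_degree_dvd_card χ.2 hd)))
  obtain ⟨z, hz⟩ := ne_bot_iff_exists_ne_one.mp
    ((center R).nontrivial_iff_ne_bot.mp R.isPGroup'.center_nontrivial)
  have h4 : ¬ r ∣ (centralizer ({((z : R) : G)} : Set G)).index := fun h => R.not_dvd_index
    (h.trans (index_dvd_of_le fun x hx => mem_centralizer_singleton_iff.mpr
      (congrArg Subtype.val (mem_center_iff.mp z.2 ⟨x, hx⟩))))
  rcases isIrr_eq_zero_or_norm_eq_of_coprime χ.2 ((z : R) : G) hd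
    (hk ▸ (hM.1.coprime_iff_not_dvd.mpr h4).pow_left k) with h | h
  · have h5 := hχ ((z : R) : G)
    simp only [centralChar, h, mul_zero, zero_div, sub_zero, mul_one, div_one] at h5
    exact h4 ((P_natCast_iff hM).mp h5)
  · have := (mem_charCenter_iff (irr_isChar χ)).mpr h
    rw [charCenter_eq_center χ.2 h2, h3] at this
    exact hz (Subtype.ext (Subtype.ext this))

/-- Block separation. -/
theorem dvd_sum_principal (hM : IsPModular r M) (s : Finset (IrrCharacter G))
    (c : IrrCharacter G → ℤ) (h : ∀ g, r ∣ orderOf g → ∑ χ ∈ s, (c χ : ℂ) * χ.1 g = 0)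
    [DecidablePred (· ∈ principalBlock M G)] :
    ((r ^ (Nat.card G).factorization r : ℕ) : ℤ) ∣
      ∑ χ ∈ s with χ ∈ principalBlock M G, c χ * charDegree χ.1 := by
  classical
  have := Fact.mk hM.1
  have := Fintype.ofFinite G
  obtain ⟨R⟩ : Nonempty (Sylow r G) := inferInstance
  have h1 : blockPart (principalBlock M G) (∑ χ ∈ s, (c χ : ℂ) • χ.1) =
      ∑ χ ∈ s with χ ∈ principalBlock M G, (c χ : ℂ) • χ.1 := by
    rw [blockPart_eq_sum_smul]
    simp_rw [classInner_sum_smul_irr, ite_smul, zero_smul, ← sum_filter]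
    exact sum_congr (by ext; simp [and_comm]) fun _ _ => rfl
  rw [← R.card_eq_multiplicity]
  refine card_dvd_of_vanish (G := R) (isGenChar_res _ (isGenChar_sum
    (s.filter (· ∈ principalBlock M G)) fun χ _ => isGenChar_intCast_smul (c χ) (irr_isGenChar χ)))
    (fun g hg => ?_) (by simp [Finset.sum_apply, irr_degree_cast])
  have h2 := exists_orderOf_eq_pow_of_mem hM.1 R.isPGroup' g.2
  rw [← h1]
  refine blockPart_eq_zero_of_section hM (isV_blockIdem hM isPBlock_principalBlock)
    (x := (g : G)) (fun u z hu hz => ?_) (isPPart_self hM.1 h2) (IsConj.refl _)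
  simpa [Finset.sum_apply] using h u (by_contra fun hn => hg (Subtype.ext (isConj_one_left.mp
    ((pPart_eq_one_iff hM.1 hu).mpr hn ▸ hz))))

theorem pow_mem_principal (hM : IsPModular r M) {χ : IrrCharacter G}
    (hχ : χ ∈ principalBlock M G) {k : ℕ} (hk : k.Coprime (Nat.card G)) :
    (⟨fun g => χ.1 (g ^ k), Galois.isIrr_pow_arg χ.2 hk⟩ : IrrCharacter G) ∈
      principalBlock M G := by
  classical
  have := Fintype.ofFinite G
  by_contra h
  refine inner_pReg_one_ne_zero hM hχ (Eq.trans ?_ (classInner_pRegularPart_eq_zero hM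
    (isV_blockIdem hM isPBlock_principalBlock) (oneIrr_mem_principalBlock hM) h))
  rw [classInner_def, classInner_def, ← (powCoprime hk.symm).sum_comp]
  congr 1
  refine sum_congr rfl fun g _ => ?_
  rw [pRegularPart_apply, pRegularPart_apply, powCoprime_apply,
    (hk.coprime_dvd_right (orderOf_dvd_natCard g)).symm.orderOf_pow]
  rfl

end Cfsg.Agent.Perm
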