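import Mathlib
import Cfsg.Agent.Perm.SieveChar

/-! Numerical consequences of Brauer's theory for a prime dividing the order of a simple group to
the first power. -/

set_option autoImplicit false

open Subgroup Function Finset
open Cfsg.Agent.Char Cfsg.Agent.Block

namespace Cfsg.Agent.Perm

/-- `d` Sylow subgroups, automizer of order `e`, centralizer of order `p * c`. -/
structure SylNum (n p d e c : ℕ) : Prop where
  mul : n = p * (d * (e * c))
  mod : d % p = 1
  ne : d ≠ 1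
  fact : 2 * n ∣ d.factorial
  dvd : e ∣ p - 1
  lt : 1 < e

variable {G : Type*} [Group G]

/-- The non-trivial characters of the principal block: `X` and the exceptional family `Y`. -/
structure BrData (p e c : ℕ) (M : Ideal AlgInt) (X Y : Finset (IrrCharacter G))
    (ζ : IrrCharacter G) (a : IrrCharacter G → ℤ) : Prop where
  mem : ∀ χ, χ ∈ principalBlock M G ↔ χ = oneIrr G ∨ χ ∈ X ∨ χ ∈ Y
  oneX : oneIrr G ∉ X
  oneY : oneIrr G ∉ Y
  disj : Disjoint X Y
  memY : ζ ∈ Y
  cardX : X.card + 1 = e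
  cardY : Y.card * e + 1 = p
  signX : ∀ χ ∈ X, a χ = 1 ∨ a χ = -1
  signY : a ζ = 1 ∨ a ζ = -1
  agree : ∀ χ ∈ Y, ∀ g, ¬ p ∣ orderOf g → χ.1 g = ζ.1 g
  rel : ∀ g, ¬ p ∣ orderOf g → 1 + ∑ χ ∈ X, (a χ : ℂ) * χ.1 g + a ζ * ζ.1 g = 0
  degX : ∀ χ ∈ X, a χ * charDegree χ.1 ≡ 1 [ZMOD p]
  lo : ∀ χ ∈ principalBlock M G, χ ≠ oneIrr G → c ≠ 1 → 2 * p ≤ charDegree χ.1
  def0 : ∀ χ ∈ principalBlock M G, ∀ r : ℕ, r.Prime → r ∣ c →
    ¬ r ^ (Nat.card G).factorization r ∣ charDegree χ.1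

theorem sign_mul_modEq {a x b p : ℤ} (ha : a = 1 ∨ a = -1) (h : x ≡ a * b [ZMOD p]) :
    a * x ≡ b [ZMOD p] := by
  have := h.mul_left a
  rcases ha with rfl | rfl <;> simpa using this

variable [Finite G] [IsSimpleGroup G] (hG : ¬ IsMulCommutative G)
include hG

theorem exists_brData {p : ℕ} (hp : p.Prime) (hd : p ∣ Nat.card G) (hsq : ¬ p ^ 2 ∣ Nat.card G) :
    ∃ d e c, SylNum (Nat.card G) p d e c ∧
      (∀ r : ℕ, r.Prime → r ≠ p → (r ∣ c ↔ ∃ g : G, p ∣ orderOf g ∧ r ∣ orderOf g)) ∧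
      ∀ M, IsPModular p M → ∃ X Y ζ a, BrData (G := G) p e c M X Y ζ a := by
  classical
  have := Fact.mk hp
  have := Fintype.ofFinite G
  obtain ⟨P⟩ : Nonempty (Sylow p G) := inferInstance
  have hP := card_sylow_of_not_sq_dvd hd hsq P
  have h := ordP_sylow P hP
  obtain ⟨c, hc⟩ := card_dvd_of_le h.ab.comm
  rw [hP] at hc
  have hpc : ¬ p ∣ c := fun h => hsq ((hc ▸ pow_two p ▸ Nat.mul_dvd_mul_left p h).trans
    (card_subgroup_dvd_card _))
  have he := (isCyclic_normalizer_quot hp hP).2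
  have he1 := relIndex_centralizer_ne_one hG P hd
  set e := (centralizer ((P : Subgroup G) : Set G)).relIndex (normalizer ((P : Subgroup G) : Set G))
  have he0 : e ≠ 0 := fun h => by
    rw [h, zero_dvd_iff] at he
    have := hp.two_le
    omega
  have hy : ∀ r : ℕ, r.Prime → r ∣ c → ∃ y ∈ centralizer ((P : Subgroup G) : Set G),
      orderOf y = r := fun r hr h => exists_mem_orderOf_prime _ hr (hc ▸ h.mul_left p)
  obtain ⟨x, x1⟩ := h.exists_ne_one
  have x1' : (x : G) ≠ 1 := fun e => x1 (Subtype.ext e)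
  have hx := orderOf_eq_of_mem_card_prime hP x.2 x1'
  have hcop : ∀ r : ℕ, r.Prime → r ∣ c → p.Coprime r := fun r hr h =>
    (Nat.coprime_primes hp hr).mpr fun e => hpc (e ▸ h)
  refine ⟨Nat.card (Sylow p G), e, c, ⟨?_, Eq.trans (card_sylow_modEq_one p G) (Nat.mod_eq_of_lt
    hp.one_lt), card_sylow_ne_one hG hd, two_mul_card_dvd_factorial_sylow hG hd, he, by omega⟩,
    fun r hr hrp => ⟨fun h => ?_, ?_⟩, fun M hM => ?_⟩
  · rw [← card_sylow_mul P, ← card_centralizer_mul_relIndex, hc]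
    ring
  · obtain ⟨y, hy, hy'⟩ := hy r hr h
    have := orderOf_mul_of_commute (hy x x.2) hx hy' (hcop r hr h)
    exact ⟨_, this ▸ dvd_mul_right p r, this ▸ dvd_mul_left r p⟩
  · rintro ⟨g, h1, h2⟩
    obtain ⟨u, hu⟩ := h.exists_le_zpowers h1
    have h3 : zpowers (u * g * u⁻¹) ≤ centralizer ((P : Subgroup G) : Set G) :=
      zpowers_le.mpr fun v hv => by
        obtain ⟨k, rfl⟩ := hu hv
        exact (Commute.zpow_self _ k).eq
    have h4 := card_dvd_of_le h3
    rw [Nat.card_zpowers, orderOf_conj', hc] at h4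
    exact ((Nat.coprime_primes hr hp).mpr hrp).dvd_of_dvd_mul_left (h2.trans h4)
  obtain ⟨δ, ζ, a, X, hB⟩ := h.exists_prinOne hM
  have hconst : ∀ χ ∈ principalBlock M G, ∀ x ∈ P, x ≠ 1 →
      ∀ y ∈ centralizer ((P : Subgroup G) : Set G), ¬ p ∣ orderOf y → χ.1 (x * y) = χ.1 x := by
    intro χ hχ x hx x1 y hy hy'
    have h1 : ¬ p ∣ orderOf (1 : G) := by simpa using hp.one_lt.ne'
    conv_rhs => rw [← mul_one x]
    rcases hB.union ▸ hχ with hχ | ⟨lam, rfl⟩
    · rw [hB.valX χ hχ x hx x1 y hy hy', hB.valX χ hχ x hx x1 1 (one_mem _) h1]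
    · exact (hB.valY lam ⟨x, hx⟩ (fun e => x1 (congrArg Subtype.val e)) y hy hy').trans
        (hB.valY lam ⟨x, hx⟩ (fun e => x1 (congrArg Subtype.val e)) 1 (one_mem _) h1).symm
  have hlt : e < p := by
    have := Nat.le_of_dvd (by have := hp.two_le; omega) he
    have := hp.pos
    omega
  have hdeg : ∀ χ ∈ principalBlock M G, ¬ p ∣ charDegree χ.1 := by
    intro χ hχ h
    have h1 : (p : ℤ) ∣ charDegree χ.1 := by exact_mod_cast h
    rcases hB.union ▸ hχ with hχ | ⟨lam, rfl⟩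
    · have := (sign_mul_modEq (hB.a_sign χ hχ) (b := 1) (by simpa using hB.degX χ hχ)).dvd
      exact hp.not_dvd_one (by exact_mod_cast (dvd_sub_left (h1.mul_left _)).mp this)
    · have := (sign_mul_modEq hB.sign (hB.degY lam)).dvd
      exact Nat.not_dvd_of_pos_of_lt (by omega) hlt
        (by exact_mod_cast (dvd_sub_left (h1.mul_left _)).mp this)
  have hlo : ∀ χ ∈ principalBlock M G, χ ≠ oneIrr G → c ≠ 1 → 2 * p ≤ charDegree χ.1 := by
    intro χ hχ h1 c1
    obtain ⟨r, hr, hrc⟩ := Nat.exists_prime_and_dvd c1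
    obtain ⟨y, hy, hy'⟩ := hy r hr hrc
    rw [← hP]
    refine two_mul_le_degree hG χ.2 (fun e => h1 (Subtype.ext e)) (fun e => ?_) hy
      (hP.symm ▸ hy'.symm ▸ hcop r hr hrc) fun x hx x1 u hu => hconst χ hχ x hx x1 u
        (zpowers_le.mpr hy hu) fun h => ?_
    · rw [e, orderOf_one] at hy'
      exact hr.one_lt.ne hy'
    · exact hp.coprime_iff_not_dvd.mp (hcop r hr hrc) (hy' ▸ h.trans (orderOf_dvd_of_mem_zpowers hu))
  have hdef : ∀ χ ∈ principalBlock M G, ∀ r : ℕ, r.Prime → r ∣ c →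
      ¬ r ^ (Nat.card G).factorization r ∣ charDegree χ.1 := by
    intro χ hχ r hr hrc h
    obtain ⟨y, hy, hy'⟩ := hy r hr hrc
    obtain ⟨M', hM'⟩ := exists_isPModular hr
    have h1 := char_eq_zero_of_defect_zero hM' ((hr.pow_dvd_iff_le_factorization
      (irr_degree_ne_zero χ)).mp h) (g := x * y) (orderOf_mul_of_commute (hy x x.2) hx hy'
        (hcop r hr hrc) ▸ dvd_mul_left r p)
    rw [hconst χ hχ x x.2 x1' y hy (hy' ▸ hp.coprime_iff_not_dvd.mp (hcop r hr hrc))] at h1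
    exact hdeg χ hχ (dvd_degree_of_eq_zero hM (irr_isChar χ) ⟨1, by rw [hx, pow_one]⟩ h1)
  have hX : ∀ χ ∈ X, a χ * charDegree χ.1 ≡ 1 [ZMOD p] := fun χ hχ =>
    sign_mul_modEq (hB.a_sign χ hχ) (by simpa using hB.degX χ hχ)
  have cX : (univ.filter (· ∈ X)).card = e := by
    rw [← Fintype.card_subtype, ← Nat.card_eq_fintype_card]
    exact hB.cardX
  have cY : (univ.filter (· ∈ Set.range ζ)).card * e + 1 = p := by
    rw [← Fintype.card_subtype, ← Nat.card_eq_fintype_card]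
    exact hB.cardY
  rcases hB.union ▸ oneIrr_mem_principalBlock hM with h1 | ⟨lam, h1⟩
  · obtain ⟨_, h2⟩ : (univ.filter (· ∈ Set.range ζ)).Nonempty := card_pos.mp (by
      by_contra h2
      rw [Nat.eq_zero_of_not_pos h2] at cY
      exact hp.one_lt.ne (by omega))
    obtain ⟨lam, -⟩ := (mem_filter.mp h2).2
    have hd : ∀ μ, ζ μ ∉ X := fun μ h => Set.disjoint_left.mp hB.disj h ⟨μ, rfl⟩
    have a1 : (a (oneIrr G) : ℂ) = 1 := (hB.valX _ h1 x x.2 x1' 1 (one_mem _)
      (by simpa using hp.one_lt.ne')).symm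
    refine ⟨(univ.filter (· ∈ X)).erase (oneIrr G), univ.filter (· ∈ Set.range ζ), ζ lam,
      fun χ => if χ ∈ X then a χ else -δ, fun χ => ?_, notMem_erase _ _, ?_, ?_,
      mem_filter.mpr ⟨mem_univ _, lam, rfl⟩, ?_, cY,
      fun χ hχ => ?_, ?_, ?_, fun g hg => ?_, fun χ hχ => ?_, hlo, hdef⟩
    · rw [hB.union]
      by_cases h : χ = oneIrr G <;> simp [h, h1]
    · exact fun h => let ⟨μ, e⟩ := (mem_filter.mp h).2; hd μ (e ▸ h1)
    · refine disjoint_left.mpr fun χ h2 h3 => ?_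
      obtain ⟨μ, rfl⟩ := (mem_filter.mp h3).2
      exact hd μ (mem_filter.mp (mem_of_mem_erase h2)).2
    · rw [card_erase_add_one (by simpa using h1), cX]
    · have := (mem_filter.mp (mem_of_mem_erase hχ)).2
      simpa [this] using hB.a_sign χ this
    · rcases hB.sign with h | h <;> simp [hd lam, h]
    · rintro _ h3
      obtain ⟨μ, rfl⟩ := (mem_filter.mp h3).2
      exact hB.agree μ lam
    · have := hB.rel lam g hg
      rw [← add_sum_erase _ _ (show oneIrr G ∈ _ by simpa using h1), a1] at this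
      rw [if_neg (hd lam), sum_congr rfl fun χ hχ => by
        rw [if_pos (mem_filter.mp (mem_of_mem_erase hχ)).2]]
      push_cast
      rw [neg_mul, this]
      simp
    · have := (mem_filter.mp (mem_of_mem_erase hχ)).2
      simpa [this] using hX χ this
  · have h2 := hB.degY lam
    rw [h1, coe_oneIrr, charDegree_one_fun] at h2
    have h3 : δ = -1 := hB.sign.resolve_left fun h => by
      rw [h, one_mul] at h2
      exact he1 ((Int.natCast_modEq_iff.mp h2).eq_of_lt_of_lt hp.one_lt hlt).symm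
    have h4 : e + 1 = p := by
      rw [h3] at h2
      have : p ∣ e + 1 := by
        have := h2.symm.dvd
        rw [neg_one_mul, sub_neg_eq_add, add_comm] at this
        exact_mod_cast this
      exact le_antisymm hlt (Nat.le_of_dvd e.succ_pos this)
    have h5 : ∀ μ, ζ μ = oneIrr G := fun μ => card_le_one.mp (show (univ.filter
      (· ∈ Set.range ζ)).card ≤ 1 by nlinarith [Nat.pos_of_ne_zero he0]) _
        (mem_filter.mpr ⟨mem_univ _, μ, rfl⟩) _ (mem_filter.mpr ⟨mem_univ _, lam, h1⟩)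
    obtain ⟨ξ, hξ⟩ : (univ.filter (· ∈ X)).Nonempty := card_pos.mp (by omega)
    have hd : oneIrr G ∉ univ.filter (· ∈ X) := fun h =>
      Set.disjoint_left.mp hB.disj (mem_filter.mp h).2 ⟨lam, h1⟩
    refine ⟨(univ.filter (· ∈ X)).erase ξ, {ξ}, ξ, a, fun χ => ?_,
      fun h => hd (mem_of_mem_erase h), fun h => hd (mem_singleton.mp h ▸ hξ), by simp, by simp,
      by rw [card_erase_add_one hξ, cX], by simp [h4], fun χ hχ => hB.a_sign χ
        (mem_filter.mp (mem_of_mem_erase hχ)).2, hB.a_sign _ (mem_filter.mp hξ).2,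
      fun χ hχ => by simp [mem_singleton.mp hχ], fun g hg => ?_,
      fun χ hχ => hX χ (mem_filter.mp (mem_of_mem_erase hχ)).2, hlo, hdef⟩
    · have := (mem_filter.mp hξ).2
      rw [hB.union, show Set.range ζ = {oneIrr G} from Set.eq_singleton_iff_unique_mem.mpr
        ⟨⟨lam, h1⟩, by rintro _ ⟨μ, rfl⟩; exact h5 μ⟩]
      by_cases h : χ = ξ <;> simp [h, this, or_comm]
    · have := hB.rel lam g hg
      rw [← add_sum_erase _ _ hξ, h1, h3] at this
      simp only [coe_oneIrr] at this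
      push_cast at this
      linear_combination -this

/-- Possible degrees in the principal `r`-block. -/
def DegOK (r e c x : ℕ) : Prop :=
  (x % r = 1 ∨ (x + 1) % r = 0 ∨ x % r = e ∨ (x + e) % r = 0) ∧ (c ≠ 1 → 2 * r ≤ x)

/-- The signed degrees of the principal block. -/
structure NumData (n p e c : ℕ) (L : Multiset ℤ) (w : ℤ) : Prop where
  card : L.card + 1 = e
  mod : ∀ y ∈ L, y ≡ 1 [ZMOD p]
  sum : w = -(1 + L.sum)
  ok : ∀ y ∈ w ::ₘ L, 2 ≤ y.natAbs ∧ y.natAbs ∣ n ∧ (c ≠ 1 → 2 * p ≤ y.natAbs) ∧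
    ∀ r : ℕ, r.Prime → r ∣ c → ¬ r ^ n.factorization r ∣ y.natAbs
  sq : (L.map fun y => y.natAbs ^ 2).sum + (p - 1) / e * w.natAbs ^ 2 < n
  bt : ∀ r : ℕ, r.Prime → r ∣ n → r ≠ p → ¬ r ∣ c → ∃ S ≤ w ::ₘ L,
    ((r ^ n.factorization r : ℕ) : ℤ) ∣ 1 + S.sum ∧
    (∀ y ∈ S, ¬ r ^ n.factorization r ∣ y.natAbs ∧ ∀ k, y.natAbs ≠ r ^ k) ∧
    (¬ r ^ 2 ∣ n → ∃ d' e' c', SylNum n r d' e' c' ∧ ¬ p ∣ c' ∧ ∀ y ∈ S, DegOK r e' c' y.natAbs)
  schur : ∀ x, 2 ≤ x → ∀ r : ℕ, r.Prime → ∀ m, m = (L.filter (·.natAbs = x)).card +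
    (if w.natAbs = x then (p - 1) / e else 0) → m ≠ 0 →
    r ^ n.factorization r ∣ r ^ (m * x / (r - 1)) * (m * x / (r - 1)).factorial

omit hG

theorem natAbs_sign_mul {a : ℤ} (ha : a = 1 ∨ a = -1) (x : ℕ) : (a * x).natAbs = x := by
  rcases ha with rfl | rfl <;> simp

theorem mod_of_sign {a : ℤ} (ha : a = 1 ∨ a = -1) {x b p : ℕ} (hb : b < p)
    (h : a * x ≡ b [ZMOD p]) : x % p = b ∨ (x + b) % p = 0 := by
  rcases ha with rfl | rfl
  · rw [one_mul, Int.natCast_modEq_iff] at h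
    exact Or.inl (Eq.trans h (Nat.mod_eq_of_lt hb))
  · have := h.dvd
    rw [neg_one_mul, sub_neg_eq_add, add_comm] at this
    exact Or.inr (Nat.mod_eq_zero_of_dvd (by exact_mod_cast this))

namespace BrData

variable {p e c : ℕ} {M : Ideal AlgInt} {X Y : Finset (IrrCharacter G)} {ζ : IrrCharacter G}
  {a : IrrCharacter G → ℤ} (h : BrData p e c M X Y ζ a)
include h

omit [Finite G] [IsSimpleGroup G] in
theorem rel_one (hp : p.Prime) :
    1 + ∑ χ ∈ X, a χ * charDegree χ.1 + a ζ * charDegree ζ.1 = 0 := by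
  have := h.rel 1 (by simpa using hp.one_lt.ne')
  simp_rw [← irr_degree_cast] at this
  exact_mod_cast this

omit [Finite G] [IsSimpleGroup G] in
theorem degY (hp : p.Prime) {χ : IrrCharacter G} (hχ : χ ∈ Y) :
    charDegree χ.1 = charDegree ζ.1 := by
  rw [charDegree, h.agree χ hχ 1 (by simpa using hp.one_lt.ne'), charDegree]

omit [Finite G] [IsSimpleGroup G] in
theorem degOK (hp : p.Prime) (he : e < p) {χ : IrrCharacter G} (hχ : χ ∈ principalBlock M G)
    (h1 : χ ≠ oneIrr G) : DegOK p e c (charDegree χ.1) := by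
  refine ⟨?_, h.lo χ hχ h1⟩
  rcases ((h.mem χ).mp hχ).resolve_left h1 with h2 | h2
  · rcases mod_of_sign (h.signX χ h2) hp.one_lt (h.degX χ h2) with h3 | h3 <;> simp [h3]
  have h3 : -a ζ * charDegree ζ.1 ≡ e [ZMOD p] := by
    have h4 := (Int.ModEq.sum (fun χ hχ => h.degX χ hχ)).add_left 1
    rw [eq_neg_of_add_eq_zero_left (h.rel_one hp)] at h4
    simpa [← h.cardX, add_comm] using h4
  rw [h.degY hp h2]
  rcases mod_of_sign (by rcases h.signY with e | e <;> simp [e]) he h3 with h3 | h3 <;> simp [h3]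

end BrData

include hG

theorem two_le_degree {χ : IrrCharacter G} (h1 : χ ≠ oneIrr G) : 2 ≤ charDegree χ.1 := by
  obtain ⟨M, hM⟩ := exists_isPModular Nat.prime_two
  have h0 := irr_degree_ne_zero χ
  by_contra h
  obtain ⟨lam, e⟩ := isChar_linear_of_degree_one (irr_isChar χ) (by
    rw [← irr_degree_cast, show charDegree χ.1 = 1 by omega, Nat.cast_one])
  exact h1 (Subtype.ext (e.trans (by simp [hom_comm_eq_one hG lam])))

theorem exists_numData {p : ℕ} (hp : p.Prime) (hd : p ∣ Nat.card G) (hsq : ¬ p ^ 2 ∣ Nat.card G) :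
    ∃ d e c L w, SylNum (Nat.card G) p d e c ∧ NumData (Nat.card G) p e c L w := by
  classical
  obtain ⟨d, e, c, hS, hc, hB⟩ := exists_brData hG hp hd hsq
  obtain ⟨M, hM⟩ := exists_isPModular hp
  obtain ⟨X, Y, ζ, a, h⟩ := hB M hM
  have hζ : ζ ∉ X := fun h1 => disjoint_left.mp h.disj h1 h.memY
  let s : IrrCharacter G → ℤ := fun χ => a χ * charDegree χ.1
  have hZ : s ζ ::ₘ X.val.map s = (X.cons ζ hζ).val.map s := by
    rw [cons_val, Multiset.map_cons]
  have hs : ∀ χ ∈ X.cons ζ hζ, (s χ).natAbs = charDegree χ.1 ∧ χ ∈ principalBlock M G ∧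
      χ ≠ oneIrr G := fun χ hχ => by
    rcases mem_cons.mp hχ with rfl | hχ
    · exact ⟨natAbs_sign_mul h.signY _, (h.mem _).mpr (Or.inr (Or.inr h.memY)),
        fun e => h.oneY (e ▸ h.memY)⟩
    · exact ⟨natAbs_sign_mul (h.signX χ hχ) _, (h.mem _).mpr (Or.inr (Or.inl hχ)),
        fun e => h.oneX (e ▸ hχ)⟩
  have hY : (p - 1) / e = Y.card := by
    rw [← h.cardY, Nat.add_sub_cancel, Nat.mul_div_cancel _ (by have := hS.lt; omega)]
  refine ⟨d, e, c, X.val.map s, s ζ, hS, by simpa using h.cardX, ?_,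
    (eq_neg_of_add_eq_zero_right (h.rel_one hp)), ?_, ?_, fun r hr hrn hrp hrc => ?_, ?_⟩
  · intro y hy
    obtain ⟨χ, hχ, rfl⟩ := Multiset.mem_map.mp hy
    exact h.degX χ hχ
  · intro y hy
    obtain ⟨χ, hχ, rfl⟩ := Multiset.mem_map.mp (hZ ▸ hy)
    obtain ⟨h1, h2, h3⟩ := hs χ hχ
    rw [h1]
    exact ⟨two_le_degree hG h3, isIrr_degree_dvd_card χ.2 (irr_degree_cast χ).symm,
      h.lo χ h2 h3, h.def0 χ h2⟩
  · have h1 : ∑ χ : IrrCharacter G, charDegree χ.1 ^ 2 = Nat.card G := by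
      have := sum_irr_one_sq (G := G)
      simp_rw [← irr_degree_cast] at this
      exact_mod_cast this
    have h2 := sum_le_sum_of_subset (f := fun χ : IrrCharacter G => charDegree χ.1 ^ 2)
      (subset_univ (insert (oneIrr G) (X ∪ Y)))
    rw [sum_insert (by simp [h.oneX, h.oneY]), sum_union h.disj, h1, sum_congr rfl fun χ hχ =>
      congrArg (· ^ 2) (h.degY hp hχ), sum_const, coe_oneIrr, charDegree_one_fun] at h2
    rw [hY, (hs ζ (mem_cons_self _ _)).1, Multiset.map_map, Multiset.map_congr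
      (f := _ ∘ s) rfl fun χ hχ => congrArg (· ^ 2) (hs χ (mem_cons_of_mem hχ)).1]
    exact lt_of_lt_of_le (Nat.lt_one_add_iff.mpr le_rfl) h2
  · obtain ⟨M', hM'⟩ := exists_isPModular hr
    have h1 : oneIrr G ∉ X.cons ζ hζ := fun h1 => (hs _ h1).2.2 rfl
    have h2 := dvd_sum_principal hM' ((X.cons ζ hζ).cons _ h1) (update a (oneIrr G) 1)
      fun g hg => by
        rw [sum_cons, sum_congr rfl fun χ hχ => by rw [update_of_ne (hs χ hχ).2.2], sum_cons,
          ← h.rel g fun h => hrc ((hc r hr hrp).mpr ⟨g, h, hg⟩)]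
        simp [add_comm, add_left_comm]
    rw [filter_cons, if_pos (oneIrr_mem_principalBlock hM'), sum_cons, update_self, coe_oneIrr,
      charDegree_one_fun, sum_congr rfl fun χ hχ => by
        rw [update_of_ne (hs χ (mem_filter.mp hχ).1).2.2]] at h2
    refine ⟨((X.cons ζ hζ).filter (· ∈ principalBlock M' G)).val.map s, hZ ▸ Multiset.map_le_map
      (Multiset.filter_le _ _), h2, fun y hy => ?_, fun hr2 => ?_⟩
    · obtain ⟨χ, hχ, rfl⟩ := Multiset.mem_map.mp hy
      obtain ⟨h3, h4⟩ := mem_filter.mp hχ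
      rw [(hs χ h3).1]
      refine ⟨fun h5 => (hs χ h3).2.2 ?_, fun k hk => (hs χ h3).2.2
        (eq_one_of_degree_pow hG hM' h4 hk)⟩
      have := blockOf_eq_singleton hM' ((hr.pow_dvd_iff_le_factorization
        (irr_degree_ne_zero χ)).mp h5)
      rw [← block_eq_blockOf hM' isPBlock_principalBlock h4] at this
      exact (this ▸ oneIrr_mem_principalBlock hM' : oneIrr G ∈ ({χ} : Set _)).symm
    · obtain ⟨d', e', c', hS', hc', hB'⟩ := exists_brData hG hr hrn hr2
      obtain ⟨X', Y', ζ', a', h'⟩ := hB' M' hM'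
      refine ⟨d', e', c', hS', fun h3 => ?_, fun y hy => ?_⟩
      · obtain ⟨g, h4, h5⟩ := (hc' p hp hrp.symm).mp h3
        exact hrc ((hc r hr hrp).mpr ⟨g, h5, h4⟩)
      · obtain ⟨χ, hχ, rfl⟩ := Multiset.mem_map.mp hy
        obtain ⟨h3, h4⟩ := mem_filter.mp hχ
        rw [(hs χ h3).1]
        have := Nat.le_of_dvd (by have := hr.two_le; omega) hS'.dvd
        exact h'.degOK hr (by have := hr.pos; omega) h4 (hs χ h3).2.2
  · intro x hx r hr m hm hm0
    have := Fact.mk hr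
    obtain ⟨R⟩ : Nonempty (Sylow r G) := inferInstance
    let T := univ.filter fun χ : IrrCharacter G => χ ∈ principalBlock M G ∧ charDegree χ.1 = x
    have hT : T.card = m := by
      have h1 : T = X.filter (fun χ => charDegree χ.1 = x) ∪ Y.filter (charDegree ·.1 = x) := by
        ext χ
        simp only [T, mem_filter, mem_univ, true_and, h.mem, mem_union, or_and_right]
        exact or_iff_right fun ⟨h1, h2⟩ => by
          rw [h1, coe_oneIrr, charDegree_one_fun] at h2; omega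
      rw [h1, card_union_of_disjoint (disjoint_filter_filter h.disj), hm, Multiset.filter_map,
        Multiset.card_map, hY, (hs ζ (mem_cons_self _ _)).1, filter_congr (s := Y) fun χ hχ => by
          rw [h.degY hp hχ], filter_const]
      congr 1
      · exact congrArg Multiset.card (Multiset.filter_congr fun χ hχ => by
          rw [comp_apply, (hs χ (mem_cons_of_mem hχ)).1])
      · split_ifs <;> rfl
    have hψ := isChar_sum T fun χ _ => irr_isChar χ
    rw [← R.card_eq_multiplicity]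
    refine schur_dvd hψ ?_ hr R.isPGroup' (fun g _ hg => ?_) fun g _ =>
      GaloisAut.exists_int_of_forall_aut (isChar_isIntegral hψ g) fun σ => ?_
    · rw [Finset.sum_apply, sum_congr rfl fun χ hχ => (irr_degree_cast χ).symm.trans
        (congrArg _ (mem_filter.mp hχ).2.2), sum_const, hT, nsmul_eq_mul, Nat.cast_mul]
    · obtain ⟨χ, hχ⟩ := card_pos.mp (hT ▸ Nat.pos_of_ne_zero hm0)
      rw [← add_sum_erase _ _ hχ] at hg
      have := ((isChar_add_eq_one_iff (irr_isChar χ) (isChar_sum _ fun χ _ => irr_isChar χ)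
        g).mp hg).1
      refine (charKer_eq_bot_of_simple χ.2 fun e => ?_).le ((mem_charKer_iff (irr_isChar χ)).mpr this)
      have := (mem_filter.mp hχ).2.2
      rw [e, charDegree_one_fun] at this
      omega
    · obtain ⟨k, hk, hσ⟩ := Galois.exists_pow_forall (G := G) σ.toRingHom
      refine (hσ _ (isChar_isGenChar hψ) g).trans ?_
      let f : IrrCharacter G → IrrCharacter G := fun χ => ⟨_, Galois.isIrr_pow_arg χ.2 hk⟩
      have hf : Injective f := fun χ ψ e => Subtype.ext (funext fun g => by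
        obtain ⟨g, rfl⟩ := (powCoprime hk.symm).surjective g
        exact congrFun (congrArg Subtype.val e) g)
      have h1 : T.image f = T := eq_of_subset_of_card_le (image_subset_iff.mpr fun χ hχ =>
        mem_filter.mpr ⟨mem_univ _, pow_mem_principal hM (mem_filter.mp hχ).2.1 hk, by
          simpa [f, charDegree] using (mem_filter.mp hχ).2.2⟩) (card_image_of_injective _ hf).ge
      conv_rhs => rw [← h1, sum_image hf.injOn]
      simp [Finset.sum_apply, f]

end Cfsg.Agent.Perm
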