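import Mathlib
import Cfsg.Agent.Perm.SieveNum

/-! A verified procedure that excludes orders of non-abelian simple groups. -/

set_option autoImplicit false

open Subgroup

namespace Cfsg.Agent.Perm.Sieve

def PR : List ℕ := [2, 3, 5, 7, 11, 13, 17, 19, 23, 29, 31, 37, 41, 43, 47]

def primeB (p : ℕ) : Bool :=
  2 ≤ p && p < 6400 && (List.range 80).all fun d => d < 2 || p < d * d || p % d != 0

def rp (n r : ℕ) : ℕ := n.gcd (r ^ 30)

def factOK (n d : ℕ) : Bool := 100 ≤ d || d.factorial % (2 * n) == 0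

def dList (n p m : ℕ) : List ℕ :=
  ((List.range (m / p + 1)).map (· * p + 1)).filter fun d => d != 1 && m % d == 0 && factOK n d

def cands (n p : ℕ) : List (ℕ × ℕ) := (dList n p (n / p)).flatMap fun d =>
  ((List.range p).filter fun e => 1 < e && (p - 1) % e == 0 && n / p / d % e == 0).map
    fun e => (e, n / p / d / e)

def okB (n p c x : ℕ) : Bool :=
  2 ≤ x && n % x == 0 && (c == 1 || 2 * p ≤ x) && PR.all fun r => c % r != 0 || x % rp n r != 0

def hit (R : ℕ) : List ℤ → ℤ → Bool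
  | [], s => s.natAbs % R == 0
  | y :: l, s => hit R l s || hit R l (s + y)

def degB (r e c x : ℕ) : Bool :=
  (x % r == 1 || (x + 1) % r == 0 || x % r == e || (x + e) % r == 0) && (c == 1 || 2 * r ≤ x)

def btFail (n p c : ℕ) (it : List ℤ) (r : ℕ) : Bool :=
  n % r == 0 && r != p && c % r != 0 &&
    let l := it.filter fun y => y.natAbs % rp n r != 0 && r ^ 30 % y.natAbs != 0
    (!hit (rp n r) l 1 || n % r ^ 2 != 0 && (cands n r).all fun ec => ec.2 % p == 0 ||
      !hit (rp n r) (l.filter fun y => degB r ec.1 ec.2 y.natAbs) 1)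

def schurFail (n t : ℕ) (w : ℤ) (acc : List ℤ) (x r : ℕ) : Bool :=
  let m := (acc.filter (·.natAbs = x)).length + if w.natAbs = x then t else 0
  2 ≤ x && m != 0 && m * x < 30 &&
    (r ^ (m * x / (r - 1)) * (m * x / (r - 1)).factorial) % rp n r != 0

def fin (n p e c : ℕ) (acc : List ℤ) : Bool :=
  let w := -(1 + acc.sum)
  !okB n p c w.natAbs || n ≤ (acc.map fun y => y.natAbs ^ 2).sum + (p - 1) / e * w.natAbs ^ 2 ||
    PR.any (btFail n p c (w :: acc)) ||
    (w :: acc).any fun y => PR.any (schurFail n ((p - 1) / e) w acc y.natAbs)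

def loop (f : ℕ → ℕ → List ℤ → Bool) (y : ℤ) : ℕ → ℕ → List ℤ → Bool
  | 0, b, acc => f 0 b acc
  | k + 1, b, acc => f (k + 1) b acc &&
      (b < y.natAbs ^ 2 || loop f y k (b - y.natAbs ^ 2) (y :: acc))

def go (f : List ℤ → Bool) : List ℤ → ℕ → ℕ → List ℤ → Bool
  | [] => fun k _ acc => k != 0 || f acc
  | y :: D => loop (go f D) y

def degList (n p c s : ℕ) : List ℤ := ((List.range s).filter (okB n p c)).flatMap fun x =>
  (if x % p = 1 % p then [(x : ℤ)] else []) ++ if (x + 1) % p = 0 then [-(x : ℤ)] else []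

def kill1 (n p s : ℕ) : Bool :=
  n % p == 0 && n % p ^ 2 != 0 && n < s * s && (cands n p).all fun ec =>
    go (fin n p ec.1 ec.2) (degList n p ec.2 s) (ec.1 - 1) n []

def killS (n p : ℕ) : Bool :=
  rp n p % p ^ 2 == 0 && (dList n p (n / rp n p)).all fun d => d % p ^ 2 != 1 &&
    (List.range (n / rp n p)).all fun k => n / rp n p % k != 0 || !factOK n (n / rp n p / k) ||
      (List.range (k / p + 1)).all fun x => x == 0 || k % (x * p + 1) != 0

/-- The certificate `(kind, p, q)`. -/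
def kill (n : ℕ) (c : ℕ × ℕ × ℕ) : Bool :=
  n < 2 ^ 30 && primeB c.2.1 && match c.1 with
    | 0 => primeB c.2.2 && (c.2.1 ^ 30 * c.2.2 ^ 30) % n == 0
    | 1 => kill1 n c.2.1 c.2.2
    | _ => killS n c.2.1

def killFrom (ex : List ℕ) : ℕ → List (ℕ × ℕ × ℕ) → Bool
  | _, [] => true
  | n, c :: l => (ex.contains n || kill n c) && killFrom ex (n + 1) l

theorem PR_prime : ∀ r ∈ PR, r.Prime := by decide +kernel

theorem prime_of_primeB {p : ℕ} (h : primeB p = true) : p.Prime := by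
  simp only [primeB, Bool.and_eq_true, decide_eq_true_eq, List.all_eq_true, List.mem_range,
    Bool.or_eq_true, bne_iff_ne] at h
  refine Nat.prime_def_le_sqrt.mpr ⟨h.1.1, fun d h2 h3 h4 => ?_⟩
  rw [Nat.le_sqrt] at h3
  rcases h.2 d (by nlinarith) with (h5 | h5) | h5
  · omega
  · omega
  · exact h5 (Nat.mod_eq_zero_of_dvd h4)

theorem rp_eq {n r : ℕ} (hr : r.Prime) (h0 : n ≠ 0) (hn : n < 2 ^ 30) :
    rp n r = r ^ n.factorization r := by
  have h1 : n.factorization r ≤ 30 := by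
    have := (Nat.le_of_dvd (Nat.pos_of_ne_zero h0) (Nat.ordProj_dvd n r)).trans_lt hn
    exact (Nat.pow_lt_pow_iff_right one_lt_two).mp
      ((Nat.pow_le_pow_left hr.two_le _).trans_lt this) |>.le
  refine Nat.dvd_antisymm ?_ (Nat.dvd_gcd (Nat.ordProj_dvd n r) (pow_dvd_pow r h1))
  obtain ⟨k, -, hk⟩ := (Nat.dvd_prime_pow hr).mp (Nat.gcd_dvd_right n (r ^ 30))
  rw [rp, hk]
  exact pow_dvd_pow r ((hr.pow_dvd_iff_le_factorization h0).mp (hk ▸ Nat.gcd_dvd_left _ _))

theorem factOK_of {n d : ℕ} (h : 2 * n ∣ d.factorial) : factOK n d = true := by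
  simp [factOK, Nat.mod_eq_zero_of_dvd h]

theorem mem_dList {n p m d : ℕ} (hm : m ≠ 0) (h1 : d % p = 1) (h2 : d ≠ 1) (h3 : d ∣ m)
    (h4 : 2 * n ∣ d.factorial) : d ∈ dList n p m := by
  simp only [dList, List.mem_filter, List.mem_map, List.mem_range, Bool.and_eq_true, bne_iff_ne,
    beq_iff_eq]
  exact ⟨⟨d / p, Nat.lt_succ_of_le (Nat.div_le_div_right (Nat.le_of_dvd (Nat.pos_of_ne_zero hm)
    h3)), by rw [← h1, Nat.div_add_mod']⟩, ⟨h2, Nat.mod_eq_zero_of_dvd h3⟩, factOK_of h4⟩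

theorem mem_cands {n p d e c : ℕ} (hp : p.Prime) (h0 : n ≠ 0) (h : SylNum n p d e c) :
    (e, c) ∈ cands n p := by
  have h1 : n / p = d * (e * c) := by rw [h.mul, Nat.mul_div_cancel_left _ hp.pos]
  have h2 : d * (e * c) ≠ 0 := fun e => h0 (by rw [h.mul, e, mul_zero])
  have h3 : n / p / d = e * c := by
    rw [h1, Nat.mul_div_cancel_left _ (Nat.pos_of_ne_zero (left_ne_zero_of_mul h2))]
  have := Nat.le_of_dvd (by have := hp.two_le; omega) h.dvd
  simp only [cands, List.mem_flatMap, List.mem_map, List.mem_filter, List.mem_range,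
    Bool.and_eq_true, decide_eq_true_eq, beq_iff_eq]
  exact ⟨d, mem_dList (h1 ▸ h2) h.mod h.ne (h1 ▸ dvd_mul_right _ _) h.fact, e,
    ⟨by have := hp.pos; omega, ⟨h.lt, Nat.mod_eq_zero_of_dvd h.dvd⟩, by simp [h3]⟩,
    by rw [h3, Nat.mul_div_cancel_left _ (by have := h.lt; omega)]⟩

theorem hit_of {R : ℕ} (l : List ℤ) : ∀ (s : ℤ) (S : Multiset ℤ), S ≤ l → (R : ℤ) ∣ s + S.sum →
    hit R l s = true := by
  induction l with
  | nil =>
    intro s S hS h
    rw [Multiset.le_zero.mp hS, Multiset.sum_zero, add_zero] at h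
    simpa [hit] using Nat.mod_eq_zero_of_dvd (Int.natCast_dvd.mp h)
  | cons y l ih =>
    intro s S hS h
    rw [hit, Bool.or_eq_true]
    by_cases hy : y ∈ S
    · obtain ⟨T, rfl⟩ := Multiset.exists_cons_of_mem hy
      exact Or.inr (ih _ T ((Multiset.cons_le_cons_iff y).mp hS)
        (by rwa [Multiset.sum_cons, ← add_assoc] at h))
    · exact Or.inl (ih _ S ((Multiset.le_cons_of_notMem hy).mp hS) h)

theorem le_filter {S : Multiset ℤ} {l : List ℤ} (h : S ≤ l) {q : ℤ → Bool}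
    (hq : ∀ y ∈ S, q y = true) : S ≤ (l.filter q : List ℤ) := by
  have := Multiset.le_filter (p := fun y => q y = true).mpr ⟨h, hq⟩
  simpa using this

variable {n p e c : ℕ} {w : ℤ}

theorem okB_of {L : Multiset ℤ} (h : NumData n p e c L w) (h0 : n ≠ 0) (hn : n < 2 ^ 30) {y : ℤ}
    (hy : y ∈ w ::ₘ L) : okB n p c y.natAbs = true := by
  obtain ⟨h1, h2, h3, h4⟩ := h.ok y hy
  simp only [okB, Bool.and_eq_true, decide_eq_true_eq, beq_iff_eq, Bool.or_eq_true,
    List.all_eq_true, bne_iff_ne]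
  refine ⟨⟨⟨h1, Nat.mod_eq_zero_of_dvd h2⟩, or_iff_not_imp_left.mpr h3⟩, fun r hr => ?_⟩
  rw [rp_eq (PR_prime r hr) h0 hn, Ne, Ne, ← Nat.dvd_iff_mod_eq_zero, ← Nat.dvd_iff_mod_eq_zero]
  exact imp_iff_not_or.mp (h4 r (PR_prime r hr))

theorem fin_eq_false {l : List ℤ} (h : NumData n p e c l w) (h0 : n ≠ 0) (hn : n < 2 ^ 30) :
    fin n p e c l ≠ true := by
  obtain rfl : w = -(1 + l.sum) := h.sum
  simp only [fin, Bool.or_eq_true, Bool.not_eq_true', decide_eq_true_eq, List.any_eq_true, ne_eq,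
    not_or, not_exists, not_and]
  refine ⟨⟨⟨Bool.not_eq_false _ ▸ okB_of h h0 hn (Multiset.mem_cons_self _ _), not_le.mpr h.sq⟩,
    fun r hr => ?_⟩, fun y _ r hr => ?_⟩
  · have hr := PR_prime r hr
    simp only [btFail, Bool.and_eq_true, beq_iff_eq, bne_iff_ne, ne_eq, Bool.or_eq_true,
      Bool.not_eq_true', List.all_eq_true, ← Nat.dvd_iff_mod_eq_zero, rp_eq hr h0 hn]
    rintro ⟨⟨⟨h1, h2⟩, h3⟩, h4⟩
    obtain ⟨S, h5, h6, h7, h8⟩ := h.bt r hr h1 h2 h3
    have h9 := le_filter h5 (q := fun y => y.natAbs % r ^ n.factorization r != 0 &&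
      r ^ 30 % y.natAbs != 0) fun y hy => by
        simp only [Bool.and_eq_true, bne_iff_ne, ne_eq, ← Nat.dvd_iff_mod_eq_zero]
        exact ⟨(h7 y hy).1, fun h => let ⟨k, _, hk⟩ := (Nat.dvd_prime_pow hr).mp h
          (h7 y hy).2 k hk⟩
    rcases h4 with h4 | ⟨h4, h10⟩
    · rw [hit_of _ _ S h9 h6] at h4
      exact Bool.noConfusion h4
    obtain ⟨d', e', c', hS, hc, hd⟩ := h8 h4
    have := (h10 _ (mem_cands hr h0 hS)).resolve_left hc
    rw [hit_of _ _ S (le_filter h9 fun y hy => ?_) h6] at this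
    · exact Bool.noConfusion this
    simpa [degB, or_assoc, imp_iff_not_or, DegOK] using hd y hy
  · have hr := PR_prime r hr
    simp only [schurFail, Bool.and_eq_true, decide_eq_true_eq, bne_iff_ne, ne_eq,
      ← Nat.dvd_iff_mod_eq_zero, rp_eq hr h0 hn]
    rintro ⟨⟨⟨h1, h2⟩, -⟩, h3⟩
    exact h3 (h.schur _ h1 r hr _ (by simp) h2)

theorem go_sound (f : List ℤ → Bool) (D : List ℤ) : ∀ (k b : ℕ) (acc : List ℤ) (S : Multiset ℤ),
    go f D k b acc = true → (∀ y ∈ S, y ∈ D) → S.card = k →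
    (S.map fun y => y.natAbs ^ 2).sum ≤ b → ∃ l : List ℤ, (l : Multiset ℤ) = S + acc ∧ f l = true := by
  induction D with
  | nil =>
    intro k b acc S h h1 h2 _
    obtain rfl : S = 0 := Multiset.eq_zero_of_forall_notMem fun y hy => by simpa using h1 y hy
    subst h2
    exact ⟨acc, by simp, by simpa [go] using h⟩
  | cons y D ih =>
    intro k
    induction k with
    | zero =>
      intro b acc S h _ h2 h3
      obtain rfl := Multiset.card_eq_zero.mp h2
      exact ih 0 b acc 0 h (by simp) rfl h3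
    | succ k ihk =>
      intro b acc S h h1 h2 h3
      simp only [go, loop, Bool.and_eq_true, Bool.or_eq_true, decide_eq_true_eq] at h
      by_cases hy : y ∈ S
      · obtain ⟨T, rfl⟩ := Multiset.exists_cons_of_mem hy
        rw [Multiset.map_cons, Multiset.sum_cons] at h3
        obtain ⟨l, h4, h5⟩ := ihk _ _ T (h.2.resolve_left (by omega))
          (fun z hz => h1 z (Multiset.mem_cons_of_mem hz)) (by simpa using h2) (by omega)
        exact ⟨l, by rw [h4, ← Multiset.cons_coe, Multiset.add_cons, Multiset.cons_add], h5⟩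
      · exact ih _ b acc S h.1 (fun z hz => (List.mem_cons.mp (h1 z hz)).resolve_left
          fun e => hy (e ▸ hz)) h2 h3

theorem mem_degList {L : Multiset ℤ} (h : NumData n p e c L w) (h0 : n ≠ 0) (hn : n < 2 ^ 30)
    {s : ℕ} (h3 : n < s * s) {y : ℤ} (hy : y ∈ L) : y ∈ degList n p c s := by
  have h5 := (Nat.le_add_right _ _).trans h.sq.le
  have h6 := (Multiset.single_le_sum (fun _ _ => Nat.zero_le _) _
    (Multiset.mem_map_of_mem (fun y : ℤ => y.natAbs ^ 2) hy)).trans h5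
  simp only [degList, List.mem_flatMap, List.mem_filter, List.mem_range, List.mem_append]
  refine ⟨y.natAbs, ⟨by nlinarith, okB_of h h0 hn (Multiset.mem_cons_of_mem hy)⟩, ?_⟩
  have h7 := h.mod y hy
  rcases Int.natAbs_eq y with h8 | h8
  · rw [h8] at h7
    rw [if_pos (show y.natAbs % p = 1 % p from Int.natCast_modEq_iff.mp h7)]
    exact Or.inl (List.mem_singleton.mpr h8)
  · rw [h8] at h7
    have := h7.dvd
    rw [sub_neg_eq_add, add_comm] at this
    rw [if_pos (Nat.mod_eq_zero_of_dvd (by exact_mod_cast this))]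
    exact Or.inr (List.mem_singleton.mpr h8)

variable {G : Type*} [Group G] [Finite G] [IsSimpleGroup G] (hG : ¬ IsMulCommutative G)
include hG

theorem not_kill1 (hp : p.Prime) (hn : Nat.card G < 2 ^ 30) (s : ℕ) :
    kill1 (Nat.card G) p s ≠ true := by
  simp only [kill1, Bool.and_eq_true, beq_iff_eq, bne_iff_ne, ne_eq, decide_eq_true_eq,
    List.all_eq_true, ← Nat.dvd_iff_mod_eq_zero]
  rintro ⟨⟨⟨h1, h2⟩, h3⟩, h4⟩
  obtain ⟨d, e, c, L, w, hS, h⟩ := exists_numData hG hp h1 h2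
  have h0 : Nat.card G ≠ 0 := Nat.card_pos.ne'
  have h5 := (Nat.le_add_right _ _).trans h.sq.le
  obtain ⟨l, h6, h7⟩ := go_sound _ _ _ _ _ L (h4 _ (mem_cands hp h0 hS))
    (fun y hy => mem_degList h h0 hn h3 hy) (by rw [← h.card]; rfl) h5
  rw [Multiset.coe_nil, add_zero] at h6
  exact fin_eq_false (h6 ▸ h) h0 hn h7

theorem exists_inter [hp : Fact p.Prime] (P : Sylow p G) (h2 : p ^ 2 ∣ Nat.card P)
    (hd : ¬ Nat.card (Sylow p G) ≡ 1 [MOD p ^ 2]) : ∃ (Q : Sylow p G) (N : Subgroup G), Q ≠ P ∧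
      (Q : Subgroup G).relIndex P = p ∧ N = normalizer ((P : Subgroup G) ⊓ Q : Subgroup G) ∧
      N ≠ ⊤ ∧ (P : Subgroup G) ≤ N ∧ (Q : Subgroup G) ≤ N ∧ Nat.card (Sylow p N) ≠ 1 := by
  obtain ⟨Q, hQ, j, hj, h1⟩ := exists_sylow_relIndex_le P hd
  have hc : Nat.card Q = Nat.card P := by rw [P.card_eq_multiplicity, Q.card_eq_multiplicity]
  obtain rfl : j = 1 := by
    by_contra h
    rw [show j = 0 by omega, pow_zero, relIndex_eq_one] at h1
    exact hQ (Sylow.ext (eq_of_le_of_card_ge h1 hc.le).symm)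
  rw [pow_one] at h1
  have h3 : (P : Subgroup G).relIndex Q = p := by
    have h4 := card_mul_index ((P : Subgroup G).subgroupOf Q)
    have h5 := card_mul_index ((Q : Subgroup G).subgroupOf P)
    rw [← card_map_of_injective (subtype_injective _), subgroupOf_map_subtype] at h4 h5
    rw [inf_comm, hc, ← h5] at h4
    exact (Nat.eq_of_mul_eq_mul_left Nat.card_pos h4).trans h1
  have key : ∀ A B : Sylow p G, (B : Subgroup G).relIndex A = p →
      (A : Subgroup G) ≤ normalizer ((A : Subgroup G) ⊓ B : Subgroup G) := fun A B h => by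
    refine (normal_subgroupOf_iff_le_normalizer inf_le_left).mp ?_
    rw [inf_subgroupOf_left]
    refine normal_of_index_eq_minFac_card (h.trans ?_)
    obtain ⟨k, hk⟩ := A.isPGroup'.exists_card_eq
    have : p ∣ p ^ k := hk ▸ h.symm.dvd.trans (index_dvd_card _)
    rw [hk, Nat.Prime.pow_minFac hp.out (by rintro rfl; exact hp.out.not_dvd_one this)]
  have hP := key P Q h1
  have hQ' := inf_comm (Q : Subgroup G) P ▸ key Q P h3
  refine ⟨Q, _, hQ, h1, rfl, normalizer_ne_top (fun h => ?_) fun h => sylow_ne_top hG P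
    (eq_top_iff.mpr (h.ge.trans inf_le_left)), hP, hQ', fun h => hQ ?_⟩
  · rw [← inf_relIndex_left, h, relIndex_bot_left] at h1
    exact (Nat.pow_lt_pow_right hp.out.one_lt one_lt_two).not_ge
      (Nat.le_of_dvd (pow_pos hp.out.pos 1) (h2.trans (h1.trans (pow_one p).symm).dvd))
  · have := (Nat.card_eq_one_iff_unique.mp h).1
    exact Sylow.subtype_injective (Subsingleton.elim (Q.subtype hQ') (P.subtype hP))

theorem not_killS (hp : p.Prime) (hn : Nat.card G < 2 ^ 30) : killS (Nat.card G) p ≠ true := by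
  have := Fact.mk hp
  obtain ⟨P⟩ : Nonempty (Sylow p G) := inferInstance
  have h0 : Nat.card G ≠ 0 := Nat.card_pos.ne'
  have h1 : Nat.card G / Nat.card P = P.index := by
    rw [← P.card_mul_index, Nat.mul_div_cancel_left _ Nat.card_pos]
  simp only [killS, Bool.and_eq_true, beq_iff_eq, bne_iff_ne, ne_eq, List.all_eq_true,
    rp_eq hp h0 hn, ← P.card_eq_multiplicity, h1, List.mem_range, Bool.or_eq_true,
    Bool.not_eq_true', ← Nat.dvd_iff_mod_eq_zero]
  rintro ⟨h2, h3⟩
  have h4 := (dvd_pow_self p two_ne_zero).trans (h2.trans (card_subgroup_dvd_card _))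
  obtain ⟨h5, h6⟩ := h3 _ (mem_dList index_ne_zero_of_finite (Eq.trans (card_sylow_modEq_one p G)
    (Nat.mod_eq_of_lt hp.one_lt)) (card_sylow_ne_one hG h4) P.card_dvd_index
    (two_mul_card_dvd_factorial_sylow hG h4))
  obtain ⟨Q, N, -, -, -, h7, h8, -, h9⟩ := exists_inter hG P h2 fun h => h5 (Eq.trans h
    (Nat.mod_eq_of_lt (Nat.one_lt_pow two_ne_zero hp.one_lt)))
  have h10 := relIndex_mul_index h8
  have h11 : (P : Subgroup G).relIndex N ≠ 0 := index_ne_zero_of_finite
  have h12 := one_lt_index_of_ne_top h7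
  rcases h6 ((P : Subgroup G).relIndex N) (by nlinarith [Nat.pos_of_ne_zero h11]) with (h | h) | h
  · exact h ⟨_, h10.symm⟩
  · rw [← h10, Nat.mul_div_cancel_left _ (Nat.pos_of_ne_zero h11),
      factOK_of (two_mul_card_dvd_factorial hG N h7)] at h
    exact Bool.noConfusion h
  have h13 : Nat.card (Sylow p N) ∣ (P : Subgroup G).relIndex N := (P.subtype h8).card_dvd_index
  have h14 := Nat.div_add_mod' (Nat.card (Sylow p N)) p
  rw [Eq.trans (card_sylow_modEq_one p N) (Nat.mod_eq_of_lt hp.one_lt)] at h14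
  rcases h _ (Nat.lt_succ_of_le (Nat.div_le_div_right (Nat.le_of_dvd (Nat.pos_of_ne_zero h11)
    h13))) with h | h
  · exact h9 (by rw [← h14, h, zero_mul])
  · exact h (h14.symm ▸ h13)

theorem not_kill (c : ℕ × ℕ × ℕ) : kill (Nat.card G) c ≠ true := by
  simp only [kill, Bool.and_eq_true, decide_eq_true_eq, ne_eq]
  rintro ⟨⟨h1, h2⟩, h3⟩
  have hp := prime_of_primeB h2
  split at h3
  · simp only [Bool.and_eq_true, beq_iff_eq, ← Nat.dvd_iff_mod_eq_zero] at h3
    exact not_solvable_of_not_comm hG (Char.burnside_of_dvd hp (prime_of_primeB h3.1) h3.2)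
  · exact not_kill1 hG hp h1 _ h3
  · exact not_killS hG hp h1 h3

theorem mem_of_killFrom (ex : List ℕ) (l : List (ℕ × ℕ × ℕ)) : ∀ n, killFrom ex n l = true →
    n ≤ Nat.card G → Nat.card G < n + l.length → Nat.card G ∈ ex := by
  induction l with
  | nil => intro n _ h1 h2; simp at h2; omega
  | cons c l ih =>
    intro n h h1 h2
    simp only [killFrom, Bool.and_eq_true, Bool.or_eq_true, List.contains_iff_mem] at h
    rcases h1.eq_or_lt with rfl | h1
    · exact h.1.resolve_right (not_kill hG c)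
    · exact ih _ h.2 h1 (by rw [List.length_cons] at h2; omega)

omit hG in
theorem card_ne {n : ℕ} (c : ℕ × ℕ × ℕ) (h : kill n c = true) (hn : ¬ n.Prime) :
    Nat.card G ≠ n := by
  rintro rfl
  exact not_kill (not_comm_of_not_prime hn) c h

end Cfsg.Agent.Perm.Sieve
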