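import Mathlib
import Cfsg.Agent.Perm.FC6

/-!
Zassenhaus: solvable Frobenius complements, and the list of all quotients by the largest normal
`Z`-subgroup.
-/

set_option autoImplicit false
set_option linter.unusedSectionVars false

namespace Cfsg.Agent.Perm

open Subgroup Inv
open scoped MatrixGroups

variable {G : Type*} [Group G]

theorem ker_conjNormal (N : Subgroup G) [N.Normal] :
    (MulAut.conjNormal : G →* MulAut N).ker = centralizer (N : Set G) := by
  ext g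
  rw [MonoidHom.mem_ker, mem_centralizer_iff]
  refine ⟨fun h y hy => ?_, fun h => MulEquiv.ext fun y => Subtype.ext ?_⟩
  · have h2 := MulAut.conjNormal_apply g (⟨y, hy⟩ : N)
    rw [h] at h2
    exact eq_mul_inv_iff_mul_eq.1 h2
  · rw [MulAut.conjNormal_apply, ← h y y.2, mul_inv_cancel_right]; rfl

theorem GQ.map' {S : Subgroup G} {a b : G} {n : ℕ} (h : GQ S a b n) {H : Type*} [Group H]
    {f : G →* H} (hf : Disjoint S f.ker) : GQ (S.map f) (f a) (f b) n := by
  refine ⟨h.toMC.map' hf, ?_⟩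
  rintro _ ⟨s, hs, rfl⟩ hs'
  rw [← map_mul, ← map_pow, h.sq s hs fun ⟨i, hi⟩ => hs' ⟨i, by rw [← hi]; simp⟩]

theorem GQ.eq_z {S : Subgroup G} {a b : G} {n : ℕ} (h : GQ S a b n) {t : G} (ht : t ∈ S)
    (h2 : orderOf t = 2) : t = a ^ 2 ^ (n + 1) := by
  refine h.toMC.eq_z (by_contra fun hn => ?_) h2
  exact ne_one_of_two h.z_two ((h.sq t ht hn).symm.trans (mul_self_of_two h2))

theorem solv_aux [Finite G] [Group.IsSolvable G] (hO : oddCore G = ⊥) (S : Sylow 2 G) {a b : G}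
    {n : ℕ} (hq : GQ (S : Subgroup G) a b n) (h2 : ¬ IsPGroup 2 G) :
    ∃ f : G →* Equiv.Perm (Fin 4), alternatingGroup (Fin 4) ≤ f.range ∧
      f.ker = zpowers (a ^ 2 ^ (n + 1)) := by
  have : Fact (Nat.Prime 2) := ⟨Nat.prime_two⟩
  have hC := Core.centralizer_pCore_le (G := G) 2 hO
  have hle := Core.pCore_le_sylow S
  obtain ⟨g, hg, hg1⟩ : ∃ g : G, Odd (orderOf g) ∧ g ≠ 1 := by
    by_contra! hc
    exact h2 (isPGroup_of_odd_eq_one hc)
  have hgC : g ∉ centralizer (pCore 2 G : Set G) := fun c =>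
    hg1 (eq_one_of_odd_of_mem_two_group (Core.pCore_isPGroup 2) (hC c) hg)
  have hzC : a ^ 2 ^ (n + 1) ∈ centralizer (pCore 2 G : Set G) := fun s hs => hq.commute_z (hle hs)
  rcases hq.essential hle (hC hzC) (normalizer_eq_top (pCore 2 G) ▸ trivial) hg hgC with
    ⟨t, ht, ht', h1, -⟩ | ⟨m, hm, t, ht, ht', h1, hB⟩
  · exact absurd ((hq.sq t ht ht').symm.trans h1) (ne_one_of_two hq.z_two)
  obtain rfl : n = m := by omega
  obtain ⟨e⟩ := (hq.change ht ht').q8 h1
  have hmc := (hq.change ht ht').q8'.mc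
  rw [← hB] at e hmc
  obtain ⟨e'⟩ := S3742.result
  let f := ((MulAut.congr e).trans e').toMonoidHom.comp (MulAut.conjNormal (H := pCore 2 G))
  have hk : f.ker = centralizer (pCore 2 G : Set G) := by
    rw [← MonoidHom.comap_ker, (MonoidHom.ker_eq_bot_iff _).2 (MulEquiv.injective _),
      MonoidHom.comap_bot, ker_conjNormal]
  have hk' : f.ker = zpowers (a ^ 2 ^ (n + 1)) := by
    rw [hk]
    refine le_antisymm (fun s hs => ?_) (zpowers_le.2 hzC)
    rcases hmc.central_cases (n := 0) (hC hs) (fun u hu => (hs u hu).symm) with e1 | e1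
    · rw [e1]; exact one_mem _
    · rw [e1, ← pow_mul, ← pow_add]; exact mem_zpowers _
  refine ⟨f, Equiv.Perm.alternatingGroup_le_of_index_le_two ?_, hk'⟩
  have h24 : Nat.card f.range * f.range.index = 24 := by
    rw [card_mul_index, Nat.card_perm, Nat.card_eq_fintype_card, Fintype.card_fin]; rfl
  have h4 : 4 ∣ Nat.card f.range := by
    have h5 : 8 ∣ Nat.card G := q8_card e ▸ card_subgroup_dvd_card _
    rw [← f.ker.card_mul_index, hk', Nat.card_zpowers, hq.z_two, ← hk', index_ker] at h5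
    omega
  have h3 : 3 ∣ Nat.card f.range := by
    have h5 : orderOf (f g) ∣ Nat.card f.range := orderOf_dvd_natCard _ ⟨g, rfl⟩
    have h6 : Odd (orderOf (f g)) := hg.of_dvd_nat (orderOf_map_dvd f g)
    have h7 : orderOf (f g) ≠ 1 := fun e1 => hgC (hk.le (orderOf_eq_one_iff.1 e1))
    have h8 : orderOf (f g) ∣ 8 * 3 := h5.trans ⟨_, h24.symm⟩
    have h9 : orderOf (f g) ∣ 3 :=
      (Nat.Coprime.pow_right 3 (Nat.coprime_two_right.2 h6)).dvd_of_dvd_mul_left h8
    rwa [((Nat.dvd_prime Nat.prime_three).1 h9).resolve_left h7] at h5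
  have h12 := Nat.le_of_dvd Nat.card_pos (Nat.Coprime.mul_dvd_of_dvd_of_dvd (by norm_num) h4 h3)
  nlinarith

theorem two_aux [Finite G] {a b : G} {n : ℕ} (hq : GQ (⊤ : Subgroup G) a b n) :
    ∃ f : G →* DihedralGroup 2, Function.Surjective f ∧ f.ker = zpowers (a * a) := by
  have hn : (zpowers (a * a)).Normal := ⟨fun x hx g => hq.conj_mem_sq (mem_top g) hx⟩
  have h4 : Nat.card (G ⧸ zpowers (a * a)) = 4 := by
    have h1 := (zpowers (a * a)).card_mul_index
    rw [Nat.card_zpowers, hq.ord_sq, ← card_top (G := G), hq.card, pow_add _ (n + 1)] at h1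
    exact Nat.eq_of_mul_eq_mul_left (by positivity) h1
  have : IsKleinFour (G ⧸ zpowers (a * a)) := by
    refine ⟨h4, ((Nat.dvd_prime Nat.prime_two).1
      (Monoid.exponent_dvd_of_forall_pow_eq_one fun x => ?_)).resolve_left fun e => ?_⟩
    · obtain ⟨s, rfl⟩ := QuotientGroup.mk_surjective x
      rw [← QuotientGroup.mk_pow, QuotientGroup.eq_one_iff, sq]
      by_cases hs : s ∈ zpowers a
      · obtain ⟨i, rfl⟩ := hs
        exact ⟨i, ((Commute.refl a).mul_zpow i)⟩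
      · rw [hq.sq s (mem_top s) hs]; exact MC.w_mem_sq a n
    · have := Monoid.exp_eq_one_iff.1 e
      rw [Nat.card_of_subsingleton (1 : G ⧸ zpowers (a * a))] at h4
      omega
  obtain ⟨e⟩ := IsKleinFour.nonempty_mulEquiv (G₁ := G ⧸ zpowers (a * a)) (G₂ := DihedralGroup 2)
  refine ⟨e.toMonoidHom.comp (QuotientGroup.mk' _),
    e.surjective.comp (QuotientGroup.mk'_surjective _), ?_⟩
  rw [← MonoidHom.comap_ker, (MonoidHom.ker_eq_bot_iff _).2 e.injective, MonoidHom.comap_bot,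
    QuotientGroup.ker_mk']

theorem IsFC.isZGroup_comap [Finite G] (h : IsFC G) {X : Type*} [Group X] (f : G →* X)
    (hf : Odd (Nat.card f.ker)) (x : X) : IsZGroup ((zpowers x).comap f) := by
  refine (h.subgroup _).isZGroup_of_two fun P => ?_
  let φ : P →* zpowers x := (f.comp (((zpowers x).comap f).subtype.comp
    (P : Subgroup _).subtype)).codRestrict _ fun g => g.1.2
  refine isCyclic_of_injective φ ((injective_iff_map_eq_one φ).2 fun g hg => ?_)
  have h1 : ((g : (zpowers x).comap f) : G) ∈ f.ker := congrArg Subtype.val hg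
  refine Subtype.ext (eq_one_of_odd_of_mem_two_group P.2 g.2 ?_)
  rw [← orderOf_coe]
  exact hf.of_dvd_nat (orderOf_dvd_natCard _ h1)

/-- A solvable Frobenius complement involving `SL(2,3)`. -/
structure S4Data (z : G) (f : G →* Equiv.Perm (Fin 4)) : Prop where
  two : orderOf z = 2
  le : alternatingGroup (Fin 4) ≤ f.range
  ker : f.ker = zpowers z ⊔ oddCore G
  zgrp : IsZGroup f.ker

theorem IsFC.solvable_cases [Finite G] [Group.IsSolvable G] (h : IsFC G) : IsZGroup G ∨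
    (∃ f : G →* DihedralGroup 2, Function.Surjective f ∧ IsZGroup f.ker) ∨
    ∃ z f, S4Data (G := G) z f := by
  have : Fact (Nat.Prime 2) := ⟨Nat.prime_two⟩
  by_cases hZ : ∀ P : Sylow 2 G, IsCyclic P
  · exact Or.inl (h.isZGroup_of_two hZ)
  push Not at hZ
  obtain ⟨S, hS⟩ := hZ
  obtain ⟨a, b, n, hq⟩ := h.exists_gq S.2 hS
  set π := QuotientGroup.mk' (oddCore G) with hπ
  have hk : π.ker = oddCore G := QuotientGroup.ker_mk' _
  have ho : Odd (Nat.card π.ker) := by rw [hk]; exact odd_oddCore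
  have hq' : GQ (sylowQuo S (oddCore G) : Subgroup (G ⧸ oddCore G)) (π a) (π b) n :=
    hq.map' (disjoint_ker_of_odd S.2 odd_oddCore)
  by_cases h2 : IsPGroup 2 (G ⧸ oddCore G)
  · rw [← (sylowQuo S (oddCore G)).is_maximal' (h2.to_subgroup ⊤) le_top] at hq'
    obtain ⟨f, hf, hfk⟩ := two_aux hq'
    refine Or.inr (Or.inl ⟨f.comp π, hf.comp (QuotientGroup.mk'_surjective _), ?_⟩)
    rw [← MonoidHom.comap_ker, hfk]
    exact h.isZGroup_comap π ho _
  · obtain ⟨f, hf, hfk⟩ := solv_aux (Core.pPrimeCore_quotient_pPrimeCore 2) _ hq' h2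
    refine Or.inr (Or.inr ⟨_, f.comp π, hq.z_two, ?_, ?_, ?_⟩)
    · rwa [MonoidHom.range_comp, MonoidHom.range_eq_top.2 (QuotientGroup.mk'_surjective _),
        ← MonoidHom.range_eq_map]
    · rw [← MonoidHom.comap_ker, hfk, ← map_pow, ← MonoidHom.map_zpowers, comap_map_eq, hk]
    · rw [← MonoidHom.comap_ker, hfk]
      exact h.isZGroup_comap π ho _

theorem IsFC.cases [Finite G] (h : IsFC G) : IsZGroup G ∨
    (∃ f : G →* DihedralGroup 2, Function.Surjective f ∧ IsZGroup f.ker) ∨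
    (∃ z f, S4Data (G := G) z f) ∨ ∃ L z f, NSData (G := G) L z f := by
  by_cases hs : Group.IsSolvable G
  · exact h.solvable_cases.imp_right (Or.imp_right Or.inl)
  · exact Or.inr (Or.inr (Or.inr (h.exists_nsData hs)))

theorem NSData.le {L : Subgroup G} {z : G} {f : G →* Equiv.Perm (Fin 5)} (h : NSData L z f) :
    alternatingGroup (Fin 5) ≤ f.range := h.map ▸ map_le_range f L

theorem alt_or_top {n : ℕ} {H : Subgroup (Equiv.Perm (Fin (n + 2)))}
    (h : alternatingGroup _ ≤ H) : H = alternatingGroup _ ∨ H = ⊤ := by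
  have h1 := index_dvd_of_le h
  rw [alternatingGroup.index_eq_two] at h1
  rcases (Nat.dvd_prime Nat.prime_two).1 h1 with e | e
  · exact Or.inr (index_eq_one.1 e)
  · exact Or.inl (Equiv.Perm.eq_alternatingGroup_of_index_eq_two e)

theorem surj_cases {n : ℕ} (f : G →* Equiv.Perm (Fin (n + 2)))
    (h : alternatingGroup _ ≤ f.range) :
    (∃ g : G →* alternatingGroup (Fin (n + 2)), Function.Surjective g ∧ g.ker = f.ker) ∨
      Function.Surjective f := by
  rcases alt_or_top h with e | e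
  · refine Or.inl ⟨f.codRestrict _ fun x => e.le ⟨x, rfl⟩, fun y => ?_, f.ker_codRestrict _ _⟩
    obtain ⟨x, hx⟩ := h y.2
    exact ⟨x, Subtype.ext hx⟩
  · exact Or.inr (MonoidHom.range_eq_top.1 e)

open scoped IsMulCommutative in
theorem isCyclic_of_zgroup_of_comm [Finite G] [IsZGroup G] [IsMulCommutative G] : IsCyclic G :=
  have : Group.IsNilpotent G := inferInstance
  inferInstance

theorem exists_normal_cyclic [Finite G] {Y : Subgroup G} [Y.Normal] [IsZGroup Y] (h : Y ≠ ⊥) :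
    ∃ g ∈ Y, g ≠ 1 ∧ (zpowers g).Normal := by
  have key : ∀ B : Subgroup G, B.Normal → IsCyclic B → B ≠ ⊥ → B ≤ Y →
      ∃ g ∈ Y, g ≠ 1 ∧ (zpowers g).Normal := fun B hB hc h0 hle => by
    obtain ⟨g, rfl⟩ := B.isCyclic_iff_exists_zpowers_eq_top.1 hc
    exact ⟨g, hle (mem_zpowers g), fun e => h0 (by rw [e, zpowers_one_eq_bot]), hB⟩
  by_cases hc : commutator Y = ⊥
  · have : IsMulCommutative Y := (commutator_eq_bot_iff Y).1 hc
    exact key Y inferInstance isCyclic_of_zgroup_of_comm h le_rfl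
  · have := IsZGroup.isCyclic_commutator Y
    refine key ((commutator Y).map Y.subtype) inferInstance
      (isCyclic_of_surjective _ (Y.subtype.subgroupMap_surjective _)) ?_ (map_subtype_le _)
    rwa [Ne, map_eq_bot_iff_of_injective _ Y.subtype_injective]

theorem perm_four_test : ∀ σ : Equiv.Perm (Fin 4), σ ≠ 1 → ∃ τ, Equiv.Perm.sign τ = 1 ∧
    (τ * σ * τ⁻¹ * σ ≠ σ * (τ * σ * τ⁻¹) ∨ (σ * σ = 1 ∧ τ * σ * τ⁻¹ ≠ σ)) := by decide +kernel

theorem perm_five_test : ∀ σ : Equiv.Perm (Fin 5), σ ≠ 1 → ∃ τ, Equiv.Perm.sign τ = 1 ∧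
    (τ * σ * τ⁻¹ * σ ≠ σ * (τ * σ * τ⁻¹) ∨ (σ * σ = 1 ∧ τ * σ * τ⁻¹ ≠ σ)) := by decide +kernel

theorem eq_one_of_normal_zpowers {α : Type*} [Fintype α] [DecidableEq α]
    (ht : ∀ σ : Equiv.Perm α, σ ≠ 1 → ∃ τ, Equiv.Perm.sign τ = 1 ∧
      (τ * σ * τ⁻¹ * σ ≠ σ * (τ * σ * τ⁻¹) ∨ (σ * σ = 1 ∧ τ * σ * τ⁻¹ ≠ σ)))
    {σ : Equiv.Perm α} (h : ∀ τ ∈ alternatingGroup α, τ * σ * τ⁻¹ ∈ zpowers σ) : σ = 1 := by
  by_contra h1
  obtain ⟨τ, hτ, h2 | ⟨h2, h3⟩⟩ := ht σ h1
  · exact h2 (commute_of_mem_zpowers₂ (h τ hτ) (mem_zpowers σ)).eq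
  · rcases (mem_zpowers_two (two_of_mul_self h1 h2)).1 (h τ hτ) with e | e
    · exact h1 (by simpa using e)
    · exact h3 e

/-- Normal `Z`-subgroups act trivially in the representations on four or five points. -/
theorem le_ker_of_zgroup [Finite G] {α : Type*} [Fintype α] [DecidableEq α]
    (ht : ∀ σ : Equiv.Perm α, σ ≠ 1 → ∃ τ, Equiv.Perm.sign τ = 1 ∧
      (τ * σ * τ⁻¹ * σ ≠ σ * (τ * σ * τ⁻¹) ∨ (σ * σ = 1 ∧ τ * σ * τ⁻¹ ≠ σ)))
    (f : G →* Equiv.Perm α) (hf : alternatingGroup α ≤ f.range) (N : Subgroup G) [hN : N.Normal]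
    [IsZGroup N] : N ≤ f.ker := by
  have := hN.map f.rangeRestrict f.rangeRestrict_surjective
  have : IsZGroup (N.map f.rangeRestrict) :=
    IsZGroup.of_surjective (f.rangeRestrict.subgroupMap_surjective N)
  rw [← f.ker_rangeRestrict, ← Subgroup.map_eq_bot_iff]
  by_contra h0
  obtain ⟨g, -, h1, h2⟩ := exists_normal_cyclic h0
  refine h1 (Subtype.ext (eq_one_of_normal_zpowers ht fun τ hτ => ?_))
  obtain ⟨i, hi⟩ := h2.conj_mem g (mem_zpowers g) ⟨τ, hf hτ⟩
  exact ⟨i, congrArg Subtype.val hi⟩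

end Cfsg.Agent.Perm
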