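import Mathlib

/-!
The field generated by an abelian normal subgroup of a linear group that is transitive on the
non-zero vectors (up to sign).
-/

set_option autoImplicit false
set_option linter.unusedSectionVars false

namespace Cfsg.Agent.Perm

open Subgroup

theorem card_ringEquiv {F : Type*} [Field F] [Finite F] {p f : ℕ} [hp : Fact p.Prime] [CharP F p]
    (hF : Nat.card F = p ^ f) : Nat.card (F ≃+* F) = f := by
  letI := ZMod.algebra F p
  let e : (F ≃+* F) ≃ (F ≃ₐ[ZMod p] F) :=
    { toFun := fun σ => { σ with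
        commutes' := fun r => RingHom.congr_fun (RingHom.ext_zmod
          (σ.toRingHom.comp (algebraMap (ZMod p) F)) (algebraMap (ZMod p) F)) r }
      invFun := fun σ => σ.toRingEquiv
      left_inv := fun _ => rfl
      right_inv := fun _ => rfl }
  rw [Nat.card_congr e, IsGalois.card_aut_eq_finrank]
  apply Nat.pow_right_injective hp.out.two_le
  simp only
  rw [← hF, Module.natCard_eq_pow_finrank (K := ZMod p), Nat.card_zmod]

variable {G V : Type*} [Group G] [AddCommGroup V] [DistribMulAction G V]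

theorem exists_semilinear_hom [Nontrivial V] {F : Type*} [Field F] [Module F V]
    (h : ∀ (g : G) (l : F), ∃ l' : F, ∀ v : V, g • l • v = l' • g • v) :
    ∃ σ : G →* (F ≃+* F), ∀ (g : G) (l : F) (v : V), g • l • v = σ g l • g • v := by
  choose s hs using h
  have u : ∀ (g : G) (a b : F), (∀ v : V, a • g • v = b • g • v) → a = b := fun g a b e => by
    obtain ⟨v, hv⟩ := exists_ne (0 : V)
    have := e (g⁻¹ • v)
    rw [smul_inv_smul] at this
    exact smul_left_injective F hv this
  have h1 : ∀ g g' l, s (g * g') l = s g (s g' l) := fun g g' l => u (g * g') _ _ fun v => by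
    rw [← hs, mul_smul, mul_smul, hs, hs]
  have h2 : ∀ l, s 1 l = l := fun l => u (1 : G) _ _ fun v => by rw [← hs, one_smul, one_smul]
  exact ⟨MonoidHom.mk' (fun g =>
    { toFun := s g
      invFun := s g⁻¹
      left_inv := fun l => by rw [← h1, inv_mul_cancel, h2]
      right_inv := fun l => by rw [← h1, mul_inv_cancel, h2]
      map_mul' := fun a b => u g _ _ fun v => by rw [← hs, mul_smul, mul_smul, hs, hs]
      map_add' := fun a b => u g _ _ fun v => by
        rw [← hs, add_smul, add_smul, smul_add, hs, hs] })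
    fun g g' => RingEquiv.ext (h1 g g'), hs⟩

variable (V) in
/-- `A` acts on `V` by scalars from the field `F` and generates it; `G` acts semilinearly. -/
structure FData (A : Subgroup G) (F : Type*) [Field F] [Module F V] (σ : G →* (F ≃+* F)) :
    Prop where
  scalar : ∀ a ∈ A, ∃ l : F, ∀ v : V, a • v = l • v
  semi : ∀ (g : G) (l : F) (v : V), g • l • v = σ g l • g • v
  ker : σ.ker = centralizer (A : Set G)
  span : ∀ W : AddSubgroup V, (∀ a ∈ A, ∀ v ∈ W, a • v ∈ W) → ∀ l : F, ∀ v ∈ W, l • v ∈ W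

open scoped IsMulCommutative in
theorem exists_fData [Finite V] [Nontrivial V] [FaithfulSMul G V]
    (htr : ∀ v w : V, v ≠ 0 → w ≠ 0 → ∃ g : G, g • v = w ∨ g • v = -w) (A : Subgroup G)
    [hA : A.Normal] (hc : ∀ a ∈ A, ∀ b ∈ A, a * b = b * a) :
    ∃ (F : Type) (_ : Field F) (_ : Fintype F) (_ : Module F V) (σ : G →* (F ≃+* F)),
      FData V A F σ := by
  classical
  let φ := DistribMulAction.toAddMonoidEnd G V
  have hφ : ∀ (g : G) (v : V), φ g • v = g • v := fun _ _ => rfl
  let B := Subring.closure (φ '' A)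
  have : Finite (AddMonoid.End V) := DFunLike.finite _
  have := Subring.isMulCommutative_closure (s := φ '' A) (by
    rintro _ ⟨a, ha, rfl⟩ _ ⟨b, hb, rfl⟩
    rw [← map_mul, hc a ha b hb, map_mul])
  have hconj : ∀ g : G, ∀ x ∈ B, φ g * x * φ g⁻¹ ∈ B := fun g x hx => by
    induction hx using Subring.closure_induction with
    | mem x hx =>
      obtain ⟨a, ha, rfl⟩ := hx
      exact Subring.subset_closure ⟨_, hA.conj_mem a ha g, by rw [map_mul, map_mul]⟩
    | zero => simp
    | one => rw [mul_one, ← map_mul, mul_inv_cancel, map_one]; exact one_mem _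
    | add x y _ _ hx hy => rw [mul_add, add_mul]; exact add_mem hx hy
    | neg x _ hx => rw [mul_neg, neg_mul]; exact neg_mem hx
    | mul x y _ _ hx hy =>
      have := mul_mem hx hy
      rwa [mul_assoc, ← mul_assoc (φ g⁻¹), ← mul_assoc (φ g⁻¹), ← map_mul, inv_mul_cancel, map_one,
        one_mul, ← mul_assoc, mul_assoc _ x] at this
  have hcj : ∀ (g : G) (x : AddMonoid.End V) (v : V), (φ g * x * φ g⁻¹) • g • v = g • x • v :=
    fun g x v => by rw [mul_smul, mul_smul, hφ, hφ, inv_smul_smul]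
  let T : V → Set B := fun v => {f | (f : AddMonoid.End V) • v = 0}
  have h1 : ∀ v w, v ≠ 0 → w ≠ 0 → (T v).ncard ≤ (T w).ncard := fun v w hv hw => by
    obtain ⟨g, hg⟩ := htr v w hv hw
    refine Set.ncard_le_ncard_of_injOn (fun f => ⟨_, hconj g f f.2⟩) (fun f hf => ?_)
      (fun f _ f' _ e => Subtype.ext (eq_of_smul_eq_smul (α := V) fun u => ?_))
    · have h2 := hcj g f v
      rw [show (f : AddMonoid.End V) • v = 0 from hf, smul_zero] at h2
      rcases hg with e | e
      · rwa [e] at h2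
      · rwa [e, smul_neg, neg_eq_zero] at h2
    · refine MulAction.injective g ?_
      simp only
      rw [← hcj, ← hcj]
      exact congrArg (fun x : B => (x : AddMonoid.End V) • g • u) e
  have h2 : ∀ v w, v ≠ 0 → w ≠ 0 → T v ⊆ T w → T v = T w := fun v w hv hw e =>
    Set.eq_of_subset_of_ncard_le e (h1 w v hw hv)
  have h3 : ∀ (f : B) (v : V), (f : AddMonoid.End V) • v ≠ 0 →
      T v = T ((f : AddMonoid.End V) • v) := fun f v e =>
    h2 _ _ (by rintro rfl; exact e (smul_zero _)) e fun f' hf' => by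
      change (f' : AddMonoid.End V) • (f : AddMonoid.End V) • v = 0
      rw [← mul_smul, show (f' : AddMonoid.End V) * f = f * f' from
        congrArg Subtype.val (mul_comm f' f), mul_smul, show (f' : AddMonoid.End V) • v = 0 from hf',
        smul_zero]
  have hinj : ∀ (f : B) (v : V), v ≠ 0 → (f : AddMonoid.End V) • v = 0 → f = 0 := fun f v hv e => by
    refine Subtype.ext (eq_of_smul_eq_smul (α := V) fun w => ?_)
    rw [Subring.coe_zero, zero_smul]
    by_contra hw
    have hw0 : w ≠ 0 := by rintro rfl; exact hw (smul_zero _)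
    have hne : T w ≠ T v := fun e' => hw (e'.ge e)
    obtain ⟨g, hg, hg'⟩ := Set.not_subset.1 fun e' => hne (h2 w v hw0 hv e')
    have e1 : (f : AddMonoid.End V) • (v + w) = (f : AddMonoid.End V) • w := by
      rw [smul_add, e, zero_add]
    have e2 : (g : AddMonoid.End V) • (v + w) = (g : AddMonoid.End V) • v := by
      rw [smul_add, show (g : AddMonoid.End V) • w = 0 from hg, add_zero]
    refine hne ?_
    rw [h3 f w hw, h3 g v hg', ← e1, ← e2, ← h3 f _ (e1 ▸ hw), ← h3 g _ (e2 ▸ hg')]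
  obtain ⟨v₀, h0⟩ := exists_ne (0 : V)
  have : Nontrivial B := ⟨1, 0, fun h => h0 (by
    simpa using congrArg (fun x : B => (x : AddMonoid.End V) • v₀) h)⟩
  have : NoZeroDivisors B := ⟨fun {a b} h => by
    by_cases hb : (b : AddMonoid.End V) • v₀ = 0
    · exact Or.inr (hinj b v₀ h0 hb)
    · exact Or.inl (hinj a _ hb (by rw [← mul_smul, ← Subring.coe_mul, h, Subring.coe_zero,
        zero_smul]))⟩
  have : IsDomain B := NoZeroDivisors.to_isDomain B
  letI : Field B := (Finite.isField_of_domain B).toField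
  obtain ⟨K, _, _, ⟨e⟩⟩ : ∃ (K : Type) (_ : Field K) (_ : Fintype K), Nonempty (K ≃+* B) :=
    ⟨Shrink.{0} B, inferInstance, Fintype.ofFinite _, ⟨(equivShrink.{0} B).symm.ringEquiv⟩⟩
  letI : Module K V := Module.compHom V (B.subtype.comp e.toRingHom)
  have hK : ∀ (l : K) (v : V), l • v = (e l : AddMonoid.End V) • v := fun _ _ => rfl
  obtain ⟨σ, hσ⟩ := exists_semilinear_hom (G := G) (V := V) (F := K) fun g l =>
    ⟨e.symm ⟨_, hconj g _ (e l).2⟩, fun v => by rw [hK, hK, e.apply_symm_apply, hcj]⟩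
  have hsc : ∀ a ∈ A, ∃ l : K, ∀ v : V, a • v = l • v := fun a ha =>
    ⟨e.symm ⟨φ a, Subring.subset_closure ⟨a, ha, rfl⟩⟩, fun v => by
      rw [hK, e.apply_symm_apply, hφ]⟩
  refine ⟨K, inferInstance, inferInstance, inferInstance, σ, hsc, hσ, ?_, fun W hW l => ?_⟩
  · ext g
    rw [MonoidHom.mem_ker, mem_centralizer_iff]
    refine ⟨fun h a ha => eq_of_smul_eq_smul (α := V) fun v => ?_, fun h => ?_⟩
    · obtain ⟨l, hl⟩ := hsc a ha
      rw [mul_smul, mul_smul, hl, hl, hσ, h]; rfl
    · refine RingEquiv.ext fun l => smul_left_injective K ((smul_ne_zero_iff_ne g).2 h0) ?_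
      have h4 : B ≤ Subring.centralizer {φ g} := Subring.closure_le.2 (by
        rintro _ ⟨a, ha, rfl⟩ _ rfl
        rw [← map_mul, ← h a ha, map_mul])
      simp only
      rw [← hσ, RingAut.one_eq_refl, RingEquiv.refl_apply, hK, hK, ← hφ, ← hφ, ← mul_smul,
        ← mul_smul, h4 (e l).2 _ rfl]
  · have h4 : ∀ x ∈ B, ∀ v ∈ W, x • v ∈ W := fun x hx => by
      induction hx using Subring.closure_induction with
      | mem x hx => obtain ⟨a, ha, rfl⟩ := hx; exact hW a ha
      | zero => intro v _; rw [zero_smul]; exact zero_mem _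
      | one => intro v hv; rwa [one_smul]
      | add x y _ _ hx hy => intro v hv; rw [add_smul]; exact add_mem (hx v hv) (hy v hv)
      | neg x _ hx => intro v hv; rw [neg_smul]; exact neg_mem (hx v hv)
      | mul x y _ _ hx hy => intro v hv; rw [mul_smul]; exact hx _ (hy v hv)
    exact h4 _ (e l).2

namespace FData

variable [Finite V] [Nontrivial V] [FaithfulSMul G V] {A : Subgroup G} {F : Type*} [Field F]
  [Finite F] [Module F V] {σ : G →* (F ≃+* F)} (h : FData V A F σ)
include h

theorem exists_hom : ∃ χ : A →* Fˣ, Function.Injective χ ∧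
    ∀ (a : A) (v : V), (a : G) • v = (χ a : F) • v := by
  choose s hs using h.scalar
  obtain ⟨v₀, h0⟩ := exists_ne (0 : V)
  let χ : A →* F := MonoidHom.mk (OneHom.mk (fun a => s a a.2) (smul_left_injective F h0 (by
      simp only; rw [← hs]; simp)))
    fun a b => smul_left_injective F h0 (by
      simp only; rw [← hs, mul_smul, ← hs, ← hs, coe_mul, mul_smul])
  refine ⟨χ.toHomUnits, fun a b e => Subtype.ext (eq_of_smul_eq_smul (α := V) fun v => ?_),
    fun a => hs a a.2⟩
  rw [hs a a.2, hs b b.2]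
  exact congrArg (fun x : Fˣ => (x : F) • v) e

theorem isCyclic : IsCyclic A := by
  obtain ⟨χ, hχ, -⟩ := h.exists_hom
  exact isCyclic_of_injective χ hχ

theorem card_dvd : Nat.card A ∣ Nat.card F - 1 := by
  obtain ⟨χ, hχ, -⟩ := h.exists_hom
  rw [← Nat.card_units]
  exact card_dvd_of_injective χ hχ

theorem eq_one_of_fix {a : G} (ha : a ∈ A) {v : V} (hv : v ≠ 0) (e : a • v = v) : a = 1 := by
  obtain ⟨l, hl⟩ := h.scalar a ha
  have : l = 1 := smul_left_injective F hv (by simp only; rw [← hl, e, one_smul])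
  exact eq_of_smul_eq_smul (α := V) fun w => by rw [hl, this, one_smul, one_smul]

omit h in
theorem charP {p : ℕ} [hp : Fact p.Prime] (hV : ∀ v : V, p • v = 0) : CharP F p := by
  obtain ⟨v, hv⟩ := exists_ne (0 : V)
  refine (CharP.charP_iff_prime_eq_zero hp.out).2 (smul_left_injective F hv ?_)
  simp only
  rw [zero_smul, Nat.cast_smul_eq_nsmul, hV]

theorem lin {g : G} (hg : g ∈ centralizer (A : Set G)) (l : F) (v : V) :
    g • l • v = l • g • v := by
  rw [h.semi, MonoidHom.mem_ker.1 (h.ker.ge hg)]; rfl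

theorem index_dvd {p k : ℕ} [Fact p.Prime] [CharP F p] (hF : Nat.card F = p ^ k) :
    (centralizer (A : Set G)).index ∣ k := by
  rw [← h.ker, index_ker, ← card_ringEquiv hF]
  exact card_subgroup_dvd_card _

theorem irreducible_iff : (∀ W : AddSubgroup V, (∀ a ∈ A, ∀ v ∈ W, a • v ∈ W) → W = ⊥ ∨ W = ⊤) ↔
    Module.finrank F V = 1 := by
  rw [← isSimpleModule_iff_finrank_eq_one]
  refine ⟨fun h1 => (isSimpleModule_iff F V).2 ⟨fun W => ?_⟩, fun h1 W hW => ?_⟩
  · refine (h1 W.toAddSubgroup fun a ha v hv => ?_).imp (fun e => ?_) fun e => ?_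
    · obtain ⟨l, hl⟩ := h.scalar a ha
      rw [hl]; exact W.smul_mem l hv
    · exact Submodule.toAddSubgroup_injective e
    · exact Submodule.toAddSubgroup_injective e
  · let W' : Submodule F V := { W with smul_mem' := fun l v hv => h.span W hW l v hv }
    exact (eq_bot_or_eq_top W').imp (congrArg Submodule.toAddSubgroup)
      (congrArg Submodule.toAddSubgroup)

theorem semilinear (h1 : Module.finrank F V = 1) :
    ∃ e : V ≃+ F, ∀ g : G, ∃ a : F, ∀ v : V, e (g • v) = a * σ g (e v) := by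
  have : Module.Finite F V := Module.Finite.of_finite
  obtain ⟨e⟩ := FiniteDimensional.nonempty_linearEquiv_of_finrank_eq (R := F) (M := V) (M' := F)
    (by rw [h1, Module.finrank_self])
  refine ⟨e.toAddEquiv, fun g => ⟨e (g • e.symm 1), fun v => ?_⟩⟩
  have h2 : v = e v • e.symm 1 := by rw [← map_smul, smul_eq_mul, mul_one, e.symm_apply_apply]
  change e (g • v) = _ * σ g (e v)
  conv_lhs => rw [h2, h.semi, map_smul, smul_eq_mul, mul_comm]

theorem comm_of_finrank_one (h1 : Module.finrank F V = 1) {x y : G}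
    (hx : x ∈ centralizer (A : Set G)) (hy : y ∈ centralizer (A : Set G)) : x * y = y * x := by
  obtain ⟨e, he⟩ := h.semilinear h1
  obtain ⟨a, ha⟩ := he x
  obtain ⟨b, hb⟩ := he y
  rw [MonoidHom.mem_ker.1 (h.ker.ge hx)] at ha
  rw [MonoidHom.mem_ker.1 (h.ker.ge hy)] at hb
  refine eq_of_smul_eq_smul (α := V) fun v => e.injective ?_
  rw [mul_smul, mul_smul, ha, hb, hb, ha]
  simp only [RingAut.one_eq_refl, RingEquiv.refl_apply]
  ring

/-- The number of lines divides the index of `A`. -/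
theorem dvd_index [Finite G]
    (htr : ∀ v w : V, v ≠ 0 → w ≠ 0 → ∃ g : G, g • v = w ∨ g • v = -w) :
    Nat.card V - 1 ∣ A.index * (Nat.card F - 1) := by
  obtain ⟨v₀, h0⟩ := exists_ne (0 : V)
  let St : Subgroup G :=
    { carrier := {g | ∃ c : F, g • v₀ = c • v₀}
      one_mem' := ⟨1, by simp⟩
      mul_mem' := by
        rintro g g' ⟨c, hc⟩ ⟨c', hc'⟩
        exact ⟨σ g c' * c, by rw [mul_smul, hc', h.semi, hc, mul_smul]⟩
      inv_mem' := by
        rintro g ⟨c, hc⟩
        have h1 : v₀ = σ g⁻¹ c • g⁻¹ • v₀ := by rw [← h.semi, ← hc, inv_smul_smul]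
        have h2 : σ g⁻¹ c ≠ 0 := fun e => h0 (by rw [h1, e, zero_smul])
        exact ⟨(σ g⁻¹ c)⁻¹, by rw [eq_inv_smul_iff₀ h2, ← h1]⟩ }
  have hA : A ≤ St := fun a ha => (h.scalar a ha).imp fun l hl => hl v₀
  let Φ : (G ⧸ St) × Fˣ → {v : V // v ≠ 0} := fun x =>
    ⟨(x.2 : F) • x.1.out • v₀, smul_ne_zero x.2.ne_zero ((smul_ne_zero_iff_ne _).2 h0)⟩
  have hΦ : Function.Bijective Φ := by
    refine ⟨fun x y e => ?_, fun w => ?_⟩
    · have e' : (x.2 : F) • x.1.out • v₀ = (y.2 : F) • y.1.out • v₀ := congrArg Subtype.val e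
      have e1 : x.1 = y.1 := by
        rw [← x.1.out_eq', ← y.1.out_eq', QuotientGroup.eq]
        refine ⟨σ x.1.out⁻¹ ((y.2 : F)⁻¹ * x.2), ?_⟩
        rw [mul_smul, ← (inv_smul_eq_iff₀ y.2.ne_zero).2 e', ← mul_smul, h.semi, inv_smul_smul]
      rw [e1] at e'
      exact Prod.ext e1 (Units.ext (smul_left_injective F ((smul_ne_zero_iff_ne _).2 h0) e'))
    · obtain ⟨g, hg⟩ := htr v₀ w h0 w.2
      obtain ⟨⟨s, c, hc⟩, hs⟩ := QuotientGroup.mk_out_eq_mul St g
      have e1 : (g : G ⧸ St).out • v₀ = σ g c • g • v₀ := by rw [hs, mul_smul, hc, h.semi]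
      have e2 : σ g c ≠ 0 := fun e => (smul_ne_zero_iff_ne _).2 h0 (by rw [e1, e, zero_smul])
      rcases hg with e | e
      · refine ⟨(g, (Units.mk0 _ e2)⁻¹), Subtype.ext ?_⟩
        simp only [Φ, e1, e, Units.val_inv_eq_inv_val, Units.val_mk0, inv_smul_smul₀ e2]
      · refine ⟨(g, -(Units.mk0 _ e2)⁻¹), Subtype.ext ?_⟩
        simp only [Φ, e1, e, Units.val_neg, Units.val_inv_eq_inv_val, Units.val_mk0, neg_smul,
          inv_smul_smul₀ e2, neg_neg]
  have h3 := Nat.card_eq_of_bijective Φ hΦ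
  rw [Nat.card_prod, Nat.card_units] at h3
  have h4 : Nat.card {v : V // v ≠ 0} = Nat.card V - 1 := by
    classical
    have := Fintype.ofFinite V
    simp [Nat.card_eq_fintype_card, Fintype.card_subtype_compl]
  rw [← h4, ← h3]
  exact Nat.mul_dvd_mul_right (index_dvd_of_le hA) _

end FData

end Cfsg.Agent.Perm
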