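import Mathlib
import Cfsg.Agent.Perm.NF1
import Cfsg.Agent.Perm.FC7

/-!
Linear groups that are regular on the non-zero vectors (finite near-fields).
-/

set_option autoImplicit false
set_option linter.unusedSectionVars false

namespace Cfsg.Agent.Perm

open Subgroup Inv
open scoped MatrixGroups

set_option synthInstance.maxSize 1000 in
theorem nf_num_aux : ∀ k < 6, ∀ d < 7, ∀ p < 600, 1 ≤ k ∧ 2 ≤ d ∧ 3 ≤ p ∧
    ((∑ i ∈ Finset.range d, (p ^ k) ^ i) ∣ k * 24 ∨
    (7 ≤ p ∧ (∑ i ∈ Finset.range d, (p ^ k) ^ i) ∣ k * 120)) → k = 1 ∧ d = 2 := by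
  decide +kernel

theorem pow_lt_geom {Q d : ℕ} (hQ : 0 < Q) (hd : 2 ≤ d) :
    Q ^ (d - 1) < ∑ i ∈ Finset.range d, Q ^ i := by
  obtain ⟨e, rfl⟩ : ∃ e, d = e + 2 := ⟨d - 2, by omega⟩
  rw [Finset.sum_range_succ, Finset.sum_range_succ']
  simp only [pow_zero, show e + 2 - 1 = e + 1 from rfl]
  omega

theorem lt_geom {Q d : ℕ} (hQ : 0 < Q) (hd : 2 ≤ d) : Q < ∑ i ∈ Finset.range d, Q ^ i :=
  (Nat.le_self_pow (by omega) Q).trans_lt (pow_lt_geom hQ hd)

theorem nf_num {p k d : ℕ} (hk : 1 ≤ k) (hd : 2 ≤ d) (hp : 3 ≤ p)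
    (h : (∑ i ∈ Finset.range d, (p ^ k) ^ i) ∣ k * 24 ∨
      (7 ≤ p ∧ (∑ i ∈ Finset.range d, (p ^ k) ^ i) ∣ k * 120)) : k = 1 ∧ d = 2 := by
  have hQ : 0 < p ^ k := by positivity
  have h1 : ∑ i ∈ Finset.range d, (p ^ k) ^ i ≤ k * 120 := by
    rcases h with h | ⟨-, h⟩
    · have := Nat.le_of_dvd (by omega) h; omega
    · exact Nat.le_of_dvd (by omega) h
  have h2 := lt_geom hQ hd
  have h3 : 3 ^ k ≤ p ^ k := Nat.pow_le_pow_left hp k
  have h4 : k < 6 := by
    by_contra! hc
    have : ∀ n, 6 ≤ n → n * 120 < 3 ^ n := fun n hn => by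
      induction n, hn using Nat.le_induction with
      | base => norm_num
      | succ n _ ih => rw [pow_succ]; omega
    have := this k hc
    omega
  have h5 : p ≤ p ^ k := Nat.le_self_pow (by omega) p
  have h6 : d < 7 := by
    by_contra! hc
    have h7 := pow_lt_geom hQ hd
    have h8 : 3 ^ 6 ≤ (p ^ k) ^ (d - 1) :=
      (Nat.pow_le_pow_left (hp.trans h5) 6).trans (Nat.pow_le_pow_right hQ (by omega))
    omega
  exact nf_num_aux k h4 d h6 p (by omega) ⟨hk, hd, hp, h⟩

variable {G : Type*} [Group G]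

/-- `A` is a maximal abelian normal subgroup. -/
structure MaxAb (A : Subgroup G) : Prop where
  normal : A.Normal
  comm : ∀ a ∈ A, ∀ b ∈ A, a * b = b * a
  max : ∀ B : Subgroup G, B.Normal → (∀ a ∈ B, ∀ b ∈ B, a * b = b * a) → A ≤ B → B = A

theorem exists_maxAb [Finite G] : ∃ A : Subgroup G, MaxAb A := by
  obtain ⟨A, ⟨h1, h2⟩, h3⟩ := (Set.toFinite {A : Subgroup G | A.Normal ∧
    ∀ a ∈ A, ∀ b ∈ A, a * b = b * a}).exists_maximal ⟨⊥, inferInstance, by simp⟩
  exact ⟨A, h1, h2, fun B hB hc hle => le_antisymm (h3 ⟨hB, hc⟩ hle) hle⟩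

theorem maxAb_of {A : Subgroup G} (hAn : A.Normal) (hAc : IsMulCommutative A)
    (hAmax : ∀ B : Subgroup G, B.Normal → IsMulCommutative B → A ≤ B → B = A) : MaxAb A :=
  ⟨hAn, fun a ha b hb => congrArg Subtype.val (hAc.is_comm.comm (⟨a, ha⟩ : A) ⟨b, hb⟩),
    fun B hB hc => hAmax B hB ⟨⟨fun a b => Subtype.ext (hc a a.2 b b.2)⟩⟩⟩

namespace MaxAb

variable {A : Subgroup G} (h : MaxAb A)
include h

theorem le_cent : A ≤ centralizer (A : Set G) := fun a ha b hb => h.comm b hb a ha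

theorem le_of_sup {B : Subgroup G} (hB : (A ⊔ B).Normal) (hc : ∀ a ∈ B, ∀ b ∈ B, a * b = b * a)
    (hle : B ≤ centralizer (A : Set G)) : B ≤ A := by
  have h1 : A ⊔ B ≤ centralizer ((A ⊔ B : Subgroup G) : Set G) := by
    refine sup_le ?_ ?_ <;> rw [le_centralizer_iff] <;> refine sup_le ?_ ?_
    · exact h.le_cent
    · exact hle
    · exact le_centralizer_iff.1 hle
    · exact fun a ha b hb => hc b hb a ha
  exact le_sup_right.trans (h.max _ hB (fun a ha b hb => h1 hb a ha) le_sup_left).le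

theorem le_of_comm {B : Subgroup G} [B.Normal] (hc : ∀ a ∈ B, ∀ b ∈ B, a * b = b * a)
    (hle : B ≤ centralizer (A : Set G)) : B ≤ A :=
  have := h.normal
  h.le_of_sup inferInstance hc hle

theorem le_of_isCyclic {B : Subgroup G} [B.Normal] (hc : IsCyclic B)
    (hle : B ≤ centralizer (A : Set G)) : B ≤ A :=
  h.le_of_comm (fun a ha b hb =>
    congrArg Subtype.val (hc.isMulCommutative.is_comm.comm (⟨a, ha⟩ : B) ⟨b, hb⟩)) hle

theorem mem_of_commutator {c : G} (hc : c ∈ centralizer (A : Set G))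
    (h1 : ∀ g, g * c * g⁻¹ * c⁻¹ ∈ A) : c ∈ A := by
  have := h.normal
  refine h.le_of_sup (B := zpowers c) ⟨fun x hx g => ?_⟩
    (fun a ha b hb => commute_of_mem_zpowers₂ ha hb) (zpowers_le.2 hc) (mem_zpowers c)
  have : A ⊔ zpowers c ≤ (A ⊔ zpowers c).comap (MulAut.conj g).toMonoidHom := by
    refine sup_le (fun a ha => mem_sup_left (this.conj_mem a ha g)) (zpowers_le.2 ?_)
    have := mul_mem_sup (h1 g) (mem_zpowers c)
    rwa [inv_mul_cancel_right] at this
  exact this hx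

theorem le_of_zgroup [Finite G] {K : Subgroup G} [K.Normal] [IsZGroup K]
    (hle : K ≤ centralizer (A : Set G)) : K ≤ A := by
  have := IsZGroup.isCyclic_commutator K
  have h1 : (commutator K).map K.subtype ≤ A := h.le_of_isCyclic
    (isCyclic_of_surjective _ (K.subtype.subgroupMap_surjective _)) ((map_subtype_le _).trans hle)
  rw [map_subtype_commutator] at h1
  have := Core.nilpotent_of_commutator_le_centralizer (h1.trans (le_centralizer_iff.1 hle))
  exact h.le_of_isCyclic inferInstance hle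

theorem inf_le_of_zgroup [Finite G] (K : Subgroup G) [K.Normal] [IsZGroup K] :
    K ⊓ centralizer (A : Set G) ≤ A := by
  have := h.normal
  have : IsZGroup (K ⊓ centralizer (A : Set G) : Subgroup G) :=
    IsZGroup.of_injective (inclusion_injective inf_le_left)
  exact h.le_of_zgroup inf_le_right

theorem relIndex_dvd [Finite G] {X : Type*} [Group X] (f : G →* X) [IsZGroup f.ker] :
    A.relIndex (centralizer (A : Set G)) ∣ Nat.card X := by
  refine (relIndex_dvd_of_le_left _ (h.inf_le_of_zgroup f.ker)).trans ?_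
  rw [inf_relIndex_right]
  exact (relIndex_dvd_index_of_normal _ _).trans (index_ker f ▸ card_subgroup_dvd_card _)

end MaxAb

variable {V : Type*} [AddCommGroup V] [DistribMulAction G V] [Finite V] [Nontrivial V]
  [FaithfulSMul G V]

theorem FData.numerics [Finite G] {A : Subgroup G} {F : Type*} [Field F] [Finite F] [Module F V]
    {σ : G →* (F ≃+* F)} (h : FData V A F σ) {p : ℕ} [hp : Fact p.Prime] (hV : ∀ v : V, p • v = 0)
    (htr : ∀ v w : V, v ≠ 0 → w ≠ 0 → ∃ g : G, g • v = w ∨ g • v = -w)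
    (hA : A ≤ centralizer (A : Set G)) : ∃ k, 1 ≤ k ∧ Nat.card F = p ^ k ∧
      Nat.card V = (p ^ k) ^ Module.finrank F V ∧ 1 ≤ Module.finrank F V ∧
      (centralizer (A : Set G)).index ∣ k ∧
      (∑ i ∈ Finset.range (Module.finrank F V), (p ^ k) ^ i) ∣
        k * A.relIndex (centralizer (A : Set G)) := by
  have := FData.charP (V := V) (F := F) hV
  have := Fintype.ofFinite F
  obtain ⟨k, -, hk⟩ := FiniteField.card F p
  rw [← Nat.card_eq_fintype_card] at hk
  have : Module.Finite F V := Module.Finite.of_finite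
  have h1 : Nat.card V = (p ^ (k : ℕ)) ^ Module.finrank F V := by
    rw [← hk, Module.natCard_eq_pow_finrank (K := F)]
  refine ⟨k, k.2, hk, h1, Module.finrank_pos, h.index_dvd hk, ?_⟩
  have h2 := h.dvd_index htr
  have h3 : 1 < p ^ (k : ℕ) := Nat.one_lt_pow k.2.ne' hp.out.one_lt
  rw [h1, hk] at h2
  obtain ⟨x, hx⟩ : ∃ x, p ^ (k : ℕ) = x + 1 := ⟨p ^ (k : ℕ) - 1, by omega⟩
  rw [hx] at h2 h3 ⊢
  rw [← geom_sum_mul_add, Nat.add_sub_cancel, Nat.add_sub_cancel] at h2
  refine (Nat.dvd_of_mul_dvd_mul_right (by omega) h2).trans ?_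
  rw [← relIndex_mul_index hA, mul_comm]
  exact Nat.mul_dvd_mul_right (h.index_dvd hk) _

theorem FData.lt_cent [Finite G] {A : Subgroup G} {F : Type*} [Field F] [Finite F] [Module F V]
    {σ : G →* (F ≃+* F)} (h : FData V A F σ) {p : ℕ} [hp : Fact p.Prime] (hV : ∀ v : V, p • v = 0)
    (htr : ∀ v w : V, v ≠ 0 → w ≠ 0 → ∃ g : G, g • v = w ∨ g • v = -w)
    (hA : A ≤ centralizer (A : Set G)) (hd : Module.finrank F V ≠ 1) :
    ¬ centralizer (A : Set G) ≤ A := fun hle => by
  obtain ⟨k, h1, -, -, h2, -, h3⟩ := h.numerics hV htr hA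
  rw [relIndex_eq_one.2 hle, mul_one] at h3
  have h4 := Nat.le_of_dvd h1 h3
  have h5 := lt_geom (Q := p ^ k) (pow_pos hp.out.pos k) (d := Module.finrank F V) (by omega)
  have h6 := Nat.lt_pow_self (n := k) hp.out.one_lt
  omega

variable (G V) in
/-- `G` is regular on the non-zero vectors. -/
structure RegV : Prop where
  trans : ∀ v w : V, v ≠ 0 → w ≠ 0 → ∃ g : G, g • v = w
  free : ∀ g : G, ∀ v : V, v ≠ 0 → g • v = v → g = 1

namespace RegV

variable (h : RegV G V)
include h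

theorem trans' (v w : V) (hv : v ≠ 0) (hw : w ≠ 0) : ∃ g : G, g • v = w ∨ g • v = -w :=
  (h.trans v w hv hw).imp fun _ => Or.inl

theorem card : Nat.card G + 1 = Nat.card V := by
  obtain ⟨v, hv⟩ := exists_ne (0 : V)
  have h1 : Function.Bijective (fun g : G => (⟨g • v, (smul_ne_zero_iff_ne g).2 hv⟩ :
      {w : V // w ≠ 0})) := by
    refine ⟨fun g g' e => ?_, fun w => ?_⟩
    · have e' : g • v = g' • v := congrArg Subtype.val e
      exact (inv_mul_eq_one.1 (h.free (g'⁻¹ * g) v hv (by rw [mul_smul, e', inv_smul_smul]))).symm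
    · exact (h.trans v w hv w.2).imp fun g => Subtype.ext
  classical
  have := Fintype.ofFinite V
  rw [Nat.card_eq_of_bijective _ h1]
  simp only [Nat.card_eq_fintype_card, Fintype.card_subtype_compl, Fintype.card_unique]
  exact Nat.sub_add_cancel Fintype.card_pos

theorem finite : Finite G := by
  obtain ⟨v, hv⟩ := exists_ne (0 : V)
  exact Finite.of_injective (fun g : G => g • v) fun g g' e =>
    (inv_mul_eq_one.1 (h.free (g'⁻¹ * g) v hv (by rw [mul_smul, show g • v = _ from e,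
      inv_smul_smul]))).symm

theorem isFC : IsFC G :=
  have := h.finite
  isFC_of_distrib (V := V) fun g hg v e => by_contra fun hv => hg (h.free g v hv e)

/-- The exceptional case: two-dimensional over the prime field. -/
theorem cases {A : Subgroup G} (hA : MaxAb A) {F : Type*} [Field F] [Finite F] [Module F V]
    {σ : G →* (F ≃+* F)} (hF : FData V A F σ) {p : ℕ} [hp : Fact p.Prime]
    (hV : ∀ v : V, p • v = 0) (hd : Module.finrank F V ≠ 1) :
    Nat.card F = p ∧ Module.finrank F V = 2 ∧ Nat.card G + 1 = p ^ 2 ∧ 5 ≤ p ∧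
      centralizer (A : Set G) = ⊤ ∧
      ((∃ z f, S4Data (G := G) z f ∧ f.ker = A ∧ p + 1 ∣ 24) ∨
        ∃ L z f, NSData (G := G) L z f ∧ f.ker = A) := by
  have := h.finite
  have := hA.normal
  have hlt := hF.lt_cent hV h.trans' hA.le_cent hd
  obtain ⟨k, h1, h2, h3, h4, h5, h6⟩ := hF.numerics hV h.trans' hA.le_cent
  have hnd : ¬ p ∣ Nat.card G := fun e => by
    have : p ∣ Nat.card G + 1 := by
      rw [h.card, h3, ← pow_mul]; exact dvd_pow_self p (by positivity)
    exact hp.out.one_lt.ne' (Nat.dvd_one.1 ((Nat.dvd_add_right e).1 this))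
  have := hF.isCyclic
  have key : ∀ {n : ℕ} (f : G →* Equiv.Perm (Fin n)) [IsZGroup f.ker], A ≤ f.ker →
      k = 1 ∧ Module.finrank F V = 2 → Nat.card F = p ∧ Module.finrank F V = 2 ∧
        Nat.card G + 1 = p ^ 2 ∧ centralizer (A : Set G) = ⊤ ∧ f.ker = A := fun f _ hf ⟨e1, e2⟩ => by
    subst e1
    have hC := index_eq_one.1 (Nat.dvd_one.1 h5)
    exact ⟨by rw [h2, pow_one], e2, by rw [h.card, h3, e2, pow_one], hC,
      le_antisymm (hA.le_of_zgroup (hC ▸ le_top)) hf⟩
  have hp5 : ∀ m, m ∣ Nat.card G → 6 ∣ m → 5 ≤ p := fun m h7 h8 => by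
    by_contra! hc
    have := hp.out.two_le
    interval_cases p
    · exact hnd (((by norm_num : 2 ∣ 6).trans h8).trans h7)
    · exact hnd (((by norm_num : 3 ∣ 6).trans h8).trans h7)
    · exact absurd hp.out (by decide)
  rcases h.isFC.cases with hZ | ⟨f, -, hZ⟩ | ⟨z, f, hf⟩ | ⟨L, z, f, hf⟩
  · exact absurd (hA.le_of_zgroup le_rfl) hlt
  · refine absurd (fun c hc => hA.mem_of_commutator hc fun g => hA.inf_le_of_zgroup f.ker
      (mem_inf.2 ⟨?_, mul_mem (Normal.conj_mem inferInstance c hc g) (inv_mem hc)⟩)) hlt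
    have := (IsKleinFour.isMulCommutative (G := DihedralGroup 2)).is_comm.comm (f g) (f c)
    change f _ = 1
    simp only [map_mul, map_inv, this, mul_inv_cancel_right, mul_inv_cancel]
  · have := hf.zgrp
    have h7 := hp5 _ ((card_dvd_of_le hf.le).trans (card_range_dvd f)) (by rw [card_a4]; norm_num)
    have h8 := hA.relIndex_dvd f
    rw [Nat.card_perm, Nat.card_eq_fintype_card, Fintype.card_fin] at h8
    replace h6 := h6.trans (Nat.mul_dvd_mul_left k h8)
    have h9 := nf_num h1 (by omega) (by omega) (Or.inl h6)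
    obtain ⟨e1, e2, e3, e4, e5⟩ := key f (le_ker_of_zgroup perm_four_test f hf.le A) h9
    refine ⟨e1, e2, e3, h7, e4, Or.inl ⟨z, f, hf, e5, ?_⟩⟩
    rw [h9.1, h9.2] at h6
    simpa [Finset.sum_range_succ, add_comm, Nat.factorial] using h6
  · have := hf.zgrp
    have h0 := (card_dvd_of_le hf.le).trans (card_range_dvd f)
    rw [card_a5] at h0
    have h7 := hp5 _ h0 (by norm_num)
    have h7' : 7 ≤ p := by
      by_contra! hc
      interval_cases p
      · exact hnd ((by norm_num : 5 ∣ 60).trans h0)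
      · exact absurd hp.out (by decide)
    have h8 := hA.relIndex_dvd f
    rw [Nat.card_perm, Nat.card_eq_fintype_card, Fintype.card_fin] at h8
    replace h6 := h6.trans (Nat.mul_dvd_mul_left k h8)
    have h9 := nf_num h1 (by omega) (by omega) (Or.inr ⟨h7', h6⟩)
    obtain ⟨e1, e2, e3, e4, e5⟩ := key f (le_ker_of_zgroup perm_five_test f hf.le A) h9
    exact ⟨e1, e2, e3, h7, e4, Or.inr ⟨L, z, f, hf, e5⟩⟩

end RegV

end Cfsg.Agent.Perm
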