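import Mathlib
import Cfsg.Agent.Perm.NF2

/-!
Finite near-fields: linear groups over the prime field and the exceptional cases.
-/

set_option autoImplicit false
set_option linter.unusedSectionVars false

namespace Cfsg.Agent.Perm

open Subgroup Inv
open scoped MatrixGroups

theorem exists_comb_of_finrank_two {K V : Type*} [Field K] [AddCommGroup V] [Module K V]
    (h : Module.finrank K V = 2) {x y : V} (hx : x ≠ 0) (hy : ¬ ∃ r : K, r • x = y) (z : V) :
    ∃ s t : K, s • x + t • y = z := by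
  have h1 := ((LinearIndependent.pair_iff' hx).2 (not_exists.1 hy)).span_eq_top_of_card_eq_finrank
    (by rw [h]; rfl)
  rw [Matrix.range_cons_cons_empty] at h1
  exact Submodule.mem_span_pair.1 (h1.ge Submodule.mem_top)

section Lin

variable {p : ℕ} [Fact p.Prime] {V : Type*} [AddCommGroup V] [Module (ZMod p) V] [Finite V]
  {H : Subgroup (V ≃ₗ[ZMod p] V)}

theorem regV_of_existsUnique
    (hreg : ∀ v w : V, v ≠ 0 → w ≠ 0 → ∃! h : H, (h : V ≃ₗ[ZMod p] V) v = w) : RegV H V :=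
  ⟨fun v w hv hw => (hreg v w hv hw).exists, fun _ v hv e => (hreg v v hv hv).unique e rfl⟩

theorem nontrivial_of_red (hI : ∀ A : Subgroup H, A.Normal → IsCyclic A →
      ∃ W : Submodule (ZMod p) V, W ≠ ⊥ ∧ W ≠ ⊤ ∧
        ∀ a ∈ A, ∀ v ∈ W, ((a : H) : V ≃ₗ[ZMod p] V) v ∈ W) : Nontrivial V := by
  obtain ⟨W, h, -⟩ := hI ⊥ inferInstance inferInstance
  obtain ⟨v, -, hv⟩ := W.exists_mem_ne_zero_of_ne_bot h
  exact ⟨v, 0, hv⟩

theorem exists_fData_red [Nontrivial V] (hreg : RegV H V)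
    (hI : ∀ A : Subgroup H, A.Normal → IsCyclic A →
      ∃ W : Submodule (ZMod p) V, W ≠ ⊥ ∧ W ≠ ⊤ ∧
        ∀ a ∈ A, ∀ v ∈ W, ((a : H) : V ≃ₗ[ZMod p] V) v ∈ W) {A : Subgroup H} (hA : MaxAb A) :
    ∃ (F : Type) (_ : Field F) (_ : Fintype F) (_ : Module F V) (σ : H →* (F ≃+* F)),
      FData V A F σ ∧ Module.finrank F V ≠ 1 := by
  have := hA.normal
  obtain ⟨F, _, _, _, σ, hF⟩ := exists_fData hreg.trans' A hA.comm
  refine ⟨F, _, inferInstance, _, σ, hF, fun e => ?_⟩
  obtain ⟨W, h1, h2, h3⟩ := hI A hA.normal hF.isCyclic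
  rcases hF.irreducible_iff.2 e W.toAddSubgroup h3 with e | e
  · exact h1 (Submodule.toAddSubgroup_injective e)
  · exact h2 (Submodule.toAddSubgroup_injective e)

end Lin

variable {G : Type*} [Group G]

theorem commutator_le_cent (A : Subgroup G) [A.Normal] [IsCyclic A] :
    commutator G ≤ centralizer (A : Set G) := by
  rw [← ker_conjNormal]
  intro x hx
  have h := Abelianization.commutator_subset_ker
    ((IsCyclic.mulAutMulEquiv A).toMonoidHom.comp (MulAut.conjNormal (H := A))) hx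
  rwa [MonoidHom.mem_ker, MonoidHom.comp_apply, MulEquiv.coe_toMonoidHom,
    EmbeddingLike.map_eq_one_iff] at h

theorem card_zpowers_sup [Finite G] {z : G} (hz : orderOf z = 2) :
    Nat.card (zpowers z ⊔ oddCore G : Subgroup G) = 2 * Nat.card (oddCore G) := by
  have h : Disjoint (zpowers z) (oddCore G) := disjoint_of_odd
    (IsPGroup.of_card (n := 1) (by rw [Nat.card_zpowers, hz]; rfl)) odd_oddCore
  rw [sup_comm, Core.card_sup_of_disjoint (normalizer_eq_top (oddCore G) ▸ le_top) h.symm,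
    Nat.card_zpowers, hz, mul_comm]

theorem equiv_prod_of_complement {L M : Subgroup G} (h : IsComplement' L M)
    (hc : ∀ l ∈ L, ∀ m ∈ M, l * m = m * l) : Nonempty (G ≃* L × M) :=
  ⟨(MulEquiv.ofBijective (L.subtype.noncommCoprod M.subtype fun l m => hc l l.2 m m.2) h).symm⟩

theorem equiv_zmod_of_prime {p : ℕ} [Fact p.Prime] (h : Nat.card G = p) :
    Nonempty (G ≃* Multiplicative (ZMod p)) :=
  ⟨mulEquivOfPrimeCardEq h (by simp)⟩

theorem card_eq_range_mul [Finite G] {X : Type*} [Group X] (f : G →* X) :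
    Nat.card G = Nat.card f.range * Nat.card f.ker := by
  rw [← index_ker, index_mul_card]

theorem card_range_cases {n : ℕ} (f : G →* Equiv.Perm (Fin (n + 2)))
    (h : alternatingGroup _ ≤ f.range) : (f.range = alternatingGroup _ ∧
      2 * Nat.card f.range = (n + 2).factorial) ∨
      (f.range = ⊤ ∧ Nat.card f.range = (n + 2).factorial) := by
  refine (alt_or_top h).imp (fun e => ⟨e, ?_⟩) fun e => ⟨e, ?_⟩
  · rw [e, two_mul_nat_card_alternatingGroup, Nat.card_perm, Nat.card_eq_fintype_card,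
      Fintype.card_fin]
  · rw [e, card_top, Nat.card_perm, Nat.card_eq_fintype_card, Fintype.card_fin]

theorem NSData.not_solvable {L : Subgroup G} {z : G} {f : G →* Equiv.Perm (Fin 5)}
    (h : NSData L z f) : ¬ Group.IsSolvable G := fun _ => by
  have := solvable_of_surjective f.rangeRestrict_surjective
  have := solvable_of_solvable_injective (inclusion_injective h.le)
  have := IsSimpleGroup.comm_iff_isSolvable.2 this a5x a5y
  exact absurd this (by decide)

theorem NSData.equiv_prod [Finite G] {L : Subgroup G} {z : G} {f : G →* Equiv.Perm (Fin 5)}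
    (h : NSData L z f) (hc : Nat.card G = 120 * Nat.card (oddCore G)) :
    Nonempty (G ≃* SL(2, ZMod 5) × oddCore G) := by
  obtain ⟨e⟩ := h.iso
  have h1 : Nat.card L = 120 := by rw [Nat.card_congr e.toEquiv, card_SL25]
  obtain ⟨e'⟩ := equiv_prod_of_complement (isComplement'_of_coprime (H := L) (K := oddCore G)
    (by rw [h1, hc]) (by
      rw [h1]; exact (Nat.Coprime.of_dvd_right (show 120 ∣ 30 ^ 3 by norm_num)
        (h.cop.pow_right 3)).symm))
    fun l hl m hm => h.cent.le (h.ker.ge (mem_sup_right hm)) l hl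
  exact ⟨e'.trans (e.prodCongr (MulEquiv.refl _))⟩

theorem S4Data.equiv_prod [Finite G] {z : G} {f : G →* Equiv.Perm (Fin 4)} (h : S4Data z f)
    (hu : ∀ t : G, orderOf t = 2 → t = z) (hf : f.range = alternatingGroup _)
    (hO : oddCore G ≤ center G) (h3 : ¬ 3 ∣ Nat.card (oddCore G)) :
    Nonempty (G ≃* SL(2, ZMod 3) × oddCore G) := by
  have h1 : (oddCore G).index = 24 := by
    have h2 := card_eq_range_mul f
    rw [hf, card_a4, h.ker, card_zpowers_sup h.two, ← (oddCore G).index_mul_card] at h2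
    exact Nat.eq_of_mul_eq_mul_right Nat.card_pos (h2.trans (by ring))
  have hc : (Nat.card (oddCore G)).Coprime 24 :=
    Nat.Coprime.mul_right ((Nat.coprime_two_right.2 odd_oddCore).pow_right 3)
      ((Nat.Prime.coprime_iff_not_dvd Nat.prime_three).2 h3).symm
  obtain ⟨L, hL⟩ := exists_left_complement'_of_coprime (N := oddCore G) (by rwa [h1])
  have hL1 : Nat.card L = 24 := by rw [← hL.index_eq_card, h1]
  obtain ⟨e'⟩ := equiv_prod_of_complement hL fun l _ m hm => mem_center_iff.1 (hO hm) l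
  have : Fact (Nat.Prime 2) := ⟨Nat.prime_two⟩
  obtain ⟨t, ht⟩ := exists_prime_orderOf_dvd_card' (G := L) 2 (by rw [hL1]; norm_num)
  have htz : (t : G) = z := hu t (by rwa [orderOf_coe])
  let g : L →* alternatingGroup (Fin 4) := (f.comp L.subtype).codRestrict _ fun x => hf.le ⟨x, rfl⟩
  have hOk : oddCore G ≤ f.ker := h.ker ▸ le_sup_right
  obtain ⟨e⟩ := equiv_SL23 (G := L) ht (fun s hs => Subtype.ext
    ((hu s (by rwa [orderOf_coe])).trans htz.symm)) g (fun y => by
      obtain ⟨x, hx⟩ := hf.ge y.2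
      obtain ⟨⟨l, m⟩, rfl⟩ := hL.2 x
      exact ⟨l, Subtype.ext (by rw [← hx, map_mul, MonoidHom.mem_ker.1 (hOk m.2), mul_one]; rfl)⟩)
    (by
      ext x
      rw [MonoidHom.ker_codRestrict, ← MonoidHom.comap_ker, h.ker, mem_comap, ← htz]
      refine ⟨fun hx => ?_, fun ⟨i, hi⟩ => mem_sup_left ⟨i, congrArg Subtype.val hi⟩⟩
      obtain ⟨_, ⟨i, rfl⟩, m, hm, e⟩ := mem_sup_of_normal_right.1 hx
      have h5 : m ∈ L := by
        rw [eq_inv_mul_iff_mul_eq.2 e]
        exact mul_mem (inv_mem (zpow_mem t.2 i)) x.2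
      rw [disjoint_def.1 hL.disjoint h5 hm, mul_one] at e
      exact ⟨i, Subtype.ext e⟩)
  exact ⟨e'.trans (e.prodCongr (MulEquiv.refl _))⟩

theorem equiv_of_prod_unique {A B : Type*} [Group A] [Group B] (e : G ≃* A × B)
    (h : Nat.card B = 1) : Nonempty (G ≃* A) := by
  have := (Nat.card_eq_one_iff_unique.1 h).1
  have : Unique B := uniqueOfSubsingleton 1
  exact ⟨e.trans MulEquiv.prodUnique⟩

set_option synthInstance.maxSize 1000 in
theorem nf_ns_num {p m : ℕ} (hp : p.Prime) (hm : m.Coprime 30) (hd : 2 * m ∣ p - 1)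
    (h : 120 * m + 1 = p ^ 2 ∨ 240 * m + 1 = p ^ 2) : 120 * m + 1 = p ^ 2 ∧
      ((p = 11 ∧ m = 1) ∨ (p = 29 ∧ m = 7) ∨ (p = 59 ∧ m = 29)) := by
  have h1 := Nat.le_of_dvd (by have := hp.two_le; omega) hd
  have h2 : p < 120 := by
    by_contra! hc
    obtain ⟨q, rfl⟩ : ∃ q, p = q + 1 := ⟨p - 1, by omega⟩
    rw [Nat.add_sub_cancel] at h1
    rcases h with h | h <;> nlinarith
  have key : ∀ p < 120, ∀ m < 60, p.Prime ∧ m.Coprime 30 ∧ 2 * m ∣ p - 1 ∧
      (120 * m + 1 = p ^ 2 ∨ 240 * m + 1 = p ^ 2) → 120 * m + 1 = p ^ 2 ∧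
      ((p = 11 ∧ m = 1) ∨ (p = 29 ∧ m = 7) ∨ (p = 59 ∧ m = 29)) := by decide +kernel
  exact key p h2 m (by omega) ⟨hp, hm, hd, h⟩

end Cfsg.Agent.Perm
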