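import Mathlib
import Cfsg.Agent.Perm.NF3
import Cfsg.Agent.PGrp.Aut
import Cfsg.Agent.RankOne.Huppert

/-!
Huppert's theorem on solvable linear groups that are transitive on the non-zero vectors.
-/

set_option autoImplicit false
set_option linter.unusedSectionVars false

namespace Cfsg.Agent.Perm

open Subgroup Inv

theorem linearIndependent_of_weights {K M ι κ : Type*} [Field K] [AddCommGroup M] [Module K M]
    (f : κ → Module.End K M) (x : ι → M) (χ : ι → κ → K) (hχ : Function.Injective χ)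
    (hx : ∀ i, x i ≠ 0) (h : ∀ i k, f k (x i) = χ i k • x i) : LinearIndependent K x := by
  classical
  rw [linearIndependent_iff']
  intro s
  induction s using Finset.induction_on with
  | empty => simp
  | insert a s ha ih =>
    intro g hg
    rw [Finset.sum_insert ha] at hg
    have h1 : ∀ b ∈ s, g b = 0 := fun b hb => by
      obtain ⟨k, hk⟩ := Function.ne_iff.1 (hχ.ne (ne_of_mem_of_not_mem hb ha))
      have h2 := congrArg (f k - χ a k • (1 : Module.End K M)) hg
      simp only [map_add, map_sum, map_smul, LinearMap.sub_apply, h, LinearMap.smul_apply,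
        Module.End.one_apply, sub_self, smul_zero, zero_add, map_zero, ← sub_smul,
        smul_smul] at h2
      exact (mul_eq_zero.1 (ih _ h2 b hb)).resolve_right (sub_ne_zero.2 hk)
    rw [Finset.sum_eq_zero (fun b hb => by rw [h1 b hb, zero_smul]), add_zero] at hg
    intro b hb
    rcases Finset.mem_insert.1 hb with rfl | hb
    · exact (smul_eq_zero.1 hg).resolve_right (hx b)
    · exact h1 b hb

set_option synthInstance.maxSize 1000 in
theorem hup_num_aux : ∀ p < 26, ∀ k < 3, ∀ d < 10, ∀ e < 7, p % 2 = 1 ∧ 3 ≤ p ∧ 1 ≤ k ∧ 3 ≤ e ∧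
    2 ^ e ≤ d * d ∧ (p ^ k) ^ d ≤ 4 * (2 ^ e) ^ 2 ∧ (∑ i ∈ Finset.range d, (p ^ k) ^ i) ∣
      k * (2 ^ e * ∏ i : Fin e, (2 ^ e - 2 ^ (i : ℕ))) → (p ^ k) ^ d = 81 := by
  decide +kernel

theorem hup_num {p k d e : ℕ} (h1 : p % 2 = 1) (h2 : 3 ≤ p) (h3 : 1 ≤ k) (h4 : 3 ≤ e)
    (h5 : 2 ^ e ≤ d * d) (h6 : (p ^ k) ^ d ≤ 4 * (2 ^ e) ^ 2)
    (h7 : (∑ i ∈ Finset.range d, (p ^ k) ^ i) ∣ k * (2 ^ e * ∏ i : Fin e, (2 ^ e - 2 ^ (i : ℕ)))) :
    (p ^ k) ^ d = 81 := by
  have h8 : p ≤ p ^ k := Nat.le_self_pow (by omega) p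
  have h9 : 3 ^ k ≤ p ^ k := Nat.pow_le_pow_left h2 k
  have hd : d < 10 := by
    by_contra! hc
    have : ∀ n, 10 ≤ n → 4 * (n * n) ^ 2 < 3 ^ n := fun n hn => by
      induction n, hn using Nat.le_induction with
      | base => norm_num
      | succ n hn ih =>
        have : (n + 1) * (n + 1) * 2 ≤ n * n * 3 := by nlinarith
        have := Nat.pow_le_pow_left this 2
        rw [pow_succ 3]
        nlinarith
    have := this d hc
    have := Nat.pow_le_pow_left h5 2
    have := Nat.pow_le_pow_left (h2.trans h8) d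
    omega
  have he : e < 7 := by
    by_contra! hc
    have := Nat.pow_le_pow_right two_pos hc
    nlinarith
  have hd3 : 3 ≤ d := by
    by_contra! hc
    have := Nat.pow_le_pow_right two_pos h4
    nlinarith
  have hQ : p ^ k < 26 := by
    by_contra! hc
    have h10 := (Nat.pow_le_pow_left hc 3).trans (Nat.pow_le_pow_right (by omega) hd3)
    have := Nat.pow_le_pow_left (Nat.pow_le_pow_right two_pos (Nat.le_of_lt_succ he)) 2
    omega
  have hk : k < 3 := by
    by_contra! hc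
    have := Nat.pow_le_pow_right (n := 3) (by norm_num) hc
    omega
  exact hup_num_aux p (by omega) k hk d hd e he ⟨h1, h2, h3, h4, h5, h6, h7⟩

variable {G : Type*} [Group G]

/-- `W / A` is a maximal elementary abelian normal `2`-section inside the centraliser of `A`. -/
structure MaxEl (A W : Subgroup G) : Prop where
  normal : W.Normal
  le : A ≤ W
  le_cent : W ≤ centralizer (A : Set G)
  sq : ∀ x ∈ W, x * x ∈ A
  max : ∀ U : Subgroup G, U.Normal → W ≤ U → U ≤ centralizer (A : Set G) →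
    (∀ x ∈ U, x * x ∈ A) → U ≤ W

theorem MaxAb.exists_maxEl [Finite G] {A : Subgroup G} (h : MaxAb A) : ∃ W, MaxEl A W := by
  obtain ⟨W, ⟨h1, h2, h3, h4⟩, h5⟩ := (Set.toFinite {W : Subgroup G | W.Normal ∧ A ≤ W ∧
    W ≤ centralizer (A : Set G) ∧ ∀ x ∈ W, x * x ∈ A}).exists_maximal
      ⟨A, h.normal, le_rfl, h.le_cent, fun x hx => mul_mem hx hx⟩
  exact ⟨W, h1, h2, h3, h4, fun U hU hle hc hs => h5 ⟨hU, h2.trans hle, hc, hs⟩ hle⟩

namespace MaxEl

variable {A W : Subgroup G} (h : MaxEl A W)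
include h

theorem comm_mem {x y : G} (hx : x ∈ W) (hy : y ∈ W) : x * y * x⁻¹ * y⁻¹ ∈ A := by
  have h1 := mul_mem (mul_mem (h.sq x hx) (h.sq _ (mul_mem (inv_mem hx) hy)))
    (inv_mem (h.sq y hy))
  convert h1 using 1
  group

theorem comm_sq {g x : G} (hg : g ∈ centralizer (A : Set G)) (hx : x ∈ W)
    (ha : g * x * g⁻¹ * x⁻¹ ∈ A) : g * x * g⁻¹ * x⁻¹ * (g * x * g⁻¹ * x⁻¹) = 1 := by
  have h1 := hg _ (h.sq x hx)
  have h2 := h.le_cent hx _ ha
  calc _ = g * x * g⁻¹ * (x⁻¹ * (g * x * g⁻¹ * x⁻¹ * x)) * x⁻¹ := by group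
    _ = g * (x * x) * g⁻¹ * (x * x)⁻¹ := by rw [h2]; group
    _ = 1 := by rw [← h1]; group

theorem cent_le [Finite G] [Group.IsSolvable G] (hA : MaxAb A)
    (hodd : ∀ r : ℕ, r.Prime → r ≠ 2 → IsCyclic (pCore r G)) :
    centralizer (A : Set G) ⊓ centralizer (W : Set G) ≤ A := by
  have := hA.normal
  have := h.normal
  by_contra hc
  set π := QuotientGroup.mk' A
  have hk : π.ker = A := QuotientGroup.ker_mk' A
  set D := centralizer (A : Set G) ⊓ centralizer (W : Set G)
  have : (D.map π).Normal := Normal.map inferInstance π (QuotientGroup.mk'_surjective A)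
  obtain ⟨N, r, hN, h0, hle, hr, ⟨h1, h2⟩, -⟩ := Core.exists_minimal_normal_elementary_le
    (D.map π) inferInstance (by rwa [Ne, Subgroup.map_eq_bot_iff, hk])
  have hU : N.comap π ≤ D := (comap_mono hle).trans (comap_map_eq_self
    (hk.le.trans (le_inf hA.le_cent (le_centralizer_iff.1 h.le_cent)))).le
  have hUA : ¬ N.comap π ≤ A := fun e => h0 (eq_bot_iff.2 fun x hx => by
    obtain ⟨x, rfl⟩ := QuotientGroup.mk'_surjective A x
    exact hk.ge (e hx))
  have hpow : ∀ x ∈ N.comap π, x ^ r ∈ A := fun x hx => hk.le (by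
    rw [MonoidHom.mem_ker, map_pow]; exact h2 _ hx)
  by_cases hr2 : r = 2
  · subst hr2
    have h3 := h.max (N.comap π ⊔ W) inferInstance le_sup_right
      (sup_le (hU.trans inf_le_left) h.le_cent) fun x hx => by
        obtain ⟨u, hu, w, hw, rfl⟩ := mem_sup_of_normal_right.1 hx
        have := mul_mem (pow_two u ▸ hpow u hu) (h.sq w hw)
        rwa [mul_assoc, ← mul_assoc u w, ← (hU hu).2 w hw, mul_assoc w, ← mul_assoc u w] at this
    exact hUA (hA.le_of_comm (fun a ha b hb => ((hU ha).2 b (h3 (mem_sup_left hb))).symm)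
      (hU.trans inf_le_left))
  · have : Fact r.Prime := ⟨hr⟩
    have h3 : ⁅N.comap π, N.comap π⁆ ≤ A := commutator_le.2 fun x hx y hy => hk.le (by
      rw [MonoidHom.mem_ker, map_commutatorElement, commutatorElement_eq_one_iff_mul_comm]
      exact Core.comm_of_isMulCommutative h1 hx hy)
    have h4 := Core.le_fitting inferInstance (Core.nilpotent_of_commutator_le_centralizer
      (h3.trans (le_centralizer_iff.1 (hU.trans inf_le_left))))
    obtain ⟨u, hu, hu', -, k, hk'⟩ := PGrp.exists_of_prime_dvd_relIndex (A := N.comap π) (B := A)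
      hr (by
        have h5 := Core.prime_dvd_card_of_isPGroup (Core.IsElementaryAbelian.isPGroup ⟨h1, h2⟩) h0
        rwa [← map_comap_eq_self_of_surjective (QuotientGroup.mk'_surjective A) N, ← relIndex_ker,
          hk] at h5)
    have h5 := Core.le_pCore_of_le_fitting (P := zpowers u)
      (IsPGroup.of_card (by rw [Nat.card_zpowers, hk'])) (zpowers_le.2 (h4 hu)) (mem_zpowers u)
    have := hodd r hr hr2
    exact hu' (hA.le_of_isCyclic (B := pCore r G ⊓ centralizer (A : Set G))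
      (isCyclic_of_le inf_le_left) inf_le_right ⟨h5, (hU hu).1⟩)

theorem relIndex_dvd [Finite G] [A.Normal]
    (hc : centralizer (A : Set G) ⊓ centralizer (W : Set G) ≤ A) : ∃ e, A.relIndex W = 2 ^ e ∧
      A.relIndex (centralizer (A : Set G)) ∣ 2 ^ e * ∏ i : Fin e, (2 ^ e - 2 ^ (i : ℕ)) := by
  have : Fact (Nat.Prime 2) := ⟨Nat.prime_two⟩
  have := h.normal
  set π := QuotientGroup.mk' A
  have hk : π.ker = A := QuotientGroup.ker_mk' A
  have : (W.map π).Normal := Normal.map inferInstance π (QuotientGroup.mk'_surjective A)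
  have h1 : ∀ x : W.map π, x ^ 2 = 1 := by
    rintro ⟨_, x, hx, rfl⟩
    exact Subtype.ext (by
      change π x ^ 2 = 1
      rw [pow_two, ← map_mul]; exact hk.ge (h.sq x hx))
  have h2 : IsMulCommutative (W.map π) := Core.isMulCommutative_of_forall (by
    rintro _ ⟨x, hx, rfl⟩ _ ⟨y, hy, rfl⟩
    have : π _ = 1 := hk.ge (h.comm_mem hx hy)
    rwa [map_mul, map_mul, map_mul, map_inv, map_inv, mul_inv_eq_one, mul_inv_eq_iff_eq_mul] at this)
  obtain ⟨e, he⟩ := IsPGroup.iff_card.1 (show IsPGroup 2 (W.map π) from fun x => ⟨1, h1 x⟩)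
  obtain ⟨φ, hφ⟩ := PGrp.exists_autMatrix h2 h1 he
  have h3 := (PGrp.relIndex_centralizer_dvd_card_mulAut (R := W.map π)
    (A := (centralizer (A : Set G)).map π) le_normalizer_of_normal).trans
    (PGrp.card_dvd_card_GL φ hφ)
  rw [Matrix.card_GL_field, ZMod.card, ← relIndex_comap, ← inf_relIndex_right] at h3
  have h4 : (centralizer (W.map π : Set (G ⧸ A))).comap π ⊓ centralizer (A : Set G) ≤ W := by
    have h5 : ∀ g ∈ (centralizer (W.map π : Set (G ⧸ A))).comap π, ∀ x ∈ W,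
        g * x * g⁻¹ * x⁻¹ ∈ A := fun g hg x hx => hk.le (by
      rw [MonoidHom.mem_ker, map_mul, map_mul, map_mul, map_inv, map_inv,
        ← hg _ (mem_map_of_mem π hx)]
      group)
    refine h.max _ inferInstance (le_inf (fun x hx => ?_) h.le_cent) inf_le_right
      fun g hg => hc ⟨mul_mem hg.2 hg.2, fun x hx => ?_⟩
    · rintro _ ⟨y, hy, rfl⟩
      exact Core.comm_of_isMulCommutative h2 (mem_map_of_mem π hy) (mem_map_of_mem π hx)
    · have h6 := h.comm_sq hg.2 hx (h5 g hg.1 x hx)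
      have h7 := hg.2 _ (h5 g hg.1 x hx)
      calc x * (g * g) = g * x * g⁻¹ * x⁻¹ * (g * x * g⁻¹ * x⁻¹) * x * (g * g) := by rw [h6]; group
        _ = (g * x * g⁻¹ * x⁻¹ * g) * x * g := by group
        _ = g * g * x := by rw [h7]; group
  rw [← relIndex_ker, hk] at he
  refine ⟨e, he, ?_⟩
  rw [← relIndex_mul_relIndex A W _ h.le h.le_cent, he]
  exact Nat.mul_dvd_mul_left _ ((relIndex_dvd_of_le_left _ h4).trans h3)

theorem exists_invol [Finite G] [IsCyclic A] (hz : ∀ a ∈ A, ∀ b ∈ A, a * a = 1 → b * b = 1 →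
    a ≠ 1 → b ≠ 1 → a = b) (h4 : 4 < A.relIndex W) : ∃ t ∈ W, t ∉ A ∧ t * t = 1 := by
  obtain ⟨c, hc⟩ := A.isCyclic_iff_exists_zpowers_eq_top.1 inferInstance
  have key : ∀ x ∈ W, x ∉ A → x * x ∈ zpowers (c * c) → ∃ t ∈ W, t ∉ A ∧ t * t = 1 := by
    rintro x hx hx' ⟨i, hi⟩
    have h1 : c ^ i ∈ A := hc ▸ ⟨i, rfl⟩
    refine ⟨x * (c ^ i)⁻¹, mul_mem hx (inv_mem (h.le h1)),
      fun e => hx' (by simpa using mul_mem e h1), ?_⟩
    rw [mul_assoc, ← mul_assoc _ x, h.le_cent hx _ (inv_mem h1), mul_assoc, ← mul_assoc x, ← hi]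
    simp only [(Commute.refl c).mul_zpow]
    group
  obtain ⟨x, hx, hx'⟩ : ∃ x ∈ W, x ∉ A := by
    by_contra! hc
    rw [relIndex_eq_one.2 hc] at h4
    omega
  obtain ⟨y, hy, hy', hxy⟩ : ∃ y ∈ W ⊓ centralizer {x}, y ∉ A ∧ x * y ∉ A := by
    by_contra! hc
    have h1 : A.relIndex (W ⊓ centralizer {x}) ∣ 2 :=
      index_dvd_two_iff'.2 ⟨⟨x, hx, mem_centralizer_singleton_iff.2 rfl⟩, fun b =>
        or_iff_not_imp_right.2 (hc b b.2)⟩
    have h2 : (W ⊓ centralizer {x}).relIndex W ∣ 2 := by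
      rw [inf_comm, inf_relIndex_right]
      by_cases h3 : W ≤ centralizer {x}
      · rw [relIndex_eq_one.2 h3]; exact one_dvd _
      obtain ⟨w, hw, hw'⟩ := SetLike.not_le_iff_exists.1 h3
      refine index_dvd_two_iff'.2 ⟨⟨w⁻¹, inv_mem hw⟩, fun b => or_iff_not_imp_right.2 fun hb => ?_⟩
      have h5 : ∀ u ∈ W, u ∉ centralizer {x} → u * x * u⁻¹ * x⁻¹ ≠ 1 := fun u _ hu e =>
        hu (mem_centralizer_singleton_iff.2 (mul_inv_eq_iff_eq_mul.1 (mul_inv_eq_one.1 e)))
      have h6 := hz _ (h.comm_mem hw hx) _ (h.comm_mem b.2 hx)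
        (h.comm_sq (h.le_cent hw) hx (h.comm_mem hw hx))
        (h.comm_sq (h.le_cent b.2) hx (h.comm_mem b.2 hx)) (h5 w hw hw') (h5 b b.2 hb)
      refine mem_centralizer_singleton_iff.2 ?_
      change w⁻¹ * b * x = x * (w⁻¹ * b)
      calc w⁻¹ * b * x = w⁻¹ * (b * x * (b : G)⁻¹ * x⁻¹) * x * b := by group
        _ = _ := by rw [← h6]; group
    have h3 := relIndex_mul_relIndex A (W ⊓ centralizer {x}) W
      (le_inf h.le fun a ha => mem_centralizer_singleton_iff.2 (h.le_cent hx a ha)) inf_le_left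
    have := Nat.mul_le_mul (Nat.le_of_dvd two_pos h1) (Nat.le_of_dvd two_pos h2)
    omega
  rcases MC.even_or_odd (hc.ge (h.sq x hx)) with h1 | h1
  · exact key x hx hx' h1
  rcases MC.even_or_odd (hc.ge (h.sq y hy.1)) with h2 | h2
  · exact key y hy.1 hy' h2
  refine key _ (mul_mem hx hy.1) hxy ?_
  have h3 := mem_centralizer_singleton_iff.1 hy.2
  have h5 := h.le_cent (mul_mem hy.1 hy.1) c (hc.le (mem_zpowers c))
  convert mul_mem (mul_mem h1 h2) (mem_zpowers (c * c)) using 1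
  calc x * y * (x * y) = x * (y * x) * y := by group
    _ = x * x * c⁻¹ * (c * (y * y)) := by rw [h3]; group
    _ = _ := by rw [h5]; group

end MaxEl

variable {V : Type*} [AddCommGroup V] [DistribMulAction G V] [Finite V] [Nontrivial V]
  [FaithfulSMul G V] {A W : Subgroup G} {F : Type*} [Field F] [Finite F] [Module F V]
  {σ : G →* (F ≃+* F)}

theorem FData.one_or_neg (hF : FData V A F σ) {a : G} (ha : a ∈ A) (h : a * a = 1) :
    a = 1 ∨ ∀ v : V, a • v = -v := by
  obtain ⟨l, hl⟩ := hF.scalar a ha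
  obtain ⟨v, hv⟩ := exists_ne (0 : V)
  have h1 : l * l = 1 := smul_left_injective F hv (by
    simp only; rw [mul_smul, ← hl, ← hl, ← mul_smul, h, one_smul, one_smul])
  refine (mul_self_eq_one_iff.1 h1).imp (fun e => eq_of_smul_eq_smul (α := V) fun w => ?_)
    fun e w => ?_
  · rw [hl, e, one_smul, one_smul]
  · rw [hl, e, neg_one_smul]

theorem FData.invol_eq (hF : FData V A F σ) (a : G) (ha : a ∈ A) (b : G) (hb : b ∈ A)
    (h1 : a * a = 1) (h2 : b * b = 1) (a1 : a ≠ 1) (b1 : b ≠ 1) : a = b :=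
  eq_of_smul_eq_smul (α := V) fun v => by
    rw [(hF.one_or_neg ha h1).resolve_left a1, (hF.one_or_neg hb h2).resolve_left b1]

namespace MaxEl

variable (h : MaxEl A W) (hF : FData V A F σ)
  (hc : centralizer (A : Set G) ⊓ centralizer (W : Set G) ≤ A)
include h hF hc

theorem relIndex_le [Finite G] : A.relIndex W ≤ Module.finrank F V * Module.finrank F V := by
  have : Module.Finite F V := Module.Finite.of_finite
  let ρ : W →* Module.End F V :=
    { toFun := fun x =>
        { toFun := fun v => (x : G) • v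
          map_add' := smul_add _
          map_smul' := hF.lin (h.le_cent x.2) }
      map_one' := LinearMap.ext fun v => one_smul G v
      map_mul' := fun x y => LinearMap.ext fun v => mul_smul (x : G) (y : G) v }
  have hρ : ∀ x v, ρ x v = (x : G) • v := fun _ _ => rfl
  choose s hs using fun w x : W => hF.scalar _ (h.comm_mem w.2 x.2)
  have := linearIndependent_of_weights (fun w : W => LinearMap.mulLeftRight F (ρ w, ρ w⁻¹))
    (fun q : W ⧸ A.subgroupOf W => ρ q.out) (fun q w => s w q.out) (fun q q' e => by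
      rw [← q.out_eq', ← q'.out_eq', QuotientGroup.eq]
      refine hc ⟨h.le_cent (q.out⁻¹ * q'.out).2, fun w hw => ?_⟩
      have h1 : w⁻¹ * q.out * w⁻¹⁻¹ * (q.out : G)⁻¹ = w⁻¹ * q'.out * w⁻¹⁻¹ * (q'.out : G)⁻¹ :=
        eq_of_smul_eq_smul (α := V) fun v => (hs ⟨w⁻¹, inv_mem hw⟩ q.out v).trans
          ((congrArg (· • v) (congrFun e ⟨w⁻¹, inv_mem hw⟩)).trans
            (hs ⟨w⁻¹, inv_mem hw⟩ q'.out v).symm)
      change w * ((q.out : G)⁻¹ * q'.out) = (q.out : G)⁻¹ * q'.out * w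
      calc _ = (q.out : G)⁻¹ * w * (w⁻¹ * q.out * w⁻¹⁻¹ * (q.out : G)⁻¹) * q'.out := by group
        _ = _ := by rw [h1]; group)
    (fun q => (Group.isUnit q.out).map ρ |>.ne_zero) fun q w => LinearMap.ext fun v => by
      simp only [LinearMap.mulLeftRight_apply, Module.End.mul_apply, hρ, LinearMap.smul_apply, ← hs,
        ← mul_smul, coe_inv, inv_mul_cancel_right, ← mul_assoc]
  have _ := Fintype.ofFinite (W ⧸ A.subgroupOf W)
  have h2 := this.fintype_card_le_finrank
  rwa [Module.finrank_linearMap, ← Nat.card_eq_fintype_card] at h2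

theorem exists_neg {x : G} (hx : x ∈ W) (hx' : x ∉ A) : ∃ w ∈ W, w * x * w⁻¹ * x⁻¹ ≠ 1 ∧
    ∀ v : V, (w * x * w⁻¹ * x⁻¹) • v = -v := by
  obtain ⟨w, hw, e⟩ : ∃ w ∈ W, w * x ≠ x * w := by
    by_contra! e
    exact hx' (hc ⟨h.le_cent hx, e⟩)
  have h1 : w * x * w⁻¹ * x⁻¹ ≠ 1 := fun e' =>
    e (mul_inv_eq_iff_eq_mul.1 (mul_inv_eq_one.1 e'))
  exact ⟨w, hw, h1, (hF.one_or_neg (h.comm_mem hw hx)
    (h.comm_sq (h.le_cent hw) hx (h.comm_mem hw hx))).resolve_left h1⟩

theorem two_ne_zero {x : G} (hx : x ∈ W) (hx' : x ∉ A) : (2 : F) ≠ 0 := fun e => by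
  obtain ⟨w, -, h1, h2⟩ := h.exists_neg hF hc hx hx'
  refine h1 (eq_of_smul_eq_smul (α := V) fun v => ?_)
  rw [h2, one_smul, neg_eq_iff_add_eq_zero, ← two_smul F, e, zero_smul]

theorem card_fix {t : G} (ht : t ∈ W) (ht' : t ∉ A) :
    Nat.card {v : V // t • v = v} * Nat.card {v : V // t • v = v} ≤ Nat.card V := by
  obtain ⟨w, hw, -, h1⟩ := h.exists_neg hF hc ht ht'
  have h2 : ∀ u : V, t • u = u → t • w • u = -(w • u) := fun u hu => by
    rw [← neg_eq_iff_eq_neg, ← h1, ← mul_smul, ← mul_smul, inv_mul_cancel_right,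
      inv_mul_cancel_right, mul_smul, hu]
  rw [← Nat.card_prod]
  refine Nat.card_le_card_of_injective (fun x => x.1.1 + w • x.2.1) fun x y e => ?_
  have e1 := congrArg (t • ·) e
  simp only [smul_add, x.1.2, y.1.2, h2 _ x.2.2, h2 _ y.2.2] at e e1
  have e2 : x.1.1 = y.1.1 := smul_right_injective V (h.two_ne_zero hF hc ht ht') (by
    simp only [two_smul]
    have := congrArg₂ (· + ·) e e1
    simpa only [add_add_add_comm, add_neg_cancel, add_zero] using this)
  rw [e2, add_right_inj] at e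
  exact Prod.ext (Subtype.ext e2) (Subtype.ext (MulAction.injective w e))

theorem card_le [Finite G] [A.Normal] (htr : ∀ v w : V, v ≠ 0 → w ≠ 0 → ∃ g : G, g • v = w)
    (h4 : 4 < A.relIndex W) : Nat.card V ≤ 4 * A.relIndex W ^ 2 := by
  classical
  have := hF.isCyclic
  have := h.normal
  have := Fintype.ofFinite V
  have := Fintype.ofFinite W
  have := Fintype.ofFinite (W ⧸ A.subgroupOf W)
  obtain ⟨t, ht, ht', h1⟩ := h.exists_invol hF.invol_eq h4
  obtain ⟨w, hw, -, h2⟩ := h.exists_neg hF hc ht ht'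
  obtain ⟨u, hu, h3⟩ : ∃ u : V, u ≠ 0 ∧ t • u = u := by
    by_contra! e
    refine ht' ?_
    rw [show t = w * t * w⁻¹ * t⁻¹ from eq_of_smul_eq_smul (α := V) fun v => ?_]
    · exact h.comm_mem hw ht
    · rw [h2, eq_neg_iff_add_eq_zero]
      by_contra e'
      exact e _ e' (by rw [smul_add, ← mul_smul, h1, one_smul, add_comm])
  let I : Finset W := Finset.univ.filter fun s => (s : G) ∉ A ∧ (s : G) * s = 1
  have hI : I.card ≤ 2 * A.relIndex W := by
    refine (Finset.card_le_mul_card_image (f := fun s : W => (s : W ⧸ A.subgroupOf W)) I 2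
      fun q hq => ?_).trans (Nat.mul_le_mul_left 2 ?_)
    · obtain ⟨s, hs, rfl⟩ := Finset.mem_image.1 hq
      refine (Finset.card_le_card (t := {s, s * ⟨_, h.le (h.comm_mem hw ht)⟩})
        fun r hr => ?_).trans Finset.card_le_two
      simp only [I, Finset.mem_filter, Finset.mem_univ, true_and] at hs hr
      have h5 : (s : G)⁻¹ * r ∈ A := (QuotientGroup.eq (s := A.subgroupOf W)).1 hr.2.symm
      have h6 : (s : G)⁻¹ * r * ((s : G)⁻¹ * r) = 1 := by
        have := h.le_cent s.2 _ h5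
        calc _ = (s : G) * s * ((s : G)⁻¹ * r * ((s : G)⁻¹ * r)) := by rw [hs.2, one_mul]
          _ = s * (s * ((s : G)⁻¹ * r)) * ((s : G)⁻¹ * r) := by group
          _ = r * r := by rw [← this]; group
          _ = 1 := hr.1.2
      simp only [Finset.mem_insert, Finset.mem_singleton]
      refine (hF.one_or_neg h5 h6).imp (fun e => Subtype.ext (inv_mul_eq_one.1 e).symm) fun e => ?_
      refine Subtype.ext (inv_mul_eq_iff_eq_mul.1 (eq_of_smul_eq_smul (α := V) fun v => ?_))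
      rw [e]; exact (h2 v).symm
    · rw [relIndex, index, Nat.card_eq_fintype_card]
      exact Finset.card_le_univ _
  have h5 : (Finset.univ : Finset V) ⊆ I.biUnion fun s => Finset.univ.filter
      fun v => (s : G) • v = v := fun v _ => by
    simp only [I, Finset.mem_biUnion, Finset.mem_filter, Finset.mem_univ, true_and]
    by_cases hv : v = 0
    · exact ⟨⟨t, ht⟩, ⟨ht', h1⟩, by rw [hv, smul_zero]⟩
    obtain ⟨g, rfl⟩ := htr u v hu hv
    refine ⟨⟨g * t * g⁻¹, h.normal.conj_mem t ht g⟩, ⟨fun e => ht' (by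
      simpa [mul_assoc] using Normal.conj_mem ‹A.Normal› _ e g⁻¹), ?_⟩, ?_⟩
    · simp only [conj_mul, h1, mul_one, mul_inv_cancel]
    · simp only [mul_smul, inv_smul_smul, h3]
  have h6 := (Finset.card_le_card h5).trans (Finset.card_biUnion_le_card_mul I _
    (Nat.sqrt (Nat.card V)) fun s hs => by
      simp only [I, Finset.mem_filter, Finset.mem_univ, true_and] at hs
      rw [Nat.le_sqrt, ← Fintype.card_subtype, ← Nat.card_eq_fintype_card]
      exact h.card_fix hF hc s.2 hs.1)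
  rw [Finset.card_univ, ← Nat.card_eq_fintype_card] at h6
  have h7 := Nat.sqrt_le (Nat.card V)
  have h8 := h6.trans (Nat.mul_le_mul_right _ hI)
  have h9 : 0 < Nat.card V := Nat.card_pos
  refine Nat.le_of_mul_le_mul_right ?_ h9
  nlinarith [Nat.mul_le_mul h8 h8]

end MaxEl

theorem isCyclic_pCore [Finite G] {q : ℕ} (hq : q.Prime) (hE : ∀ e : V, q • e = 0)
    (htrans : ∀ a b : V, a ≠ 0 → b ≠ 0 → ∃ d : G, d • a = b) (p : ℕ) (hp : p.Prime)
    (hp2 : p ≠ 2) : IsCyclic (pCore p G) := by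
  have := Fact.mk hp
  have hn : (pCore p G).Normal := inferInstance
  refine (RankOne.cyclic_fpf_of_const (P := pCore p G) (E := V) hp2 (Core.pCore_isPGroup p) hq hE
    fun a b ha hb => ?_).1
  obtain ⟨d, hd⟩ := htrans a b ha hb
  have e : ∀ g : G, g • b = b ↔ (d⁻¹ * g * d) • a = a := fun g => by
    rw [mul_smul, mul_smul, inv_smul_eq_iff, hd]
  refine Nat.card_congr ⟨fun g => ⟨⟨d * g.1 * d⁻¹, hn.conj_mem _ g.1.2 d⟩, (e _).mpr (by
      have : (g.1 : G) • a = a := g.2
      simpa [mul_assoc] using this)⟩,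
    fun g => ⟨⟨d⁻¹ * g.1 * d, hn.conj_mem' _ g.1.2 d⟩, (e _).mp g.2⟩, fun g => ?_, fun g => ?_⟩ <;>
  · ext; simp [mul_assoc]

/-- Huppert's theorem. -/
theorem huppert [Finite G] [Group.IsSolvable G] {p : ℕ} [hp : Fact p.Prime]
    (hV : ∀ v : V, p • v = 0) (htr : ∀ v w : V, v ≠ 0 → w ≠ 0 → ∃ g : G, g • v = w)
    (hA : MaxAb A) (hF : FData V A F σ) (hd : Module.finrank F V ≠ 1) :
    Nat.card V ∈ ({9, 25, 49, 121, 529, 81} : Set ℕ) := by
  have := hA.normal
  have htr' : ∀ v w : V, v ≠ 0 → w ≠ 0 → ∃ g : G, g • v = w ∨ g • v = -w := fun v w hv hw =>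
    (htr v w hv hw).imp fun _ => Or.inl
  obtain ⟨W, hW⟩ := hA.exists_maxEl
  have hc := hW.cent_le hA (isCyclic_pCore hp.out hV htr)
  obtain ⟨x, hx, hx'⟩ : ∃ x ∈ W, x ∉ A := by
    by_contra! e
    exact hF.lt_cent hV htr' hA.le_cent hd fun g hg => hc ⟨hg, fun w hw => hg w (e w hw)⟩
  have h2 : p ≠ 2 := by
    rintro rfl
    have := FData.charP (V := V) (F := F) hV
    exact hW.two_ne_zero hF hc hx hx' (CharP.cast_eq_zero F 2)
  have h3 : 3 ≤ p := by have := hp.out.two_le; omega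
  obtain ⟨k, h4, -, h5, h6, -, h7⟩ := hF.numerics hV htr' hA.le_cent
  obtain ⟨e, h8, h9⟩ := hW.relIndex_dvd hc
  replace h7 := h7.trans (Nat.mul_dvd_mul_left k h9)
  by_cases he : e ≤ 2
  · obtain ⟨rfl, h10⟩ := nf_num h4 (by omega) h3 (Or.inl (h7.trans (Nat.mul_dvd_mul_left k
      (by interval_cases e <;> decide))))
    replace h7 := h7.trans (show _ ∣ 24 by interval_cases e <;> decide)
    rw [h10] at h5 h7
    simp only [Finset.sum_range_succ, Finset.range_zero, Finset.sum_empty, pow_zero, pow_one,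
      zero_add] at h5 h7
    have := Nat.le_of_dvd (by norm_num) h7
    have h11 : p < 24 := by omega
    rw [h5]
    interval_cases p <;> simp_all
  · have h10 := hW.card_le hF hc htr (by
      have := Nat.pow_le_pow_right two_pos (show 3 ≤ e by omega)
      omega)
    have h11 := hW.relIndex_le hF hc
    rw [h8] at h10 h11
    rw [h5] at h10
    rw [h5, hup_num (hp.out.eq_two_or_odd.resolve_left h2) h3 h4 (by omega) h11 h10 h7]
    simp

end Cfsg.Agent.Perm
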