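import Mathlib
import Cfsg.Agent.LocalEven.Trace
import Cfsg.Agent.Comp2.AxB
import Cfsg.Agent.Core.Fitting

/-!
The Thompson–Wielandt theorem for two point stabilizers of a finite primitive group.
-/

set_option autoImplicit false
set_option linter.unusedSectionVars false

namespace Cfsg.Agent.Perm

open Subgroup LocalEven H2
open scoped commutatorElement

variable {G : Type*} [Group G]

/-- The core in `H` of `X`. -/
def rc (H X : Subgroup G) : Subgroup G := ⨅ h : H, cj (h : G) X

theorem mem_rc {H X : Subgroup G} {x : G} : x ∈ rc H X ↔ ∀ h ∈ H, h⁻¹ * x * h ∈ X := by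
  simp only [rc, mem_iInf, mem_cj, Subtype.forall]

theorem rc_le (H X : Subgroup G) : rc H X ≤ X := fun x hx => by
  simpa using mem_rc.1 hx 1 H.one_mem

theorem le_normalizer_rc (H X : Subgroup G) : H ≤ normalizer (rc H X : Set G) :=
  le_normalizer_of_cj_le fun g hg x hx => mem_rc.2 fun h hh => by
    simpa [mul_assoc] using mem_rc.1 (mem_cj.1 hx) (g⁻¹ * h) (mul_mem (inv_mem hg) hh)

theorem le_rc {H X Y : Subgroup G} (h : ∀ g ∈ H, Y ≤ cj g X) : Y ≤ rc H X :=
  le_iInf fun g => h g g.2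

theorem le_rc' {H X Y : Subgroup G} (h : Y ≤ X) (hn : H ≤ normalizer (Y : Set G)) : Y ≤ rc H X :=
  le_rc fun g hg => cj_eq_of_mem_normalizer (hn hg) ▸ cj_mono g h

theorem relIndex_rc_dvd_factorial [Finite G] (H X : Subgroup G) :
    (rc H X).relIndex H ∣ (X.relIndex H).factorial := by
  have h1 : (rc H X).subgroupOf H = (X.subgroupOf H).normalCore := by
    ext x
    rw [mem_subgroupOf, mem_rc]
    exact ⟨fun h g => by simpa [mem_subgroupOf] using h g⁻¹ (inv_mem g.2),
      fun h g hg => by simpa [mem_subgroupOf] using h ⟨g⁻¹, inv_mem hg⟩⟩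
  rw [relIndex, h1, normalCore_eq_ker, index_ker, relIndex, index, ← Nat.card_perm]
  exact card_subgroup_dvd_card _

theorem relIndex_rc_dvd_pow [Finite G] {H B M N : Subgroup G} (hM : M ≤ B)
    (h1 : H ≤ normalizer (M : Set G)) (h2 : B ≤ normalizer (N : Set G)) (hB : B ≤ H) :
    (rc H (M ⊓ N)).relIndex M ∣ N.relIndex B ^ B.relIndex H := by
  have : (N.subgroupOf B).Normal := normal_subgroupOf_of_le_normalizer h2
  have h3 : ∀ (h : H) (x : M), (h : G)⁻¹ * x * h ∈ B := fun h x =>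
    hM (inv_conj_mem_of_mem_normalizer (h1 h.2) x.2)
  let φ : M →* (H ⧸ B.subgroupOf H → B ⧸ N.subgroupOf B) :=
    { toFun := fun x q => (⟨_, h3 q.out x⟩ : B)
      map_one' := funext fun q => by simp [mem_subgroupOf]
      map_mul' := fun x y => funext fun q => by
        rw [Pi.mul_apply, ← QuotientGroup.mk_mul]
        congr 2
        simp [mul_assoc] }
  have h4 : (rc H (M ⊓ N)).subgroupOf M = φ.ker := by
    ext x
    rw [mem_subgroupOf, mem_rc, MonoidHom.mem_ker, funext_iff]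
    refine ⟨fun h q => (QuotientGroup.eq_one_iff _).2 (h _ q.out.2).2,
      fun h g hg => ⟨inv_conj_mem_of_mem_normalizer (h1 hg) x.2, ?_⟩⟩
    obtain ⟨b, hb⟩ := QuotientGroup.mk_out_eq_mul (B.subgroupOf H) ⟨g, hg⟩
    have h5 := conj_mem_of_mem_normalizer (h2 b.2)
      (mem_subgroupOf.1 ((QuotientGroup.eq_one_iff _).1 (h (⟨g, hg⟩ : H))))
    simpa [hb, mul_assoc] using h5
  rw [relIndex, h4, index_ker, relIndex, relIndex, index, index, ← Nat.card_fun]
  exact card_subgroup_dvd_card _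

/-- Two distinct conjugate subgroups each of which is the normalizer of its nontrivial normal
subgroups. -/
structure PP (H K : Subgroup G) : Prop where
  ne : H ≠ K
  conj : ∃ g, cj g H = K
  nH : ∀ X : Subgroup G, X ≠ ⊥ → X ≤ H → H ≤ normalizer (X : Set G) → normalizer (X : Set G) ≤ H

namespace PP

variable {H K : Subgroup G}

theorem symm (h : PP H K) : PP K H := by
  obtain ⟨g, rfl⟩ := h.conj
  refine ⟨h.ne.symm, ⟨g⁻¹, cj_inv_cj g H⟩, fun X h1 h2 h3 => ?_⟩
  rw [le_cj_iff, cj_normalizer]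
  exact h.nH _ (mt cj_eq_bot.1 h1) (le_cj_iff.1 h2) (by rwa [← cj_normalizer, ← cj_le_iff])

variable [Finite G]

theorem card_eq (h : PP H K) : Nat.card H = Nat.card K := by
  obtain ⟨g, rfl⟩ := h.conj
  exact (card_cj g H).symm

theorem bot_of_normal (h : PP H K) {X : Subgroup G} (h1 : X ≤ H)
    (h2 : H ≤ normalizer (X : Set G)) (h3 : K ≤ normalizer (X : Set G)) : X = ⊥ :=
  by_contra fun h4 => h.ne (eq_of_le_of_card_le (h3.trans (h.nH X h4 h1 h2)) h.card_eq.le).symm

theorem bot_of_le (h : PP H K) {p : ℕ} (h1 : pCoreOf p H ≤ pCoreOf p K) : pCoreOf p H = ⊥ := by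
  have h2 : Nat.card (pCoreOf p K) = Nat.card (pCoreOf p H) := by
    obtain ⟨g, rfl⟩ := h.conj
    rw [← cj_pCoreOf, card_cj]
  exact h.bot_of_normal (pCoreOf_le H) (le_normalizer_pCoreOf H)
    (eq_of_le_of_card_le h1 h2.le ▸ le_normalizer_pCoreOf K)

theorem core_ne_bot (h : PP H K) {p : ℕ} (h1 : pCoreOf p H ≠ ⊥) : pCoreOf p K ≠ ⊥ := by
  obtain ⟨g, rfl⟩ := h.conj
  rwa [← cj_pCoreOf, ne_eq, cj_eq_bot]

theorem relIndex_eq (h : PP H K) : (K ⊓ H).relIndex K = (H ⊓ K).relIndex H := by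
  have h1 := card_mul_relIndex (inf_le_left : H ⊓ K ≤ H)
  have h2 := card_mul_relIndex (inf_le_left : K ⊓ H ≤ K)
  rw [← h.card_eq, ← h1, inf_comm K] at h2
  rw [inf_comm K]
  exact Nat.eq_of_mul_eq_mul_left Nat.card_pos h2

end PP

/-- The second core. -/
def rc2 (H K : Subgroup G) : Subgroup G := rc H (rc H (H ⊓ K) ⊓ rc K (K ⊓ H))

theorem rc2_le_left (H K : Subgroup G) : rc2 H K ≤ rc H (H ⊓ K) := (rc_le _ _).trans inf_le_left
theorem rc2_le_right (H K : Subgroup G) : rc2 H K ≤ rc K (K ⊓ H) := (rc_le _ _).trans inf_le_right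
theorem rc2_le (H K : Subgroup G) : rc2 H K ≤ H ⊓ K := (rc2_le_left H K).trans (rc_le _ _)
theorem le_normalizer_rc2 (H K : Subgroup G) : H ≤ normalizer (rc2 H K : Set G) :=
  le_normalizer_rc _ _

theorem sn_rc2 (H K : Subgroup G) : SN K (rc2 H K) :=
  (SN.of_normal ((rc_le _ _).trans inf_le_left) (le_normalizer_rc K (K ⊓ H))).trans
    (SN.of_normal (rc2_le_right H K)
      (((rc_le _ _).trans inf_le_right).trans (le_normalizer_rc2 H K)))

namespace PP

variable [Finite G] {H K : Subgroup G}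

theorem relIndex_rc2 (h : PP H K) {d : ℕ} (hd : (H ⊓ K).relIndex H = d) :
    (rc2 H K).relIndex H ∣ d.factorial * (d - 1).factorial ^ d := by
  have h1 := relIndex_rc_dvd_pow (rc_le H (H ⊓ K)) (le_normalizer_rc H (H ⊓ K))
    (inf_le_right.trans (le_normalizer_rc K (K ⊓ H))) inf_le_left
  have h2 := relIndex_rc_dvd_factorial K (K ⊓ H)
  have h3 : d ≠ 0 := hd ▸ index_ne_zero_of_finite
  rw [← relIndex_mul_relIndex _ _ _ (rc_le K (K ⊓ H)) inf_le_left, h.relIndex_eq, hd,
    ← Nat.mul_factorial_pred h3, mul_comm, Nat.mul_dvd_mul_iff_left (by omega), inf_comm K] at h2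
  rw [← relIndex_mul_relIndex _ _ _ (rc2_le_left H K) ((rc_le _ _).trans inf_le_left), mul_comm]
  rw [hd] at h1
  exact mul_dvd_mul (hd ▸ relIndex_rc_dvd_factorial H (H ⊓ K))
    (h1.trans (pow_dvd_pow_of_dvd (by rwa [inf_comm H K] at h2 ⊢) d))

theorem isPGroup_rc2 (h : PP H K) {p : ℕ} [Fact p.Prime] (hp : pCoreOf p H ≠ ⊥) :
    IsPGroup p (rc2 H K) := isPGroup_of_pResOf_eq_bot (by_contra fun hA => by
  have h1 : normalizer (pResOf p (rc2 H K) : Set G) ≤ H := h.nH _ hA
    ((pResOf_le _).trans ((rc2_le H K).trans inf_le_left))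
    ((le_normalizer_rc2 H K).trans (normalizer_le_normalizer_pResOf _))
  have h2 : pCoreOf p (H ⊓ K) ≤ rc K (K ⊓ H) := le_rc fun k hk => by
    have h3 : SN (H ⊓ K) (cj k (rc2 H K)) :=
      (cj_eq_smul k _ ▸ (sn_rc2 H K).conj_of_mem hk).mono
        ((cj_le_of_mem_normalizer (le_normalizer_rc K _ hk) (rc2_le_right H K)).trans
          ((rc_le _ _).trans (inf_comm K H).le)) inf_le_right
    have h4 := pCoreOf_le_normalizer_pResOf (p := p) h3
    rw [← cj_pResOf, ← cj_normalizer] at h4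
    rw [cj_inf, cj_eq_of_mem hk]
    exact le_inf ((pCoreOf_le _).trans inf_le_right) (h4.trans (cj_mono k h1))
  have h3 : pCoreOf p (H ⊓ K) ≤ pCoreOf p K :=
    (le_pCoreOf h2 (((rc_le _ _).trans (inf_comm K H).le).trans (le_normalizer_pCoreOf _))
      (isPGroup_pCoreOf _)).trans
      (pCoreOf_le_of_le_normalizer ((rc_le _ _).trans inf_le_left) (le_normalizer_rc _ _))
  have h4 : pCoreOf p K ≤ H := (pCoreOf_le_normalizer_pResOf (sn_rc2 H K)).trans h1
  have h5 := isPGroup_sup (isPGroup_pCoreOf K) (isPGroup_pCoreOf (p := p) H)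
    (h4.trans (le_normalizer_pCoreOf H))
  refine hp (h.bot_of_le (by_contra fun h6 => ?_))
  refine (lt_inf_normalizer h5 (left_lt_sup.2 h6)).not_ge
    ((inf_le_inf_left _ (h.symm.nH _ (h.core_ne_bot hp) (pCoreOf_le K)
      (le_normalizer_pCoreOf K))).trans ?_)
  rw [inf_sup_of_le_normalizer (h4.trans (le_normalizer_pCoreOf H)) (pCoreOf_le K)]
  refine sup_le le_rfl (le_trans ?_ h3)
  exact (le_inf inf_le_left (inf_le_inf_right K (pCoreOf_le H))).trans (pCoreOf_inf_le inf_le_left))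

theorem layer_le (h : PP H K) (h2 : rc2 H K ≠ ⊥) {L : Subgroup G} (hL : L ≤ K)
    (hc : IsComponent (L.subgroupOf K)) : L ≤ H := by
  rcases Comp2.component_in_le_or_commutator_eq_bot hL hc ((rc2_le H K).trans inf_le_right)
    (sn_rc2 H K).isSubnormal_subgroupOf with h3 | h3
  · exact h3.trans ((rc2_le H K).trans inf_le_left)
  · exact ((commutator_eq_bot_iff_le_centralizer.1 h3).trans (centralizer_le_normalizer _)).trans
      (h.nH _ h2 ((rc2_le H K).trans inf_le_left) (le_normalizer_rc2 H K))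

theorem layer_le_layer (h : PP H K) (h1 : rc2 H K ≠ ⊥) (h2 : rc2 K H ≠ ⊥) :
    (layer K).map K.subtype ≤ (layer H).map H.subtype := by
  refine Comp2.layer_map_subtype_le_iff.2 fun L hL hc => ?_
  have h3 := h.layer_le h1 hL hc
  have h4 : L ≤ H ⊓ K := le_inf h3 hL
  have h5 := Comp2.component_subgroupOf_of_le h4 inf_le_right hc
  have h6 : ⁅L, L⁆ = L := by
    have := congrArg (map K.subtype) (Comp2.component_commutator_self hc)
    rwa [map_commutator, subgroupOf_map_subtype, inf_eq_left.2 hL] at this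
  have h7 : (layer H).map H.subtype ≤ H ⊓ K := le_inf (map_subtype_le _)
    (Comp2.layer_map_subtype_le_iff.2 fun M hM hM' => h.symm.layer_le h2 hM hM')
  refine (Comp2.component_in_le_or_commutator_eq_bot_of_normalizes h4 h5 h7
    (h3.trans (le_normalizer_map_subtype _))).resolve_right fun h8 => ?_
  have h9 : ∀ q : ℕ, q.Prime → ⁅pCoreOf q H, L⁆ = ⊥ := fun q hq => by
    have := Fact.mk hq
    by_cases h10 : pCoreOf q H = ⊥
    · rw [h10, commutator_bot_left]
    have h11 := h.symm.isPGroup_rc2 (h.core_ne_bot h10)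
    have h12 : ⁅L, pCoreOf q (H ⊓ K)⁆ = ⊥ := Comp2.component_in_commutator_eq_bot_of_isSolvable h4 h5
      (pCoreOf_le _) (have := (isPGroup_pCoreOf (p := q) (H ⊓ K)).isNilpotent; inferInstance)
      (h4.trans (le_normalizer_pCoreOf _))
    rw [commutator_comm, commutator_eq_bot_iff_le_centralizer] at h12
    refine Comp2.axb_perfect h11 (isPGroup_pCoreOf H) h6
      ((rc2_le K H).trans (inf_le_right.trans (le_normalizer_pCoreOf H)))
      (h3.trans (le_normalizer_pCoreOf H)) (commutator_eq_bot_iff_le_centralizer.2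
        ((le_pCoreOf ((rc2_le K H).trans (inf_comm K H).le)
          (inf_le_right.trans (le_normalizer_rc2 K H)) h11).trans h12)) (le_trans ?_ h12)
    refine le_trans (le_inf inf_le_left (le_inf (inf_le_left.trans (pCoreOf_le H)) ?_))
      (pCoreOf_inf_le inf_le_left)
    exact inf_le_right.trans ((centralizer_le_normalizer _).trans
      (h.symm.nH _ h2 ((rc2_le K H).trans inf_le_left) (le_normalizer_rc2 K H)))
  have h10 : L ≤ (fittingSubgroup H).map H.subtype := by
    refine le_trans (le_inf h3 (le_centralizer_iff.1 ?_)) (Comp2.inf_centralizer_genFitting_map_le H)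
    rw [Comp2.genFitting_map_subtype, Core.fitting_eq_iSup_pCore, Subgroup.map_iSup]
    exact sup_le (commutator_eq_bot_iff_le_centralizer.1 (commutator_comm L _ ▸ h8))
      (iSup_le fun q => commutator_eq_bot_iff_le_centralizer.1 (h9 q q.2))
  have : Group.IsSolvable ((fittingSubgroup H).map H.subtype) :=
    have := Core.fitting_solvable (G := H)
    solvable_of_surjective (MonoidHom.subgroupMap_surjective H.subtype _)
  have : Group.IsSolvable L := solvable_of_solvable_injective (inclusion_injective h10)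
  have h11 := Comp2.component_in_commutator_eq_bot_of_isSolvable hL hc hL this le_normalizer
  refine Comp2.component_ne_bot hc ?_
  rw [← h6, h11, bot_subgroupOf]

/-- The Thompson–Wielandt theorem. -/
theorem tw (h : PP H K) (h1 : rc2 H K ≠ ⊥) (h2 : rc2 K H ≠ ⊥) :
    ∃ p : ℕ, p.Prime ∧ generalizedFittingSubgroup H = pCore p H ∧ IsPGroup p (rc2 H K) := by
  have h3 : layer H = ⊥ := (map_eq_bot_iff_of_injective _ H.subtype_injective).1
    (h.bot_of_normal (map_subtype_le _) (le_normalizer_map_subtype _)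
      ((h.layer_le_layer h1 h2).antisymm (h.symm.layer_le_layer h2 h1) ▸
        le_normalizer_map_subtype _))
  have : Nontrivial H := (nontrivial_iff_ne_bot H).2 fun h4 =>
    h1 (eq_bot_iff.2 (((rc2_le H K).trans inf_le_left).trans h4.le))
  have h4 := Comp2.genFitting_ne_bot (G := H)
  rw [Comp2.genFitting_eq_fitting_iff.2 h3, Core.fitting_eq_iSup_pCore] at h4 ⊢
  obtain ⟨p, hp⟩ := not_forall.1 (mt iSup_eq_bot.2 h4)
  have := Fact.mk p.2
  have h5 := h.isPGroup_rc2 (mt pCoreOf_eq_bot_iff.1 hp)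
  refine ⟨p, p.2, le_antisymm (iSup_le fun q => ?_) (le_iSup (fun q : Nat.Primes =>
    pCore (q : ℕ) H) p), h5⟩
  by_cases h6 : q = p
  · rw [h6]
  · have := Fact.mk q.2
    refine (by_contra fun h7 => h1 ?_ : pCore (q : ℕ) H = ⊥).le.trans bot_le
    exact disjoint_self.1 (IsPGroup.disjoint_of_ne _ _ (mt Subtype.ext h6) _ _
      (h.isPGroup_rc2 (mt pCoreOf_eq_bot_iff.1 h7)) h5)

theorem card_dvd (h : PP H K) {d : ℕ} (hd : (H ⊓ K).relIndex H = d)
    (h1 : rc2 H K = ⊥ ∨ rc2 K H = ⊥) : Nat.card H ∣ d.factorial * (d - 1).factorial ^ d := by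
  rcases h1 with h1 | h1
  · simpa only [h1, relIndex_bot_left] using h.relIndex_rc2 hd
  · simpa only [h1, relIndex_bot_left, h.card_eq] using h.symm.relIndex_rc2 (h.relIndex_eq.trans hd)

end PP

open MulAction in
theorem pp_stabilizer [Finite G] {Ω : Type*} [MulAction G Ω] [FaithfulSMul G Ω]
    [IsPreprimitive G Ω] {a b : Ω} {d : ℕ} (hd : Nat.card (orbit (stabilizer G a) b) = d)
    (h2 : 2 ≤ d) : PP (stabilizer G a) (stabilizer G b) ∧
      (stabilizer G a ⊓ stabilizer G b).relIndex (stabilizer G a) = d := by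
  have h1 : (stabilizer G a ⊓ stabilizer G b).relIndex (stabilizer G a) = d := by
    rw [inf_relIndex_left, ← hd, Nat.card_coe_set_eq, ← index_stabilizer]
    rfl
  have h3 : stabilizer G a ≠ stabilizer G b := fun h => by
    rw [← h, inf_idem, relIndex_self] at h1
    omega
  have : Nontrivial Ω := ⟨a, b, fun h => h3 (h ▸ rfl)⟩
  obtain ⟨g, rfl⟩ := exists_smul_eq G a b
  refine ⟨⟨h3, ⟨g, (stabilizer_smul_eq_stabilizer_map_conj g a).symm⟩, fun X h4 h5 h6 => ?_⟩, h1⟩
  rcases ((isCoatom_stabilizer_iff_preprimitive G a).2 inferInstance).le_iff.1 h6 with h7 | h7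
  · refine absurd (eq_bot_iff.2 fun x hx => eq_of_smul_eq_smul (α := Ω) fun y => ?_) h4
    obtain ⟨k, rfl⟩ := exists_smul_eq G a y
    have := h5 (inv_conj_mem_of_mem_normalizer (h7.ge (mem_top k)) hx)
    rw [mem_stabilizer_iff, mul_smul, mul_smul, inv_smul_eq_iff] at this
    rw [this, one_smul]
  · exact h7.le

end Cfsg.Agent.Perm
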