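import Mathlib
import Cfsg.Agent.Perm.Small3
import Cfsg.Agent.Perm.PFixed

/-! There is no simple group of order 5400. -/

set_option autoImplicit false

open Subgroup MulAction
open scoped Pointwise

namespace Cfsg.Agent.Perm

theorem sylow_450 {N : Type*} [Group N] [Finite N] [Fact (Nat.Prime 5)] (h : Nat.card N = 450)
    (P Q : Sylow 5 N) : P = Q := by
  have : Fact (Nat.Prime 2) := ⟨Nat.prime_two⟩
  obtain ⟨T⟩ : Nonempty (Sylow 2 N) := inferInstance
  have h1 : Nat.card T = 2 := sylow_card_eq T (a := 1) (m := 225) h (by norm_num)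
  have h2 := IsCyclic.isComplement' (P := T) (by rw [h]; norm_num) (isCyclic_of_prime_card h1)
  set K := (MonoidHom.transferSylow T _).ker
  have h3 : K.index = 2 := h2.symm.index_eq_card.trans h1
  have h4 : ∀ R : Sylow 5 N, (R : Subgroup N) ≤ K := fun R => Core.le_of_coprime_index (by
    rw [h3, sylow_card_eq R (a := 2) (m := 18) h (by norm_num)]; norm_num)
  have h5 : Nat.card K = 5 ^ 2 * 9 := by
    have := K.card_mul_index
    rw [h3] at this
    omega
  have h6 := Nat.le_of_dvd (by norm_num) (card_sylow_dvd h5 (by norm_num))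
  have h7 := card_sylow_dvd h5 (by norm_num)
  have h8 : Nat.card (Sylow 5 K) % 5 = 1 := card_sylow_modEq_one 5 K
  have h9 : Nat.card (Sylow 5 K) = 1 := by
    generalize Nat.card (Sylow 5 K) = n at *
    interval_cases n <;> omega
  have := (Nat.card_eq_one_iff_unique.mp h9).1
  exact Sylow.subtype_injective (Subsingleton.elim (P.subtype (h4 P)) (Q.subtype (h4 Q)))

theorem ne_5400 {G : Type*} [Group G] [Finite G] [IsSimpleGroup G] (hG : ¬ IsMulCommutative G) :
    Nat.card G ≠ 5400 := by
  intro h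
  have : Fact (Nat.Prime 5) := ⟨Nat.prime_five⟩
  have : Fact (Nat.Prime 3) := ⟨Nat.prime_three⟩
  obtain ⟨P⟩ : Nonempty (Sylow 5 G) := inferInstance
  have hc : ∀ R : Sylow 5 G, Nat.card R = 5 ^ 2 := fun R =>
    sylow_card_eq R (m := 216) h (by norm_num)
  have hab : ∀ R : Sylow 5 G, (R : Subgroup G) ≤ centralizer ((R : Subgroup G) : Set G) :=
    fun R => have := IsPGroup.isMulCommutative_of_card_eq_prime_sq (hc R); le_centralizer _
  have h5 : 5 ∣ Nat.card G := by omega
  have h1 := card_sylow_mul P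
  have h2 : Nat.card (Sylow 5 G) = 36 := by
    have h2 := card_sylow_dvd (p := 5) (a := 2) (m := 216) h (by norm_num)
    have h3 : Nat.card (Sylow 5 G) % 5 = 1 := card_sylow_modEq_one 5 G
    have h4 := two_mul_card_dvd_factorial_sylow hG h5
    have h6 : Nat.card (Sylow 5 G) ≠ 216 := fun e => normalizer_not_le_centralizer hG P h5
      ((eq_of_le_of_card_ge le_normalizer (by rw [hc]; rw [e] at h1; omega)).ge.trans (hab P))
    have h7 := Nat.mem_divisors.mpr ⟨h2, by norm_num⟩
    rw [h] at h4
    revert h3 h4 h6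
    generalize Nat.card (Sylow 5 G) = n at h7 ⊢
    revert n
    decide +kernel
  obtain ⟨y, hy, hy3⟩ := exists_mem_orderOf_prime (normalizer ((P : Subgroup G) : Set G))
    Nat.prime_three (by rw [h2] at h1; omega)
  have fixP : ∀ g ∈ normalizer ((P : Subgroup G) : Set G), ∀ Q : Sylow 5 G,
      (P : Subgroup G) ⊓ (g • Q : Sylow 5 G) = MulAut.conj g • ((P : Subgroup G) ⊓ Q) :=
    fun g hg Q => by
      rw [smul_inf, ← Sylow.coe_subgroup_smul, ← Sylow.coe_subgroup_smul,
        Sylow.smul_eq_iff_mem_normalizer.mpr hg]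
  have h3 : 25 ∣ {Q : Sylow 5 G | (P : Subgroup G) ⊓ Q = ⊥}.ncard :=
    dvd_ncard_of_forall_orbit (P : Subgroup G) _ (Set.toFinite _) (fun g hg Q hQ => by
      rw [Set.mem_setOf_eq, fixP g (le_normalizer hg), hQ, smul_bot]) fun Q hQ => by
      rw [← index_stabilizer, stabilizer_sylow, ← inf_subgroupOf_left, hQ, bot_subgroupOf,
        index_bot, hc]
      rfl
  have hP0 : (P : Subgroup G) ≠ ⊥ := sylow_ne_bot P h5
  have h4 := Set.ncard_add_ncard_compl (insert P {Q : Sylow 5 G | (P : Subgroup G) ⊓ Q = ⊥})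
  rw [Set.ncard_insert_of_notMem (by simpa using hP0), h2] at h4
  obtain ⟨Q, hQ, hQ'⟩ := exists_fixed_of_not_dvd (p := 3) (zpowers y)
    (IsPGroup.of_card (n := 1) (by rw [Nat.card_zpowers, hy3]; rfl))
    (insert P {Q : Sylow 5 G | (P : Subgroup G) ⊓ Q = ⊥})ᶜ (fun g hg Q hQ hQ' => hQ (by
      have hg := zpowers_le.mpr hy hg
      rcases hQ' with e | e
      · exact Or.inl (MulAction.injective g (e.trans
          (Sylow.smul_eq_iff_mem_normalizer.mpr hg).symm))
      · rw [Set.mem_setOf_eq, fixP g hg, smul_eq_iff_eq_inv_smul, smul_bot] at e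
        exact Or.inr e)) (by omega)
  simp only [Set.mem_compl_iff, Set.mem_insert_iff, Set.mem_setOf_eq, not_or] at hQ
  set N := normalizer (((P : Subgroup G) ⊓ Q : Subgroup G) : Set G)
  have hPN : (P : Subgroup G) ≤ N := (hab P).trans ((centralizer_le (SetLike.coe_subset_coe.mpr
    inf_le_left)).trans (centralizer_le_normalizer _))
  have hQN : (Q : Subgroup G) ≤ N := (hab Q).trans ((centralizer_le (SetLike.coe_subset_coe.mpr
    inf_le_right)).trans (centralizer_le_normalizer _))
  have hyN : y ∈ N := by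
    have := fixP y hy Q
    rw [hQ' y (mem_zpowers y)] at this
    exact (conjAct_pointwise_smul_iff (g := y)).mp this.symm
  have h6 := two_mul_card_dvd_factorial hG N (normalizer_ne_top hQ.2 fun e => sylow_ne_top hG P
    (eq_top_iff.mpr (e.ge.trans inf_le_left)))
  have h7 : 10 ≤ N.index := by
    by_contra h7
    have := h6.trans (Nat.factorial_dvd_factorial (show N.index ≤ 9 by omega))
    rw [h] at this
    revert this
    decide
  have h8 := N.card_mul_index
  have h9 := card_sylow_mul (P.subtype hPN)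
  have h10 : Nat.card (Sylow 5 N) % 5 = 1 := card_sylow_modEq_one 5 N
  have hne : P.subtype hPN ≠ Q.subtype hQN := fun e => hQ.1 (Sylow.subtype_injective e).symm
  have h11 : 1 < Nat.card (Sylow 5 N) := Finite.one_lt_card_iff_nontrivial.mpr ⟨_, _, hne⟩
  have h12 : 75 ∣ Nat.card (normalizer ((P.subtype hPN : Subgroup N) : Set N)) := by
    refine Nat.Coprime.mul_dvd_of_dvd_of_dvd (m := 25) (n := 3) (by norm_num) ?_ ?_
    · have := card_dvd_of_le (le_normalizer (H := (P.subtype hPN : Subgroup N)))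
      rwa [Sylow.coe_subtype, Core.card_subgroupOf_of_le hPN, hc] at this
    · rw [← hy3, ← orderOf_mk y hyN]
      refine Subgroup.orderOf_dvd_natCard _ ?_
      rw [Sylow.coe_subtype, ← subgroupOf_normalizer_eq hPN]
      exact hy
  obtain ⟨k, hk⟩ := h12
  have h13 : k ≠ 0 := by rintro rfl; exact Nat.card_pos.ne' hk
  rw [hk] at h9
  have h14 : Nat.card N ≤ 540 := by nlinarith
  have h15 : Nat.card (Sylow 5 N) = 6 := by
    have : Nat.card (Sylow 5 N) * 75 ≤ 540 := by nlinarith [Nat.pos_of_ne_zero h13]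
    omega
  rw [h15] at h9
  exact hne (sylow_450 (by omega) _ _)

end Cfsg.Agent.Perm
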