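import Mathlib
import Cfsg.Agent.Perm.Comp
import Cfsg.Agent.H2.Primitive

/-!
Components and core-free maximal subgroups.
-/

set_option autoImplicit false
set_option linter.unusedSectionVars false

namespace Cfsg.Agent.Perm

open Subgroup LocalEven

variable {G : Type*} [Group G] [Finite G] {U T T' : Subgroup G}

theorem comp_cent (hF : fittingSubgroup G = ⊥) (hT : IsComponent T) {t : G}
    (ht : t ∈ T) (h : ∀ u ∈ T, Commute u t) : t = 1 :=
  mem_bot.1 (hF ▸ Comp2.component_inf_centralizer_le_fitting hT ⟨ht, fun u hu => (h u hu).eq⟩)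

theorem comp_eq_of_conj (hF : fittingSubgroup G = ⊥) (hT : IsComponent T) {P : Subgroup G}
    (h : ∀ t ∈ T, ∀ x ∈ T, x ∈ P → t * x * t⁻¹ ∈ P) {a : G} (ha : a ∈ T) (haP : a ∈ P)
    (ha1 : a ≠ 1) : T ≤ P := fun t ht => by
  have := comp_simple hF hT
  have h1 : (P.subgroupOf T).Normal := ⟨fun n hn x => h x x.2 n n.2 hn⟩
  exact (h1.eq_bot_or_eq_top.resolve_left fun e =>
    ha1 (congrArg Subtype.val (mem_bot.1 (e.le (show (⟨a, ha⟩ : T) ∈ _ from haP))))).ge
      (mem_top (⟨t, ht⟩ : T))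

theorem cf_not_le (hU : H2.CoreFree U) (hT : IsComponent T) : ¬ T ≤ U := fun h => by
  have h1 := hU.sup_eq_top (N := layer G) inferInstance fun e => Comp2.component_ne_bot hT
    (eq_bot_iff.2 (e ▸ Comp2.component_le_layer hT))
  refine Comp2.component_ne_bot hT (eq_bot_iff.2 (hU.2 ▸ fun t ht g => ?_))
  obtain ⟨u, hu, e, he, rfl⟩ := (mem_sup_iff_of_le_normalizer le_normalizer_of_normal).1
    ((sup_comm _ _).trans h1 |>.ge (mem_top g))
  have := mul_mem (mul_mem hu (h (conj_mem_of_mem_normalizer (Comp2.layer_le_normalizer hT he) ht)))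
    (inv_mem hu)
  convert this using 1
  group

theorem cf_or (hU : H2.CoreFree U) (P : Subgroup G → G → Prop)
    (hP : ∀ k ∈ U, ∀ S x, IsComponent S → x ∈ S → P S x → P (cj k S) (k * x * k⁻¹)) :
    (∀ S x, IsComponent S → x ∈ S → P S x → x ∈ U) ∨ ∀ e ∈ layer G,
      ∃ r ∈ closure {x : G | ∃ S, IsComponent S ∧ x ∈ S ∧ P S x}, ∃ u ∈ U,
        u ∈ layer G ∧ r * u = e := by
  let R := closure {x : G | ∃ S, IsComponent S ∧ x ∈ S ∧ P S x}
  have hR : R ≤ layer G := (closure_le _).2 fun x ⟨S, hS, hx, _⟩ => Comp2.component_le_layer hS hx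
  have hRn : U ≤ normalizer (R : Set G) := le_normalizer_of_cj_le fun k hk => by
    rw [cj_closure]
    refine closure_mono ?_
    rintro _ ⟨x, ⟨S, hS, hx, h⟩, rfl⟩
    exact ⟨cj k S, Comp2.component_conj hS k, conj_mem_cj hx, hP k hk S x hS hx h⟩
  by_cases h : R ≤ U
  · exact Or.inl fun S x hS hx h1 => h (subset_closure ⟨S, hS, hx, h1⟩)
  refine Or.inr fun e he => ?_
  obtain ⟨r, hr, u, hu, rfl⟩ := (mem_sup_iff_of_le_normalizer' hRn).1
    ((H2.coatom_sup_eq_top hU.1 h).ge (mem_top e))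
  exact ⟨r, hr, u, hu, (mul_mem_cancel_left (hR hr)).1 he, rfl⟩

/-- If a component meets a core-free maximal subgroup, the intersection is self-normalizing. -/
theorem cf_norm (hU : H2.CoreFree U) (hF : fittingSubgroup G = ⊥) (hT : IsComponent T) {a : G}
    (ha : a ∈ T) (haU : a ∈ U) (ha1 : a ≠ 1) {g : G} (hg : g ∈ T)
    (hn : ∀ x ∈ T, x ∈ U → g * x * g⁻¹ ∈ U) : g ∈ U := by
  rcases cf_or hU (fun S g => g ∈ normalizer ((S ⊓ U : Subgroup G) : Set G)) (fun k hk S x _ _ h => by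
    rw [← cj_eq_of_mem hk, ← cj_inf, ← cj_normalizer]
    exact conj_mem_cj h) with h | h
  · exact h T g hT hg (mem_normalizer_of_cj_le (cj_le_iff'.2 fun x hx =>
      mem_inf.2 ⟨mul_mem (mul_mem hg hx.1) (inv_mem hg), hn x hx.1 hx.2⟩))
  refine absurd (comp_eq_of_conj hF hT (fun t ht x hx hx' => ?_) ha haU ha1) (cf_not_le hU hT)
  obtain ⟨r, hr, u, hu, h1, rfl⟩ := h t (Comp2.component_le_layer hT ht)
  refine (conj_mem_of_mem_normalizer (H := T ⊓ U) (mul_mem ((closure_le _).2 ?_ hr) ?_) ⟨hx, hx'⟩).2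
  · rintro y ⟨S, hS, hy, h2⟩
    by_cases h3 : S = T
    · exact h3 ▸ h2
    · exact centralizer_le_normalizer _ fun z hz => (comp_commute hS hT h3 hy hz.1).eq.symm
  · exact mem_normalizer_of_cj_le (cj_le_iff'.2 fun z hz =>
      mem_inf.2 ⟨conj_mem_of_mem_normalizer (Comp2.layer_le_normalizer hT h1) hz.1,
        mul_mem (mul_mem hu hz.2) (inv_mem hu)⟩)

/-- If `U ∩ E` is not the product of its intersections with the components, it is subdirect. -/
theorem cf_subdirect (hU : H2.CoreFree U) (hF : fittingSubgroup G = ⊥) {S : Subgroup G}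
    (hS : IsComponent S) {a c : G} (ha : a ∈ S) (hc : c ∈ layer G) (hc' : ∀ u ∈ S, Commute u c)
    (hac : a * c ∈ U) (haU : a ∉ U) (hT : IsComponent T) {t : G} (ht : t ∈ T) :
    ∃ c ∈ layer G, (∀ u ∈ T, Commute u c) ∧ t * c ∈ U := by
  rcases cf_or hU (fun S x => ∃ c ∈ layer G, (∀ u ∈ S, Commute u c) ∧ x * c ∈ U)
    (fun k hk S x _ _ ⟨c, h1, h2, h3⟩ => ⟨k * c * k⁻¹,
      (inferInstance : (layer G).Normal).conj_mem c h1 k, fun u hu => by
        obtain ⟨y, hy, rfl⟩ := mem_cj'.1 hu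
        exact (h2 y hy).map (MulAut.conj k), by
        convert mul_mem (mul_mem hk h3) (inv_mem hk) using 1; group⟩) with h | h
  · exact absurd (h S a hS ha ⟨c, hc, hc', hac⟩) haU
  let Q : Subgroup G :=
    { carrier := {y | ∃ x ∈ T, ∃ c ∈ layer G, ∃ d ∈ layer G, (∀ u ∈ T, Commute u c) ∧
        (∀ u ∈ T, Commute u d) ∧ x * c ∈ U ∧ x * d = y}
      one_mem' := ⟨1, one_mem _, 1, one_mem _, 1, one_mem _, fun u _ => Commute.one_right u,
        fun u _ => Commute.one_right u, by simp, by simp⟩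
      mul_mem' := by
        rintro _ _ ⟨x, hx, c, hc, d, hd, h1, h2, h3, rfl⟩ ⟨y, hy, c', hc', d', hd', h4, h5, h6, rfl⟩
        exact ⟨_, mul_mem hx hy, _, mul_mem hc hc', _, mul_mem hd hd',
          fun u hu => (h1 u hu).mul_right (h4 u hu), fun u hu => (h2 u hu).mul_right (h5 u hu),
          (h1 y hy).mul_mul_mul_comm x c' ▸ mul_mem h3 h6, (h2 y hy).mul_mul_mul_comm x d'⟩
      inv_mem' := by
        rintro _ ⟨x, hx, c, hc, d, hd, h1, h2, h3, rfl⟩
        exact ⟨_, inv_mem hx, _, inv_mem hc, _, inv_mem hd, fun u hu => (h1 u hu).inv_right,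
          fun u hu => (h2 u hu).inv_right, by
            rw [← mul_inv_rev, ← (h1 x hx).eq]; exact inv_mem h3, by
            rw [← mul_inv_rev, ← (h2 x hx).eq]⟩ }
  obtain ⟨r, hr, u, hu, h1, h2⟩ := h t (Comp2.component_le_layer hT ht)
  obtain ⟨x, hx, c, hc, d, hd, h3, h4, h5, h6⟩ : t ∈ Q := by
    refine h2 ▸ mul_mem ((closure_le _).2 ?_ hr) ?_
    · rintro y ⟨S, hS, hy, c, h3, h4, h5⟩
      by_cases h6 : S = T
      · subst h6
        exact ⟨y, hy, c, h3, 1, one_mem _, h4, fun u _ => Commute.one_right u, h5, mul_one y⟩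
      · exact ⟨1, one_mem _, 1, one_mem _, y, Comp2.component_le_layer hS hy,
          fun u _ => Commute.one_right u, fun u hu => (comp_commute hS hT h6 hy hu).symm, by simp,
          one_mul y⟩
    · obtain ⟨x, hx, c, h3, h4, rfl⟩ := layer_decomp hT h1
      exact ⟨x, hx, c, h3, c, h3, h4, h4, hu, rfl⟩
  rw [comp_cent hF hT ((mul_mem_cancel_left hx).1 (h6 ▸ ht)) h4, mul_one] at h6
  exact ⟨c, hc, h3, h6 ▸ h5⟩

theorem cf_diag (hU : H2.CoreFree U) (hF : fittingSubgroup G = ⊥) (hT : IsComponent T)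
    (hT' : IsComponent T') (hne : T ≠ T') {a b : G} (ha : a ∈ T) (hb : b ∈ T') (hab : a * b ∈ U)
    (haU : a ∉ U) {t : G} (ht : t ∈ T) : ∃ t' ∈ T', t * t' ∈ U := by
  let P : Subgroup G :=
    { carrier := {x | x ∈ T ∧ ∃ y ∈ T', x * y ∈ U}
      one_mem' := ⟨one_mem _, 1, one_mem _, by simp⟩
      mul_mem' := by
        rintro x y ⟨hx, c, hc, h1⟩ ⟨hy, d, hd, h2⟩
        exact ⟨mul_mem hx hy, _, mul_mem hc hd,
          (comp_commute hT hT' hne hy hc).mul_mul_mul_comm x d ▸ mul_mem h1 h2⟩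
      inv_mem' := by
        rintro x ⟨hx, c, hc, h1⟩
        exact ⟨inv_mem hx, _, inv_mem hc, by
          rw [← mul_inv_rev, ← (comp_commute hT hT' hne hx hc).eq]; exact inv_mem h1⟩ }
  refine (comp_eq_of_conj hF hT (P := P) (fun s hs x hx ⟨_, y, hy, h1⟩ => ?_) ha ⟨ha, b, hb, hab⟩
    (fun e => ?_) ht).2
  · obtain ⟨c, hc, h2, h3⟩ := cf_subdirect hU hF hT ha (Comp2.component_le_layer hT' hb)
      (fun u hu => comp_commute hT hT' hne hu hb) hab haU hT hs
    have h4 := conj_mem_of_mem_normalizer (Comp2.layer_le_normalizer hT' hc) hy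
    refine ⟨mul_mem (mul_mem hs hx) (inv_mem hs), _, h4, ?_⟩
    convert mul_mem (mul_mem h3 h1) (inv_mem h3) using 1
    rw [mul_assoc (s * x), (comp_commute hT hT' hne (inv_mem hs) h4).eq, mul_assoc s c,
      ← mul_assoc c, ← (h2 x hx).eq]
    group
  · exact haU (e ▸ one_mem U)

end Cfsg.Agent.Perm
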