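import Mathlib
import Cfsg.Agent.Perm.Jord2

/-!
Quasiprimitive groups with Jordan sets.
-/

set_option autoImplicit false
set_option linter.unusedSectionVars false

namespace Cfsg.Agent.Perm

open MulAction Set
open scoped Pointwise

variable {G α : Type*} [Group G] [MulAction G α]

/-- A faithful primitive proper quotient of an imprimitive quasiprimitive action. -/
theorem exists_quasi_quot [Finite G] [IsPretransitive G α] [Nontrivial α]
    (hqp : ∀ N : Subgroup G, N.Normal → N ≠ ⊥ → IsPretransitive N α) (hnp : ¬ IsPreprimitive G α) :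
    ∃ (M : Subgroup G) (π : α → G ⧸ M), (∀ (g : G) x, π (g • x) = g • π x) ∧
      Function.Surjective π ∧ (∀ x, ∃ y ≠ x, π y = π x) ∧ IsPreprimitive G (G ⧸ M) ∧
      FaithfulSMul G (G ⧸ M) := by
  obtain ⟨a, b, hab⟩ := exists_pair_ne α
  choose σ hσ using exists_smul_eq G a
  obtain ⟨M, hM, hle⟩ := (eq_top_or_exists_le_coatom (stabilizer G a)).resolve_left fun h =>
    hab ((h.ge (Subgroup.mem_top (σ b))).symm.trans (hσ b))
  have h1 : ∀ (g : G) x, ((σ (g • x) : G) : G ⧸ M) = g • ((σ x : G) : G ⧸ M) := fun g x =>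
    QuotientGroup.eq.2 (hle (by
      change ((σ (g • x))⁻¹ * (g * σ x)) • a = a
      rw [mul_smul, mul_smul, hσ, inv_smul_eq_iff, hσ]))
  have h2 : ((σ a : G) : G ⧸ M) = ((1 : G) : G ⧸ M) :=
    QuotientGroup.eq.2 (hle (by rw [mul_one]; exact inv_mem (hσ a)))
  have h3 : ∀ g : G, ((σ (g • a) : G) : G ⧸ M) = (g : G ⧸ M) := fun g => by
    rw [h1, h2]; exact congrArg _ (mul_one g)
  have : Nontrivial (G ⧸ M) := QuotientGroup.nontrivial_iff.2 hM.1
  refine ⟨M, fun x => σ x, h1, fun y => ?_, fun x => ?_,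
    (isCoatom_stabilizer_iff_preprimitive G ((1 : G) : G ⧸ M)).1 (by rwa [stabilizer_quotient]),
    ⟨fun h => (MonoidHom.ker_eq_bot_iff (toPermHom G (G ⧸ M))).1 ?_ (Equiv.ext h)⟩⟩
  · obtain ⟨g, rfl⟩ := QuotientGroup.mk_surjective y
    exact ⟨_, h3 g⟩
  · obtain ⟨m, hm, hm'⟩ := SetLike.exists_of_lt (hle.lt_of_ne fun h =>
      hnp ((isCoatom_stabilizer_iff_preprimitive G a).1 (h ▸ hM)))
    refine ⟨σ x • m • a, fun h => hm' (smul_left_cancel (σ x) (h.trans (hσ x).symm)), ?_⟩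
    simp only [← mul_smul, h3]
    exact QuotientGroup.eq.2 (by simpa using hm)
  · refine by_contra fun h => hM.1 (eq_top_iff.2 fun g _ => ?_)
    obtain ⟨n, hn⟩ := (hqp _ inferInstance h).exists_smul_eq a (g • a)
    have h4 := h1 n a
    rw [show (n : G) • a = g • a from hn, h3, h2,
      show (n : G) • ((1 : G) : G ⧸ M) = _ from congrArg (· ((1 : G) : G ⧸ M)) n.2] at h4
    simpa using QuotientGroup.eq.1 h4.symm

variable [Finite α] {β : Type*} [MulAction G β] [FaithfulSMul G β] {π : α → β}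

theorem JC.not_fiber (hπ : ∀ (g : G) x, π (g • x) = g • π x) (hs : Function.Surjective π)
    {Δ : Set α} (hΔ : JC G Δ) (hc : 2 ≤ Δᶜ.ncard) (c : β) : ∃ x ∉ Δ, π x ≠ c := by
  by_contra! h
  obtain ⟨a, ha⟩ : Δᶜ.Nonempty := nonempty_of_ncard_ne_zero (by omega)
  obtain ⟨g, h1, h2⟩ := hΔ.exists_move hc ha
  obtain rfl : g = 1 := eq_of_smul_eq_smul (α := β) fun y => by
    obtain ⟨x, rfl⟩ := hs y
    rw [one_smul, ← hπ]
    by_cases hx : x ∈ Δ
    · rw [h1 x hx]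
    · rw [h x hx, h (g • x) fun h3 => hx (smul_left_cancel g (h1 _ h3) ▸ h3)]
  exact h2 (one_smul ..)

theorem JC.mem_of_fiber (hπ : ∀ (g : G) x, π (g • x) = g • π x) (hs : Function.Surjective π)
    {Δ : Set α} (hΔ : JC G Δ) (hc : 2 ≤ Δᶜ.ncard) {x y : α} (hx : x ∈ Δ) (h : π y = π x) :
    y ∈ Δ := by_contra fun hy => by
  obtain ⟨z, hz, h1⟩ := hΔ.not_fiber hπ hs hc (π x)
  obtain ⟨g, h2, rfl⟩ := hΔ y hy z hz
  exact h1 (by rw [hπ, h, ← hπ, h2 x hx])

theorem ncard_preimage_equivariant [IsPretransitive G β] (hπ : ∀ (g : G) x, π (g • x) = g • π x)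
    [Finite β] (c : β) (S : Set β) : (π ⁻¹' S).ncard = S.ncard * (π ⁻¹' {c}).ncard := by
  have h1 : ∀ s ∈ S, (π ⁻¹' {s}).ncard = (π ⁻¹' {c}).ncard := fun s _ => by
    obtain ⟨g, rfl⟩ := exists_smul_eq G c s
    rw [← ncard_smul_set g (π ⁻¹' {c})]
    congr 1
    ext x
    rw [mem_smul_set_iff_inv_smul_mem, mem_preimage, mem_preimage, hπ, mem_singleton_iff,
      mem_singleton_iff, inv_smul_eq_iff]
  rw [← biUnion_of_singleton S, preimage_iUnion₂, (toFinite S).ncard_biUnion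
    (fun s _ => toFinite _) fun s _ t _ h => (disjoint_singleton.2 h).preimage π,
    finsum_mem_congr rfl h1, finsum_mem_eq_finite_toFinset_sum _ (toFinite S),
    Finset.sum_const, ← ncard_eq_toFinset_card, biUnion_of_singleton, smul_eq_mul]

theorem commutator_fix {g k : G} {A B I : Set α} (hg : ∀ z ∈ A, g • z = z)
    (hk : ∀ z ∈ B, k • z = z) (h : ∀ z ∉ I, z ∈ A ∨ z ∈ B) {w : α} (h1 : w ∉ I)
    (h2 : g⁻¹ • w ∉ I) (h3 : k⁻¹ • w ∉ I) : (g * k * g⁻¹ * k⁻¹) • w = w := by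
  have hg' : ∀ z ∈ A, g⁻¹ • z = z := fun z hz => inv_smul_eq_iff.2 (hg z hz).symm
  have hk' : ∀ z ∈ B, k⁻¹ • z = z := fun z hz => inv_smul_eq_iff.2 (hk z hz).symm
  simp only [mul_smul]
  rcases h w h1 with h4 | h4
  · rcases h _ h3 with h5 | h5
    · rw [hg' _ h5, smul_inv_smul, hg _ h4]
    · have h6 : k⁻¹ • w = w := ((smul_inv_smul k w).symm.trans (hk _ h5)).symm
      rw [h6] at h5 ⊢
      rw [hg' _ h4, hk _ h5, hg _ h4]
  · rw [hk' _ h4]
    rcases h _ h2 with h5 | h5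
    · have h6 : g⁻¹ • w = w := ((smul_inv_smul g w).symm.trans (hg _ h5)).symm
      rw [h6] at h5 ⊢
      rw [hk _ h4, hg _ h5]
    · rw [hk _ h5, smul_inv_smul]

theorem isPretransitive_of_quasi [FaithfulSMul G α]
    (hqp : ∀ N : Subgroup G, N.Normal → N ≠ ⊥ → IsPretransitive N α) {Δ : Set α} (hΔ : JC G Δ)
    (hc : 2 ≤ Δᶜ.ncard) : IsPretransitive G α := by
  obtain ⟨a, ha⟩ : Δᶜ.Nonempty := nonempty_of_ncard_ne_zero (by omega)
  obtain ⟨g, -, h2⟩ := hΔ.exists_move hc ha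
  refine ⟨fun x y => ?_⟩
  obtain ⟨n, hn⟩ := (hqp ⊤ inferInstance fun h => h2 (by
    rw [Subgroup.mem_bot.1 (h.le (Subgroup.mem_top g)), one_smul])).exists_smul_eq x y
  exact ⟨n, hn⟩

theorem JC.prim_of_quasi [Finite G] [FaithfulSMul G α]
    (hqp : ∀ N : Subgroup G, N.Normal → N ≠ ⊥ → IsPretransitive N α) {Δ : Set α} (hΔ : JC G Δ)
    (hc : 2 ≤ Δᶜ.ncard) (hlt : Δᶜ.ncard < Δ.ncard) : IsPreprimitive G α := by_contra fun hnp => by
  classical
  have := isPretransitive_of_quasi hqp hΔ hc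
  obtain ⟨a₀, ha₀⟩ : Δᶜ.Nonempty := nonempty_of_ncard_ne_zero (by omega)
  have : Nontrivial α := Finite.one_lt_card_iff_nontrivial.1 (hc.trans (ncard_le_card _))
  obtain ⟨M, π, hπ, hs, hf, _, _⟩ := exists_quasi_quot hqp hnp
  have := Fintype.ofFinite (G ⧸ M)
  have h1 : π ⁻¹' (π '' Δ) = Δ := (subset_preimage_image π Δ).antisymm'
    fun y ⟨x, hx, h⟩ => hΔ.mem_of_fiber hπ hs hc hx h.symm
  have h2 : ∀ x, π x ∈ π '' Δ ↔ x ∈ Δ := fun x => by rw [← mem_preimage, h1]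
  have h3 : JC G (π '' Δ) := fun x hx y hy => by
    obtain ⟨x, rfl⟩ := hs x
    obtain ⟨y, rfl⟩ := hs y
    obtain ⟨g, h3, rfl⟩ := hΔ x (mt (h2 x).2 hx) y (mt (h2 y).2 hy)
    exact ⟨g, by rintro _ ⟨z, hz, rfl⟩; rw [← hπ, h3 z hz], (hπ g x).symm⟩
  have h4 : 2 ≤ (π '' Δ)ᶜ.ncard := by
    obtain ⟨x, hx, h⟩ := hΔ.not_fiber hπ hs hc (π a₀)
    exact (one_lt_ncard (toFinite _)).2 ⟨_, mt (h2 x).1 hx, _, mt (h2 a₀).1 ha₀, h⟩
  have h5 : (π '' Δ)ᶜ.ncard < (π '' Δ).ncard := by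
    rw [← h1, ← preimage_compl, ncard_preimage_equivariant hπ (π a₀) (π '' Δ),
      ncard_preimage_equivariant hπ (π a₀) (π '' Δ)ᶜ] at hlt
    exact lt_of_mul_lt_mul_right hlt (Nat.zero_le _)
  have e1 := ncard_add_ncard_compl (π '' Δ)
  have h6 := h3.alt_le h4 h5
  have h7 := multi_of_alt_le h6
  obtain ⟨a, ha, u, hu, h8⟩ := exists_overlap_one (G := G) (Δ := π '' Δ)
    (nonempty_of_ncard_ne_zero (by omega)) (by omega)
    (isMultiplyPretransitive_of_le (n := Nat.card (G ⧸ M) - 2) (by omega) (by omega))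
  obtain ⟨a, rfl⟩ := hs a
  have h9 : ∀ x, π x ∈ u • π '' Δ ↔ x ∈ u • Δ := fun x => by
    rw [mem_smul_set_iff_inv_smul_mem, mem_smul_set_iff_inv_smul_mem, ← hπ, h2]
  obtain ⟨b, hb, hb'⟩ := hΔ.not_fiber hπ hs hc (π a)
  obtain ⟨c, hc1, hc'⟩ := (hΔ.smul u).not_fiber hπ hs
    (by rwa [← smul_set_compl, ncard_smul_set]) (π a)
  obtain ⟨g, hg, rfl⟩ := hΔ a (mt (h2 a).2 ha) b hb
  obtain ⟨k, hk, rfl⟩ := hΔ.smul u a (mt (h9 a).2 hu) c hc1
  have h10 : ∀ z, π z ≠ π a → z ∈ Δ ∨ z ∈ u • Δ := fun z hz =>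
    (h8 _ hz).imp (h2 z).1 (h9 z).1
  have h11 : (toPermHom G (G ⧸ M) (g * k * g⁻¹ * k⁻¹)).IsThreeCycle := by
    simp only [map_mul, map_inv]
    refine isThreeCycle_commutator (a := π a) (fun h => hb' ((hπ g a).trans h))
      (fun h => hc' ((hπ k a).trans h)) fun x hx => ?_
    obtain ⟨x, rfl⟩ := hs x
    exact (h10 x hx).imp (fun h => (hπ g x).symm.trans (congrArg π (hg x h)))
      fun h => (hπ k x).symm.trans (congrArg π (hk x h))
  have h12 : ∀ w, π w ∉ ({π a, π (g • a), π (k • a)} : Finset _) →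
      (g * k * g⁻¹ * k⁻¹) • w = w := fun w hw => by
    simp only [Finset.mem_insert, Finset.mem_singleton, not_or] at hw
    refine commutator_fix (I := {z | π z = π a}) hg hk h10 hw.1 (fun h => hw.2.1 ?_)
      fun h => hw.2.2 ?_
    · rw [hπ, ← h, hπ, smul_inv_smul]
    · rw [hπ, ← h, hπ, smul_inv_smul]
  have h13 : (toPermHom G (G ⧸ M) (g * k * g⁻¹ * k⁻¹)).support = {π a, π (g • a), π (k • a)} :=
    Finset.eq_of_subset_of_card_le (fun x hx => by_contra fun h => by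
      obtain ⟨x, rfl⟩ := hs x
      exact Equiv.Perm.mem_support.1 hx ((hπ _ x).symm.trans (congrArg π (h12 x h))))
      (h11.card_support ▸ Finset.card_le_three)
  have h14 : ∀ τ : Equiv.Perm (G ⧸ M), τ.IsThreeCycle → ∃ v : G, toPermHom G (G ⧸ M) v = τ ∧
      ∀ w, τ (π w) = π w → v • w = w := fun τ hτ => by
    obtain ⟨σ, hσ⟩ := isConj_iff.1 (alternatingGroup.isThreeCycle_isConj (by omega)
      (σ := ⟨_, h11.mem_alternatingGroup⟩) (τ := ⟨_, hτ.mem_alternatingGroup⟩) h11 hτ)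
    obtain ⟨v, hv⟩ := h6 σ.2
    have h15 : toPermHom G (G ⧸ M) (v * (g * k * g⁻¹ * k⁻¹) * v⁻¹) = τ := by
      rw [map_mul, map_mul _ v, map_inv, hv]; exact congrArg Subtype.val hσ
    refine ⟨_, h15, fun w hw => ?_⟩
    rw [mul_smul, mul_smul v, h12 _ (by
      rw [← h13, Equiv.Perm.notMem_support, hπ]
      refine smul_left_cancel v ?_
      rw [← h15] at hw
      simpa only [toPermHom_apply, toPerm_apply, mul_smul, smul_inv_smul] using hw), smul_inv_smul]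
  obtain ⟨a', ha', h15⟩ := hf a
  obtain ⟨⟨n, hn⟩, rfl⟩ := (hqp ((alternatingGroup _).comap (toPermHom G (G ⧸ M))) inferInstance
    fun h => h11.ne_one (by
      rw [Subgroup.mem_bot.1 (h.le (show g * k * g⁻¹ * k⁻¹ ∈ _ from h11.mem_alternatingGroup)),
        map_one])).exists_smul_eq a a'
  have h16 : ∀ x, toPermHom G (G ⧸ M) n x ≠ π a ↔ x ≠ π a := fun x =>
    not_congr (by rw [← h15, Subgroup.mk_smul, hπ]; exact (smul_left_cancel_iff n).trans <| by
                    rw [← hπ, show π (n • a) = π a from h15])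
  have h17 : ∀ x, toPermHom G (G ⧸ M) n x ≠ x → x ≠ π a := fun x hx h =>
    hx (by rw [h]; exact (hπ n a).symm.trans h15)
  have h18 : ∀ τ ∈ Subgroup.closure {σ : Equiv.Perm {x // x ≠ π a} | σ.IsThreeCycle},
      ∃ v : G, toPermHom G (G ⧸ M) v = Equiv.Perm.ofSubtype τ ∧ v • a = a := fun τ hτ => by
    induction hτ using Subgroup.closure_induction with
    | mem τ hτ =>
      obtain ⟨v, h19, h20⟩ := h14 (Equiv.Perm.ofSubtype τ)
        (Equiv.Perm.cycleType_ofSubtype.trans hτ)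
      exact ⟨v, h19, h20 a (Equiv.Perm.ofSubtype_apply_of_not_mem τ (not_not.2 rfl))⟩
    | one => exact ⟨1, by rw [map_one, map_one], one_smul ..⟩
    | mul _ _ _ _ h h' =>
      obtain ⟨v, h19, h20⟩ := h
      obtain ⟨w, h21, h22⟩ := h'
      exact ⟨v * w, by rw [map_mul, map_mul, h19, h21], by rw [mul_smul, h22, h20]⟩
    | inv _ _ h =>
      obtain ⟨v, h19, h20⟩ := h
      exact ⟨v⁻¹, by rw [map_inv, map_inv, h19], inv_smul_eq_iff.2 h20.symm⟩
  obtain ⟨v, h19, h20⟩ := h18 ((toPermHom G (G ⧸ M) n).subtypePerm h16) (by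
    rw [Equiv.Perm.closure_three_cycles_eq_alternating, Equiv.Perm.mem_alternatingGroup,
      Equiv.Perm.sign_subtypePerm _ _ h17]
    exact hn)
  rw [Equiv.Perm.ofSubtype_subtypePerm _ h17] at h19
  obtain rfl := toPerm_injective h19
  exact ha' h20

end Cfsg.Agent.Perm
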