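import Mathlib
import Cfsg.Agent.S0144
import Cfsg.Agent.Perm.PrimeDegree

/-! Permutation groups all of whose orbits are small are solvable. -/

set_option autoImplicit false

namespace Cfsg.Agent.Perm

open MulAction

theorem isSolvable_perm_of_card_le_four (α : Type*) [Finite α] (h : Nat.card α ≤ 4) :
    Group.IsSolvable (Equiv.Perm α) := by
  have : Nat.card (Equiv.Perm α) ∣ 2 ^ 3 * 3 ^ 1 := by
    rw [Nat.card_perm]; exact Nat.factorial_dvd_factorial h
  obtain ⟨a, b, ha, hb, e⟩ := (Nat.dvd_mul).mp this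
  obtain ⟨i, -, rfl⟩ := (Nat.dvd_prime_pow Nat.prime_two).mp ha
  obtain ⟨j, -, rfl⟩ := (Nat.dvd_prime_pow Nat.prime_three).mp hb
  exact S0144.result 2 3 i j Nat.prime_two Nat.prime_three e.symm

theorem isSolvable_of_invariant_sets {G α : Type*} [Group G] [MulAction G α] [FaithfulSMul G α]
    [Finite α] (h : ∀ x : α, ∃ S : SubMulAction G α, x ∈ S ∧ Group.IsSolvable (Equiv.Perm S)) :
    Group.IsSolvable G := by
  haveI := Fintype.ofFinite α
  choose S hx hS using h
  choose k hk using fun x => (hS x).solvable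
  refine ⟨⟨Finset.univ.sup k, eq_bot_iff.mpr fun g hg => eq_one_of_forall_smul (α := α) fun x => ?_⟩⟩
  have := map_derivedSeries_le_derivedSeries (toPermHom G (S x)) (k x)
    ⟨g, derivedSeries_antitone G (Finset.le_sup (Finset.mem_univ x)) hg, rfl⟩
  rw [hk, Subgroup.mem_bot] at this
  exact congrArg (fun σ : Equiv.Perm (S x) => (σ ⟨x, hx x⟩).1) this

theorem exists_closed_finset {α : Type*} [DecidableEq α] (L : Finset (α × α)) (S0 : Finset α) :
    ∃ S : Finset α, S0 ⊆ S ∧ S.card ≤ S0.card + L.card ∧ ∀ e ∈ L, (e.1 ∈ S ↔ e.2 ∈ S) := by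
  induction L using Finset.strongInduction generalizing S0 with
  | H L ih =>
    by_cases h : ∀ e ∈ L, (e.1 ∈ S0 ↔ e.2 ∈ S0)
    · exact ⟨S0, subset_rfl, by omega, h⟩
    push Not at h
    obtain ⟨e, he, hne⟩ := h
    obtain ⟨S, h1, h2, h3⟩ := ih (L.erase e) (Finset.erase_ssubset he) (insert e.1 (insert e.2 S0))
    refine ⟨S, fun x hx => h1 (by simp [hx]), ?_, fun f hf => ?_⟩
    · have := Finset.card_erase_add_one he
      have : (insert e.1 (insert e.2 S0)).card ≤ S0.card + 1 := by
        rcases hne with h | h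
        · rw [Finset.insert_eq_of_mem (by simp [h.1])]; exact Finset.card_insert_le _ _
        · rw [Finset.insert_eq_of_mem h.2]; exact Finset.card_insert_le _ _
      omega
    · by_cases hfe : f = e
      · subst hfe
        exact iff_of_true (h1 (by simp)) (h1 (by simp))
      · exact h3 f (Finset.mem_erase.mpr ⟨hfe, hf⟩)

end Cfsg.Agent.Perm
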