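import Mathlib
import Cfsg.Agent.Perm.Comp
import Cfsg.Agent.S3494

/-!
Extremely primitive groups.
-/

set_option autoImplicit false
set_option linter.unusedSectionVars false

namespace Cfsg.Agent.Perm

open Subgroup MulAction

/-- Extremely primitive with nontrivial point stabilizers. -/
structure XP (G Ω : Type*) [Group G] [MulAction G Ω] : Prop where
  prim : IsPreprimitive G Ω
  ne : ∀ α : Ω, stabilizer G α ≠ ⊥
  ep : ∀ α ω : Ω, IsPreprimitive (stabilizer G α) (orbit (stabilizer G α) ω)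

namespace XP

variable {G Ω : Type*} [Group G] [Finite G] [Fintype Ω] [MulAction G Ω] [FaithfulSMul G Ω]

theorem move (h : XP G Ω) {α β : Ω} (hb : β ≠ α) : ∃ g : G, g • α = α ∧ g • β ≠ β := by
  have := h.prim
  by_contra! hc
  exact h.ne α (stabilizer_eq_bot_of_fix hb.symm hc)

theorem faith (h : XP G Ω) {α β : Ω} (hb : β ≠ α) {g : G} (hg : g • α = α)
    (hf : ∀ k : G, k • α = α → g • k • β = k • β) : g = 1 :=
  congrArg Subtype.val (S3494.result h.prim h.ne h.ep α β hb ⟨g, hg⟩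
    (by rintro _ ⟨k, rfl⟩; exact hf k k.2))

theorem trans (h : XP G Ω) {α : Ω} {R : Subgroup G} (h1 : R ≤ stabilizer G α)
    (h2 : stabilizer G α ≤ normalizer (R : Set G)) (h3 : R ≠ ⊥) (β : Ω) {k : G} (hk : k • α = α) :
    ∃ r ∈ R, r • β = k • β := by
  by_cases hb : β = α
  · exact ⟨1, one_mem _, by rw [hb, hk, one_smul]⟩
  have := h.ep α β
  have := normal_subgroupOf_of_le_normalizer h2
  have h4 : IsPretransitive (R.subgroupOf (stabilizer G α)) (orbit (stabilizer G α) β) :=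
    IsQuasiPreprimitive.isPretransitive_of_normal fun e => h3 (eq_bot_iff.2 fun r hr =>
      h.faith hb (h1 hr) fun k hk => congrArg Subtype.val
        (Set.eq_univ_iff_forall.1 e ⟨k • β, ⟨k, hk⟩, rfl⟩ ⟨⟨r, h1 hr⟩, hr⟩))
  obtain ⟨r, hr⟩ := h4.exists_smul_eq ⟨β, mem_orbit_self β⟩ ⟨k • β, ⟨k, hk⟩, rfl⟩
  exact ⟨r, r.2, congrArg Subtype.val hr⟩

theorem not_fix (h : XP G Ω) {α : Ω} {R : Subgroup G} (h1 : R ≤ stabilizer G α)
    (h2 : stabilizer G α ≤ normalizer (R : Set G)) (h3 : R ≠ ⊥) {β : Ω} (hb : β ≠ α) :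
    ¬ R ≤ stabilizer G β := fun h4 => by
  obtain ⟨g, h5, h6⟩ := h.move hb
  obtain ⟨r, h7, h8⟩ := h.trans h1 h2 h3 β h5
  exact h6 (h8.symm.trans (h4 h7))

theorem isCoatom (h : XP G Ω) {α β : Ω} (hb : β ≠ α) :
    IsCoatom ((stabilizer G β).subgroupOf (stabilizer G α)) := by
  obtain ⟨g, h5, h6⟩ := h.move hb
  have := h.ep α β
  have : Nontrivial (orbit (stabilizer G α) β) := ⟨⟨g • β, ⟨g, h5⟩, rfl⟩, ⟨β, mem_orbit_self β⟩,
    fun h => h6 (congrArg Subtype.val h)⟩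
  convert (isCoatom_stabilizer_iff_preprimitive (stabilizer G α)
    (⟨β, mem_orbit_self β⟩ : orbit (stabilizer G α) β)).2 (h.ep α β) using 1
  ext x
  exact ⟨fun h => Subtype.ext h, fun h => congrArg Subtype.val h⟩

theorem max (h : XP G Ω) {α β : Ω} (hb : β ≠ α) {K : Subgroup G}
    (hK : ∀ g : G, g • α = α → g • β = β → g ∈ K) :
    (∀ g ∈ K, g • α = α → g • β = β) ∨ ∀ g : G, g • α = α → g ∈ K := by
  rcases (h.isCoatom hb).le_iff.1 (show _ ≤ K.subgroupOf _ from fun g hg => hK g g.2 hg)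
    with h1 | h1
  · exact Or.inr fun g hg => h1.ge (mem_top ⟨g, hg⟩)
  · exact Or.inl fun g hg hg' => h1.le (show (⟨g, hg'⟩ : stabilizer G α) ∈ _ from hg)

end XP

end Cfsg.Agent.Perm
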