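import Mathlib
import Cfsg.Agent.Perm.XP
import Cfsg.Agent.Perm.NormalSub
import Cfsg.Agent.H2.Primitive

/-!
Extremely primitive groups, continued.
-/

set_option autoImplicit false
set_option linter.unusedSectionVars false

namespace Cfsg.Agent.Perm

open Subgroup MulAction LocalEven

namespace XP

variable {G Ω : Type*} [Group G] [Finite G] [Fintype Ω] [MulAction G Ω] [FaithfulSMul G Ω]

theorem exists_ne (h : XP G Ω) (α : Ω) : ∃ β, β ≠ α := by
  by_contra! hc
  exact h.ne α (eq_bot_iff.2 fun g _ => eq_of_smul_eq_smul (α := Ω) fun x => (hc _).trans (hc _).symm)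

theorem coreFree (h : XP G Ω) {α β : Ω} (hb : β ≠ α) :
    H2.CoreFree ((stabilizer G β).subgroupOf (stabilizer G α)) :=
  ⟨h.isCoatom hb, eq_bot_iff.2 fun g hg => Subtype.ext (h.faith hb g.2 fun k hk => by
    have := hg (⟨k, hk⟩ : stabilizer G α)⁻¹
    rw [inv_inv] at this
    exact mem_stabilizer_smul_iff.2 this)⟩

theorem irred (h : XP G Ω) {N : Subgroup G} [hN : N.Normal] (hc : IsMulCommutative N) (h0 : N ≠ ⊥)
    {α : Ω} {M : Subgroup G} (h1 : M ≤ stabilizer G α)
    (h2 : stabilizer G α ≤ normalizer (M : Set G)) (h3 : M ≠ ⊥) {L : Subgroup G} (hL : L ≤ N)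
    (hL0 : L ≠ ⊥) (hML : ∀ m ∈ M, ∀ l ∈ L, m * l * m⁻¹ ∈ L) : L = N := by
  have := h.prim
  have htr := normal_trans (Ω := Ω) N h0
  have hreg := regular_of_commute htr fun m hm n hn => Core.comm_of_isMulCommutative hc hm hn
  have key : ∀ k s : G, k • α = α → k • s • α = (k * s * k⁻¹) • α := fun k s hk => by
    rw [mul_smul, mul_smul, inv_smul_eq_iff.2 hk.symm]
  have : L.Normal := ⟨fun l hl g => by
    obtain ⟨n, hn⟩ := htr.exists_smul_eq α (g • α)
    have h4 : ((n : G)⁻¹ * g) • α = α := by rw [mul_smul, inv_smul_eq_iff]; exact hn.symm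
    obtain ⟨m, hm, h5⟩ := h.trans h1 h2 h3 (l • α) h4
    rw [key _ _ h4, key _ _ (h1 hm)] at h5
    have h6 := hML m hm l hl
    have h7 := reg_inj hreg (hL h6) (hN.conj_mem l (hL hl) _) h5
    have h8 : g * l * g⁻¹ = n * (m * l * m⁻¹) * (n : G)⁻¹ := by rw [h7]; group
    rwa [h8, Core.comm_of_isMulCommutative hc n.2 (hL h6), mul_inv_cancel_right]⟩
  refine hL.antisymm fun n hn => ?_
  obtain ⟨l, hl⟩ := (normal_trans (Ω := Ω) L hL0).exists_smul_eq α (n • α)
  exact reg_inj hreg (hL l.2) hn hl ▸ l.2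

/-- An abelian normal subgroup of the point stabilizer is regular on each nontrivial suborbit. -/
theorem card_orbit (h : XP G Ω) {α β : Ω} (hb : β ≠ α) {A : Subgroup (stabilizer G α)} [A.Normal]
    (h0 : A ≠ ⊥) (hc : IsMulCommutative A) :
    Nat.card (orbit (stabilizer G α) β) = Nat.card A := by
  have h1 := (H2.isComplement'_of_normal ((h.coreFree hb).inf_eq_bot_of_comm h0 hc)
    ((h.coreFree hb).sup_eq_top inferInstance h0)).index_eq_card
  rw [← h1, Nat.card_congr (orbitEquivQuotientStabilizer _ β)]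
  rfl

end XP

end Cfsg.Agent.Perm
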