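import Mathlib
import Cfsg.Agent.Perm.CFree
import Cfsg.Agent.Perm.FrobKer
import Cfsg.Agent.S0205

/-!
Linear groups in characteristic two that are primitive and faithful on each orbit of non-zero
vectors.
-/

set_option autoImplicit false
set_option linter.unusedSectionVars false

namespace Cfsg.Agent.Perm

open Subgroup LocalEven MulAction

theorem dens_two {R X : Type*} [Ring R] [AddCommGroup X] [Module R X] [IsSimpleModule R X]
    {x y : X} (h : ∀ s : R, s • x = 0 → s • y = 0 → ∀ z : X, s • z = 0) (z : X) :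
    ∃ φ ψ : Module.End R X, φ x + ψ y = z := by
  classical
  by_contra! hc
  obtain ⟨f, h1, h2⟩ := Submodule.exists_le_ker_of_notMem (K := Module.End R X)
    (p := Submodule.span _ {x, y}) (v := z) fun h =>
      let ⟨φ, ψ, e⟩ := Submodule.mem_span_pair.1 h; hc φ ψ e
  have h0 : z ≠ 0 := by rintro rfl; exact h1 (map_zero f)
  obtain ⟨s, hs⟩ := jacobson_density ((LinearMap.toSpanSingleton _ X z).comp f) {x, y, z}
  have h3 : ∀ w ∈ ({x, y} : Set X), w ∈ ({x, y, z} : Finset X) → s • w = 0 := fun w hw hw' => by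
    rw [← hs w hw', LinearMap.comp_apply, LinearMap.mem_ker.1 (h2 (Submodule.subset_span hw)),
      map_zero]
  have h4 := (hs z (by simp)).trans (h s (h3 x (by simp) (by simp)) (h3 y (by simp) (by simp)) z)
  exact (smul_eq_zero.1 h4).elim h1 h0

theorem comp_invol {G : Type*} [Group G] [Finite G] {T : Subgroup G} (hT : IsComponent T) :
    ∃ a ∈ T, a ≠ 1 ∧ a * a = 1 := by
  have h4 : 2 ∣ Nat.card T := even_iff_two_dvd.1 (Nat.not_odd_iff_even.1 fun ho =>
    Comp2.quasisimple_not_isSolvable hT.2 (S0205.result ho))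
  obtain ⟨a, ha, h5⟩ := Comp2.exists_orderOf_eq_of_dvd_card h4
  exact ⟨a, ha, fun e => by simp [e] at h5, by rw [← pow_two, ← h5, pow_orderOf_eq_one]⟩

variable {H V : Type*} [Group H] [Finite H] [AddCommGroup V] [Finite V] [DistribMulAction H V]

theorem not_two_comp [Nontrivial V] (h2 : ∀ v : V, v + v = 0)
    (hcf : ∀ v : V, v ≠ 0 → H2.CoreFree (stabilizer H v)) (hF : fittingSubgroup H = ⊥)
    {T T' : Subgroup H} (hT : IsComponent T) (hT' : IsComponent T') (hne : T ≠ T') : False := by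
  have neg : ∀ v : V, -v = v := fun v => neg_eq_of_add_eq_zero_left (h2 v)
  have mv : ∀ S : Subgroup H, IsComponent S → ∀ v : V, v ≠ 0 →
      ∃ a ∈ S, a * a = 1 ∧ a • v ≠ v := fun S hS v hv => by
    obtain ⟨a, ha, h1, h3⟩ := comp_invol hS
    by_contra! hc
    refine cf_not_le (hcf v hv) hS ((comp_eq_of_conj hF hS (P := closure {x | x ∈ S ∧ x * x = 1})
      (fun t ht x _ hx => ?_) ha (subset_closure ⟨ha, h3⟩) h1).trans
        ((closure_le _).2 fun x hx => hc x hx.1 hx.2))
    refine (cj_le_iff'.1 ?_) x hx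
    rw [cj_closure]
    refine closure_mono ?_
    rintro _ ⟨y, hy, rfl⟩
    exact ⟨mul_mem (mul_mem ht hy.1) (inv_mem ht), by
      rw [show t * y * t⁻¹ * (t * y * t⁻¹) = t * (y * y) * t⁻¹ by group, hy.2]; group⟩
  let ρ := DistribMulAction.toAddMonoidEnd H V
  let A : Subring (AddMonoid.End V) := Subring.closure (ρ '' T)
  let ι : ∀ t ∈ T, A := fun t ht => ⟨ρ t, Subring.subset_closure ⟨t, ht, rfl⟩⟩
  have hι : ∀ t ht (v : V), ι t ht • v = t • v := fun _ _ _ => rfl
  have sub : ∀ Y : AddSubgroup V, (∀ t ∈ T, ∀ y ∈ Y, t • y ∈ Y) → ∀ s : A, ∀ y ∈ Y, s • y ∈ Y :=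
    fun Y hY ⟨s, hs⟩ => by
      induction hs using Subring.closure_induction with
      | mem x hx => obtain ⟨t, ht, rfl⟩ := hx; exact hY t ht
      | zero => exact fun y _ => Y.zero_mem
      | one => exact fun y hy => hy
      | add a b _ _ h1 h3 => exact fun y hy => Y.add_mem (h1 y hy) (h3 y hy)
      | neg a _ h1 => exact fun y hy => Y.neg_mem (h1 y hy)
      | mul a b _ _ h1 h3 => exact fun y hy => h1 _ (h3 y hy)
  have com : ∀ b ∈ T', ∀ (s : A) (v : V), b • s • v = s • b • v := fun b hb ⟨s, hs⟩ => by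
    induction hs using Subring.closure_induction with
    | mem x hx =>
      obtain ⟨t, ht, rfl⟩ := hx
      intro v
      change b • t • v = t • b • v
      rw [smul_smul, smul_smul, (comp_commute hT hT' hne ht hb).eq]
    | zero => exact fun v => smul_zero b
    | one => exact fun v => rfl
    | add x y _ _ h1 h3 => exact fun v => (smul_add b _ _).trans (congrArg₂ _ (h1 v) (h3 v))
    | neg x _ h1 => exact fun v => (smul_neg b _).trans (congrArg _ (h1 v))
    | mul x y _ _ h1 h3 => exact fun v => (h1 _).trans (congrArg x (h3 v))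
  have : Finite (Submodule A V) := Finite.of_injective _ SetLike.coe_injective
  obtain ⟨X, hX⟩ := IsAtomic.exists_atom (Submodule A V)
  have := isSimpleModule_iff_isAtom.2 hX
  obtain ⟨x, hx, hx0⟩ := (Submodule.ne_bot_iff X).1 hX.1
  obtain ⟨a, ha, haa, hax⟩ := mv T hT x hx0
  have ha1 : a ≠ 1 := fun e => hax (by rw [e, one_smul])
  obtain ⟨v, hv⟩ : ∃ v, v = a • x + x := ⟨_, rfl⟩
  have hvX : v ∈ X := hv ▸ X.add_mem (X.smul_mem (ι a ha) hx) hx
  have hv0 : v ≠ 0 := fun e => hax ((eq_neg_of_add_eq_zero_left (hv ▸ e)).trans (neg x))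
  have hav : a • v = v := by rw [hv, smul_add, smul_smul, haa, one_smul, add_comm]
  obtain ⟨b, hb, hbb, hbv⟩ := mv T' hT' v hv0
  have hab := (comp_commute hT hT' hne ha hb).eq
  obtain ⟨u, hu⟩ : ∃ u, u = a • x + b • x := ⟨_, rfl⟩
  have h3 : a • u + u = b • v + v := by
    rw [hu, hv, smul_add, smul_add, smul_smul, smul_smul, smul_smul, haa, one_smul, hab]
    abel
  have h4 : b • v + v ≠ 0 := fun e => hbv ((eq_neg_of_add_eq_zero_left e).trans (neg v))
  have h5 : a • u ≠ u := fun e => h4 (by rw [← h3, e, h2])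
  have hu0 : u ≠ 0 := fun e => h5 (by rw [e, smul_zero])
  have h6 : (a * b) • u = u := by
    rw [hu, smul_add, smul_smul, smul_smul, mul_assoc, mul_assoc, hbb, mul_one, ← hab, ← mul_assoc,
      haa, one_mul, add_comm]
  let B : V →ₗ[A] V :=
    { toFun := fun w => b • w + w
      map_add' := fun w z => by rw [smul_add]; abel
      map_smul' := fun s w => by rw [com b hb, RingHom.id_apply, smul_add] }
  have key : ∀ s : A, s • (⟨x, hx⟩ : X) = 0 → s • (⟨v, hvX⟩ : X) = 0 → ∀ z : X, s • z = 0 :=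
    fun s h7 h8 z => by
      have h7' : s • x = 0 := congrArg Subtype.val h7
      have h8' : s • v = 0 := congrArg Subtype.val h8
      rw [hv, smul_add, h7', add_zero] at h8'
      let Y₀ : AddSubgroup V :=
        { carrier := {w | ∀ g ∈ T, s • g • w = 0}
          zero_mem' := fun g _ => by rw [smul_zero, smul_zero]
          add_mem' := fun {w z} hw hz g hg => by rw [smul_add, smul_add, hw g hg, hz g hg, add_zero]
          neg_mem' := fun {w} hw g hg => by rw [smul_neg, smul_neg, hw g hg, neg_zero] }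
      let Y : Submodule A V :=
        { Y₀ with
          smul_mem' := fun r w => sub Y₀ (fun t ht y hy g hg => by
            rw [smul_smul g]; exact hy _ (mul_mem hg ht)) r w }
      have h9 : u ∈ Y := fun g hg => by
        obtain ⟨g', hg', h9⟩ := cf_diag (hcf u hu0) hF hT hT' hne ha hb h6 h5 (inv_mem hg)
        rw [mem_stabilizer_iff, mul_smul, inv_smul_eq_iff] at h9
        rw [← h9, ← com g' hg', hu, smul_add, h8', ← com b hb, h7', smul_zero, add_zero, smul_zero]
      have h10 : X ≤ Y.comap B := inf_eq_left.1 ((hX.le_iff.1 inf_le_left).resolve_left fun e =>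
        hv0 (e.le ⟨hvX, show b • v + v ∈ Y from h3 ▸ Y.add_mem (Y.smul_mem (ι a ha) h9) h9⟩))
      have h11 : X ⊓ LinearMap.ker B = ⊥ := (hX.le_iff.1 inf_le_left).resolve_right fun e =>
        h4 (e.ge hvX).2
      refine Subtype.ext (h11.le ⟨X.smul_mem s z.2, ?_⟩)
      have := h10 z.2 1 (one_mem _)
      rw [one_smul] at this
      exact (B.map_smul s z).trans this
  have fr : ∀ g ∈ T, g • v ≠ v → ∀ r ∈ T, r • v = v → r • g • v = g • v → r = 1 :=
    fun g hg h7 r hr h8 h9 => by
      have fx : ∀ r (hr : r ∈ T) (φ : Module.End A X) (w : X), r • (w : V) = w →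
          r • (φ w : V) = φ w := fun r hr φ w h => congrArg Subtype.val
        ((φ.map_smul (ι r hr) w).symm.trans (congrArg φ (Subtype.ext h)))
      have dens := dens_two (R := A) (X := X) key
      obtain ⟨φ, ψ, h10⟩ := dens ⟨g • v, X.smul_mem (ι g hg) hvX⟩
      have h10' : (φ ⟨x, hx⟩ : V) + ψ ⟨v, hvX⟩ = g • v := congrArg Subtype.val h10
      by_cases h11 : φ = 0
      · rw [h11, LinearMap.zero_apply, Submodule.coe_zero, zero_add] at h10'
        refine absurd (inv_mem_iff.1 (cf_norm (hcf v hv0) hF hT ha hav ha1 (inv_mem hg)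
          fun y hy hy' => ?_)) h7
        rw [inv_inv, ← mem_stabilizer_smul_iff, mem_stabilizer_iff, ← h10']
        exact fx y hy ψ _ hy'
      rw [← h10', smul_add, fx r hr ψ _ h8, add_left_inj] at h9
      have h12 : r • x = x := congrArg Subtype.val (LinearMap.injective_of_ne_zero h11
        ((φ.map_smul (ι r hr) ⟨x, hx⟩).trans (Subtype.ext h9)))
      by_contra h13
      let P : Subgroup H :=
        { carrier := {k | ∀ z ∈ X, k • z = z}
          one_mem' := fun z _ => one_smul _ z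
          mul_mem' := fun {k l} hk hl z hz => by rw [mul_smul, hl z hz, hk z hz]
          inv_mem' := fun {k} hk z hz => inv_smul_eq_iff.2 (hk z hz).symm }
      refine cf_not_le (hcf x hx0) hT fun t ht => comp_eq_of_conj hF hT (P := P)
        (fun t ht y _ hy z hz => ?_) hr (fun z hz => ?_) h13 ht x hx
      · rw [mul_smul, mul_smul, hy (t⁻¹ • z) (X.smul_mem (ι _ (inv_mem ht)) hz), smul_inv_smul]
      · obtain ⟨φ, ψ, h⟩ := dens ⟨z, hz⟩
        rw [← show (φ ⟨x, hx⟩ : V) + ψ ⟨v, hvX⟩ = z from congrArg Subtype.val h, smul_add,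
          fx r hr φ _ h12, fx r hr ψ _ h8]
  obtain ⟨c, hc, -, hcv⟩ := mv T hT v hv0
  have : Nontrivial (orbit T v) := ⟨⟨c • v, ⟨c, hc⟩, rfl⟩, ⟨v, mem_orbit_self v⟩,
    fun e => hcv (congrArg Subtype.val e)⟩
  obtain ⟨K, h7, -, h8, h9, -⟩ := frobenius_kernel (G := T) (α := orbit T v) inferInstance
    ⟨⟨a, ha⟩, fun e => ha1 (congrArg Subtype.val e), ⟨v, mem_orbit_self v⟩, Subtype.ext hav⟩ (by
      rintro r ⟨_, g, rfl⟩ ⟨_, k, rfl⟩ h7 h8 h9
      have h8' : (r : H) • (g : H) • v = (g : H) • v := congrArg Subtype.val h8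
      have h9' : (r : H) • (k : H) • v = (k : H) • v := congrArg Subtype.val h9
      have := fr ((g : H)⁻¹ * k) (mul_mem (inv_mem g.2) k.2) (fun e => h7 (Subtype.ext (by
        rw [mul_smul, inv_smul_eq_iff] at e; exact e.symm))) ((g : H)⁻¹ * r * g)
        (mul_mem (mul_mem (inv_mem g.2) r.2) g.2) (mem_stabilizer_smul_iff.1 h8') (by
          simp only [mul_smul, smul_inv_smul, h9'])
      exact Subtype.ext (by simpa [mul_assoc, inv_mul_eq_one, eq_comm] using this))
  have := comp_simple hF hT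
  rcases h7.eq_bot_or_eq_top with rfl | rfl
  · obtain ⟨p, q, h⟩ := exists_pair_ne (orbit T v)
    obtain ⟨k, rfl⟩ := h8.exists_smul_eq p q
    exact h (by rw [Subsingleton.elim k 1, one_smul])
  · exact Comp2.quasisimple_not_isNilpotent hT.2 (Group.nilpotent_of_mulEquiv topEquiv)

end Cfsg.Agent.Perm
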